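import Groth.Agent.EtVanish.UniverseLift
import Mathlib.Algebra.Homology.DerivedCategory.Ext.Map
import Mathlib.Algebra.Homology.ShortComplex.ExactFunctor

/-!
# Sheaf cohomology in two universes, naturally
-/

set_option autoImplicit false
set_option linter.style.haveILetI false
set_option maxHeartbeats 400000
set_option synthInstance.maxHeartbeats 40000

universe u

open CategoryTheory CategoryTheory.Limits Opposite TopologicalSpace CategoryTheory.Abelian

noncomputable section

namespace Groth.Agent.EtTraceLib.GaCmp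

open EtVanish

section Lift

variable {T : Type u} [TopologicalSpace T]

variable (T) in
/-- The constant sheaf `ℤ`. -/
abbrev cZ : Sheaf (Opens.grothendieckTopology T) AddCommGrpCat.{u} :=
  (constantSheaf (Opens.grothendieckTopology T) AddCommGrpCat.{u}).obj (AddCommGrpCat.of (ULift.{u} ℤ))

variable (T) in
/-- The constant sheaf `ℤ`, one universe up. -/
abbrev cZ' : Sheaf (Opens.grothendieckTopology T) AddCommGrpCat.{u + 1} :=
  (constantSheaf (Opens.grothendieckTopology T) AddCommGrpCat.{u + 1}).obj (AddCommGrpCat.of (ULift.{u + 1} ℤ))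

theorem preservesFinite_liftSh :
    PreservesFiniteLimits (liftSh (X := T)) ∧ PreservesFiniteColimits (liftSh (X := T)) := by
  haveI : (liftSh (X := T)).Additive := inferInstance
  exact ((Functor.exact_tfae (liftSh (X := T))).out 0 3).1 fun S hS => shortExact_liftSh hS

/-- The comparison of the constant sheaves in two universes. -/
def liftUnit : cZ' T ⟶ (liftSh (X := T)).obj (cZ T) :=
  ((constantSheafAdj (Opens.grothendieckTopology T) AddCommGrpCat.{u + 1} isTerminalTop).homEquiv _ _).symm
    (AddCommGrpCat.ofHom (X := ULift.{u + 1} ℤ)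
      (AddEquiv.ulift.symm.toAddMonoidHom.comp
        ((((constantSheafAdj (Opens.grothendieckTopology T) AddCommGrpCat.{u} isTerminalTop).homEquiv _ _) (𝟙 (cZ T))).hom.comp
          (AddEquiv.ulift.symm.toAddMonoidHom.comp AddEquiv.ulift.toAddMonoidHom))))

theorem liftUnit_one {F : Sheaf (Opens.grothendieckTopology T) AddCommGrpCat.{u}} (x : cZ T ⟶ F) :
    ((constantSheafAdj (Opens.grothendieckTopology T) AddCommGrpCat.{u + 1} isTerminalTop).homEquiv _ _)
        (liftUnit (T := T) ≫ (liftSh (X := T)).map x) (ULift.up (1 : ℤ)) =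
      ULift.up (((constantSheafAdj (Opens.grothendieckTopology T) AddCommGrpCat.{u} isTerminalTop).homEquiv _ _) x (ULift.up (1 : ℤ))) := by
  rw [Adjunction.homEquiv_naturality_right, liftUnit]
  erw [Equiv.apply_symm_apply]
  have h : ((constantSheafAdj (Opens.grothendieckTopology T) AddCommGrpCat.{u} isTerminalTop).homEquiv _ _) x =
      ((constantSheafAdj (Opens.grothendieckTopology T) AddCommGrpCat.{u} isTerminalTop).homEquiv _ _) (𝟙 (cZ T)) ≫
        ((sheafSections (Opens.grothendieckTopology T) AddCommGrpCat.{u}).obj (op ⊤)).map x := by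
    rw [← Adjunction.homEquiv_naturality_right, Category.id_comp]
  rw [h]
  rfl

variable [HasExt.{u} (Sheaf (Opens.grothendieckTopology T) AddCommGrpCat.{u})] [HasExt.{u + 1} (Sheaf (Opens.grothendieckTopology T) AddCommGrpCat.{u + 1})]
  [EnoughInjectives (Sheaf (Opens.grothendieckTopology T) AddCommGrpCat.{u})]
  [PreservesFiniteLimits (liftSh (X := T))] [PreservesFiniteColimits (liftSh (X := T))]

/-- The lift of a class. -/
def mapLift {A B : Sheaf (Opens.grothendieckTopology T) AddCommGrpCat.{u}} {q : ℕ} (x : Ext.{u} A B q) :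
    Ext.{u + 1} ((liftSh (X := T)).obj A) ((liftSh (X := T)).obj B) q :=
  Ext.mapExactFunctor (liftSh (X := T)) x

/-- The comparison of the cohomology in two universes. -/
def liftMap (F : Sheaf (Opens.grothendieckTopology T) AddCommGrpCat.{u}) (q : ℕ) :
    Sheaf.H.{u} F q →+ Sheaf.H.{u + 1} ((liftSh (X := T)).obj F) q :=
  AddMonoidHom.mk'
    (fun x : Ext.{u} (cZ T) F q => ((Ext.mk₀.{u + 1} (liftUnit (T := T))).comp (mapLift x) (zero_add q) :
      Ext.{u + 1} (cZ' T) ((liftSh (X := T)).obj F) q))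
    fun a b => by rw [mapLift, Ext.mapExactFunctor_add, Ext.comp_add]; rfl

theorem liftMap_apply (F : Sheaf (Opens.grothendieckTopology T) AddCommGrpCat.{u}) (q : ℕ) (x : Ext.{u} (cZ T) F q) :
    liftMap F q x = (Ext.mk₀.{u + 1} (liftUnit (T := T))).comp (mapLift x) (zero_add q) :=
  rfl

theorem liftMap_comp {F G : Sheaf (Opens.grothendieckTopology T) AddCommGrpCat.{u}} (g : F ⟶ G) (q : ℕ) (x : Sheaf.H.{u} F q) :
    liftMap G q (x.comp (Ext.mk₀ g) (add_zero q)) =
      (liftMap F q x).comp (Ext.mk₀ ((liftSh (X := T)).map g)) (add_zero q) := by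
  rw [liftMap_apply, liftMap_apply, mapLift, mapLift, Ext.mapExactFunctor_comp, Ext.mapExactFunctor_mk₀,
    Ext.comp_assoc_of_third_deg_zero]

theorem liftMap_bijective : ∀ (q : ℕ) (F : Sheaf (Opens.grothendieckTopology T) AddCommGrpCat.{u}), Function.Bijective (liftMap F q) := by
  intro q
  induction q with
  | zero =>
    intro F
    have e : ∀ g : cZ T ⟶ F, liftMap F 0 (Ext.mk₀ g) = Ext.mk₀ (liftUnit (T := T) ≫ (liftSh (X := T)).map g) := fun g => by
      rw [liftMap_apply, mapLift, Ext.mapExactFunctor_mk₀, Ext.mk₀_comp_mk₀]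
    let A := constantSheafAdj (Opens.grothendieckTopology T) AddCommGrpCat.{u} (T := (⊤ : Opens T)) isTerminalTop
    let A' := constantSheafAdj (Opens.grothendieckTopology T) AddCommGrpCat.{u + 1} (T := (⊤ : Opens T)) isTerminalTop
    refine ⟨fun a b hab => ?_, fun y => ?_⟩
    · obtain ⟨a, rfl⟩ := (Ext.mk₀_bijective _ _).2 a
      obtain ⟨b, rfl⟩ := (Ext.mk₀_bijective _ _).2 b
      rw [e, e] at hab
      have h1 := congrArg (fun m => (A'.homEquiv _ _ m) (ULift.up (1 : ℤ))) ((Ext.mk₀_bijective _ _).1 hab)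
      have h1 := (liftUnit_one a).symm.trans (h1.trans (liftUnit_one b))
      refine congrArg Ext.mk₀ ((A.homEquiv _ _).injective ?_)
      refine AddCommGrpCat.hom_ext (AddMonoidHom.ext fun n => ?_)
      have hn : n = n.down • ULift.up.{u} (1 : ℤ) := ULift.ext _ _ (by simp)
      rw [hn, map_zsmul, map_zsmul]
      exact congrArg (fun z => n.down • z) (ULift.up_injective h1)
    · obtain ⟨y, rfl⟩ := (Ext.mk₀_bijective _ _).2 y
      let s : F.obj.obj (op ⊤) := (show ULift.{u + 1} (F.obj.obj (op ⊤)) from (A'.homEquiv _ _ y) (ULift.up (1 : ℤ))).down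
      let g : cZ T ⟶ F := (A.homEquiv _ _).symm
        (AddCommGrpCat.ofHom (X := ULift.{u} ℤ) ((zmultiplesHom _ s).comp AddEquiv.ulift.toAddMonoidHom))
      refine ⟨Ext.mk₀ g, (e g).trans (congrArg Ext.mk₀ ((A'.homEquiv _ _).injective ?_))⟩
      refine AddCommGrpCat.hom_ext (AddMonoidHom.ext fun n => ?_)
      have hn : n = n.down • ULift.up.{u + 1} (1 : ℤ) := ULift.ext _ _ (by simp)
      rw [hn, map_zsmul, map_zsmul]
      refine congrArg (fun z => n.down • z) ((liftUnit_one g).trans ?_)
      refine ULift.ext _ _ ?_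
      show (A.homEquiv _ _) g (ULift.up (1 : ℤ)) = s
      simp only [g, Equiv.apply_symm_apply]
      exact one_zsmul s
  | succ q ih =>
    intro F
    let C := ShortComplex.mk (Injective.ι F) (cokernel.π (Injective.ι F)) (cokernel.condition _)
    have hC : C.ShortExact := { exact := ShortComplex.exact_of_g_is_cokernel C (cokernelIsCokernel _) }
    haveI : Injective C.X₂ := Injective.injective_under F
    have hL := hC.map_of_exact (liftSh (X := T))
    haveI : Injective (C.map (liftSh (X := T))).X₂ := injective_liftSh C.X₂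
    have hδ : ∀ y : Sheaf.H.{u} C.X₃ q, liftMap F (q + 1) (y.comp hC.extClass rfl) =
        (liftMap C.X₃ q y).comp hL.extClass rfl := fun y => by
      rw [liftMap_apply, liftMap_apply, mapLift, mapLift, Ext.mapExactFunctor_comp, Ext.mapExactFunctor_extClass]
      exact (Ext.comp_assoc _ _ _ (zero_add q) rfl (by omega)).symm
    refine ⟨(injective_iff_map_eq_zero _).2 fun x hx => ?_, fun x' => ?_⟩
    · obtain ⟨y, rfl⟩ := Ext.covariant_sequence_exact₁ _ hC x (Ext.eq_zero_of_injective _) rfl
      rw [hδ] at hx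
      obtain ⟨z', hz'⟩ := Ext.covariant_sequence_exact₃ _ hL _ rfl hx
      obtain ⟨z, rfl⟩ := (ih C.X₂).2 z'
      have hy : y = z.comp (Ext.mk₀ C.g) (add_zero q) := (ih C.X₃).1 (hz'.symm.trans (liftMap_comp C.g q z).symm)
      rw [hy, Ext.comp_assoc_of_second_deg_zero, hC.comp_extClass, Ext.comp_zero]
    · obtain ⟨y', hy'⟩ := Ext.covariant_sequence_exact₁ _ hL x' (Ext.eq_zero_of_injective _) rfl
      obtain ⟨y, rfl⟩ := (ih C.X₃).2 y'
      exact ⟨y.comp hC.extClass rfl, (hδ y).trans hy'⟩

end Lift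

end Groth.Agent.EtTraceLib.GaCmp
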