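import Groth.Agent.EtTraceLib.Trace
import Groth.Agent.ExtAdj.Basic
import Groth.Agent.ExtNatLib.Basic
import Groth.Agent.S0071
import Groth.Prelude.Def_EtCore

/-!
# Restriction followed by trace on cohomology
-/

set_option autoImplicit false
set_option backward.isDefEq.respectTransparency false
set_option backward.isDefEq.respectTransparency.types false
set_option linter.style.haveILetI false
set_option maxHeartbeats 1000000

universe w₁ w₂ w₃ v₁ v₂ v₃ u₁ u₂ u₃ u

open CategoryTheory CategoryTheory.Limits AlgebraicGeometry Opposite CategoryTheory.Abelian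

noncomputable section

namespace Groth.Agent.EtTraceLib

section Ext

variable {C : Type u₁} [Category.{v₁} C] [Abelian C] [HasExt.{w₁} C] [EnoughInjectives C]
  {D : Type u₂} [Category.{v₂} D] [Abelian D] [HasExt.{w₂} D]
  {E : Type u₃} [Category.{v₃} E] [Abelian E] [HasExt.{w₃} E]
  (F : C ⥤ D) [F.Additive] [PreservesFiniteLimits F] [PreservesFiniteColimits F]
  (G : D ⥤ E) [G.Additive] [PreservesFiniteLimits G] [PreservesFiniteColimits G]
  [PreservesFiniteLimits (F ⋙ G)] [PreservesFiniteColimits (F ⋙ G)]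

theorem mapExactFunctor_functor_comp (n : ℕ) {X Y : C} (x : Ext X Y n) :
    x.mapExactFunctor (F ⋙ G) = (x.mapExactFunctor F).mapExactFunctor G := by
  induction n generalizing Y with
  | zero =>
    obtain ⟨f, rfl⟩ := (Ext.mk₀_bijective X Y).2 x
    rw [Ext.mapExactFunctor_mk₀, Ext.mapExactFunctor_mk₀, Ext.mapExactFunctor_mk₀]
    rfl
  | succ n ih =>
    obtain ⟨J⟩ := EnoughInjectives.presentation Y
    let S : ShortComplex C := ShortComplex.mk J.f (cokernel.π J.f) (cokernel.condition _)
    have hS : S.ShortExact :=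
      { exact := ShortComplex.exact_of_g_is_cokernel _ (cokernelIsCokernel _) }
    haveI : Injective S.X₂ := J.injective
    obtain ⟨y, rfl⟩ : ∃ y : Ext X S.X₃ n, y.comp hS.extClass rfl = x :=
      Ext.covariant_sequence_exact₁ X hS x (Ext.eq_zero_of_injective (I := S.X₂) _) rfl
    have e1 := Ext.mapExactFunctor_extClass (F ⋙ G) hS
    have e2 := Ext.mapExactFunctor_extClass F hS
    have e3 := Ext.mapExactFunctor_extClass G (hS.map_of_exact F)
    rw [Ext.mapExactFunctor_comp, e1, Ext.mapExactFunctor_comp, e2]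
    refine Eq.trans ?_ (Ext.mapExactFunctor_comp G (y.mapExactFunctor F) (hS.map_of_exact F).extClass rfl).symm
    rw [e3]
    exact congrArg (fun z => Ext.comp z ((hS.map_of_exact F).map_of_exact G).extClass rfl) (ih y)

end Ext

variable {X' X : Scheme.{u}} (π : X' ⟶ X)

theorem hpull_eq_zero_iff [PreservesFiniteLimits (EtCoh.pull π)] (F : EtCoh.Ab X) (n : ℕ) (α : EtCoh.H X F n) :
    EtCore.Hpull π F n α = 0 ↔ Ext.mapExactFunctor (EtCoh.pull π) α = 0 := by
  show (Ext.mk₀ (EtCore.pullConst π ℤ).inv).comp (Ext.mapExactFunctor (EtCoh.pull π) α) (zero_add n) = 0 ↔ _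
  refine ⟨fun h => ?_, fun h => by rw [h, Ext.comp_zero]⟩
  have := congrArg (fun z => (Ext.mk₀ (EtCore.pullConst π ℤ).hom).comp z (zero_add n)) h
  simp only [Ext.comp_zero, Ext.mk₀_comp_mk₀_assoc, Iso.hom_inv_id, Ext.mk₀_id_comp] at this
  exact this

variable [IsFinite π] [AlgebraicGeometry.Etale π]

theorem smul_eq_zero_of_pull_eq_zero [PreservesFiniteLimits (EtCoh.pull π)] {d : ℕ} (hd : HasDegree π d)
    {A F : EtCoh.Ab X} (n : ℕ) (α : Ext A F n) (h : Ext.mapExactFunctor (EtCoh.pull π) α = 0) : d • α = 0 := by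
  haveI := EtJCont.jCont π
  have hac : SpSeqLib.IsAcyclicFor (EtCoh.push π) ((EtCoh.pull π).obj F) :=
    fun p => Groth.Agent.S0071.result π _ (p + 1) (Nat.succ_pos p)
  let adj := EtCoh.pullPushAdj π
  let e := α.comp (Ext.mk₀ (adj.unit.app F)) (add_zero n)
  have he : e = 0 := by
    refine (ExtAdj.transpose_bijective adj A _ hac n).1 ?_
    have h1 : ExtAdj.transpose adj A _ n e = 0 := by
      rw [ExtAdj.transpose, Ext.mapExactFunctor_comp, Ext.mapExactFunctor_mk₀, h, Ext.zero_comp, Ext.zero_comp]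
    have h2 : ExtAdj.transpose adj A ((EtCoh.pull π).obj F) n (0 : Ext A _ n) = 0 := by
      rw [ExtAdj.transpose, Ext.mapExactFunctor_zero, Ext.zero_comp]
    exact h1.trans h2.symm
  have h2 := congrArg (fun z => z.comp (Ext.mk₀ ((pushPullAdj π).counit.app F)) (add_zero n)) he
  simp only [Ext.zero_comp, e, Ext.comp_assoc_of_second_deg_zero, Ext.mk₀_comp_mk₀] at h2
  rw [unit_counit π hd F] at h2
  refine Eq.trans ?_ h2
  let c : Ext F F 0 →+ Ext A F n := AddMonoidHom.mk' (fun z => α.comp z (add_zero n)) fun a b => Ext.comp_add _ _ _ _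
  show d • α = c (Ext.addEquiv₀.symm (d • 𝟙 F))
  rw [map_nsmul, map_nsmul]
  exact congrArg (d • ·) (Ext.comp_mk₀_id α).symm

/-- Classes killed by a finite étale covering of degree `d` are killed by `d`. -/
theorem nsmul_eq_zero_of_hpull [PreservesFiniteLimits (EtCoh.pull π)] {d : ℕ} (hd : HasDegree π d)
    (F : EtCoh.Ab X) (n : ℕ) (α : EtCoh.H X F n) (h : EtCore.Hpull π F n α = 0) : d • α = 0 :=
  smul_eq_zero_of_pull_eq_zero π hd n α ((hpull_eq_zero_iff π F n α).1 h)

end Groth.Agent.EtTraceLib
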