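import Groth.Agent.EtTraceLib.Hilbert90
import Groth.Prelude.Def_GSzGalSym
import Mathlib.CategoryTheory.Abelian.Basic

/-!
# Elementary consequences for Galois cohomology
-/

set_option autoImplicit false
set_option backward.isDefEq.respectTransparency false
set_option backward.isDefEq.respectTransparency.types false
set_option linter.style.haveILetI false
set_option maxHeartbeats 1000000

universe u

open CategoryTheory CategoryTheory.Limits AlgebraicGeometry Opposite CategoryTheory.Abelian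

noncomputable section

namespace Groth.Agent.EtTraceLib

open EtPtsLib

variable (k : Type u) [Field k]

/-- The Kummer class map is surjective. -/
theorem kumClass_surjective (m : ℕ) (hm : Epi (EtCoh.powMap (Spec (CommRingCat.of k)) m)) :
    Function.Surjective (fun a : kˣ => GalSym.kumClass hm (GalSym.specUnit k a)) := by
  intro x
  let X := Spec (CommRingCat.of k)
  let hS := EtSix.kummerShortExact (X := X) (n := m) hm
  obtain ⟨y, rfl⟩ : ∃ y : Ext (EtCoh.const X ℤ) (EtCoh.Gm X) 0, y.comp hS.extClass rfl = x :=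
    Ext.covariant_sequence_exact₁ _ hS x (H1_Gm_eq_zero k _) rfl
  obtain ⟨b, rfl⟩ := (Ext.mk₀_bijective _ _).2 y
  let q : ULift.{u + 1} (Additive ((Γ(X, ⊤) : Type u)ˣ)) :=
    (EtCore.constAdj X).homEquiv _ _ b (ULift.up.{u + 1} (1 : ℤ))
  obtain ⟨a, ha⟩ : ∃ a : kˣ, GalSym.specUnit k a = Additive.toMul q.down := by
    refine ⟨Units.map (Scheme.ΓSpecIso (CommRingCat.of k)).hom.hom.toMonoidHom (Additive.toMul q.down), Units.ext ?_⟩
    exact ConcreteCategory.congr_hom (Scheme.ΓSpecIso (CommRingCat.of k)).hom_inv_id _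
  refine ⟨a, ?_⟩
  have hb : GalSym.unitMor X (GalSym.specUnit k a) = b := by
    apply ((EtCore.constAdj X).homEquiv _ _).injective
    rw [GalSym.unitMor, Equiv.apply_symm_apply]
    refine AddCommGrpCat.hom_ext (AddMonoidHom.ext fun n => ?_)
    have hn : n = n.down • ULift.up.{u + 1} (1 : ℤ) := ULift.ext _ _ (by simp)
    rw [GalSym.unitHom_apply, ha]
    conv_rhs => rw [hn, map_zsmul]
    rfl
  show GalSym.kumClass hm (GalSym.specUnit k a) = _
  rw [← hb]
  rfl

theorem isTorsion_of_nsmul_id_eq_zero {X : Scheme.{u}} {A : EtCoh.Ab X} {N : ℕ} (hN : 0 < N) (h : N • 𝟙 A = 0) :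
    EtCoh.IsTorsion A := fun U s x =>
  ⟨U, 𝟙 U, ⟨x, rfl⟩, isOfFinAddOrder_iff_nsmul_eq_zero.2 ⟨N, hN, by
    rw [op_id, CategoryTheory.Functor.map_id]
    exact ConcreteCategory.congr_hom (congrArg (fun m => m.hom.app (op U)) h) s⟩⟩

theorem comp_mk₀_nsmul_id {X : Scheme.{u}} {A F : EtCoh.Ab X} (N : ℕ) {q : ℕ} (z : Ext A F q) :
    z.comp (Ext.mk₀ (N • 𝟙 F)) (add_zero q) = N • z := by
  let c : Ext F F 0 →+ Ext A F q := AddMonoidHom.mk' (fun w => z.comp w (add_zero q)) fun a b => Ext.comp_add _ _ _ _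
  show c (Ext.addEquiv₀.symm (N • 𝟙 F)) = _
  rw [map_nsmul, map_nsmul]
  exact congrArg (N • ·) (Ext.comp_mk₀_id z)

theorem nsmul_ext_eq_zero {X : Scheme.{u}} {A F : EtCoh.Ab X} {N : ℕ} (h : N • 𝟙 F = 0) {q : ℕ} (z : Ext A F q) :
    N • z = 0 := by
  rw [← comp_mk₀_nsmul_id, h, Ext.mk₀_zero, Ext.comp_zero]

/-- Arbitrary coefficients raise the cohomological dimension by at most one. -/
theorem eq_zero_above_cd_succ (p : ℕ) [Fact p.Prime] (n : ℕ)
    (hcd : ∀ (F : EtCoh.Ab (Spec (CommRingCat.of k))), EtCoh.IsTorsion F → ∀ q : ℕ, n < q →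
        ∀ x : EtCoh.H (Spec (CommRingCat.of k)) F q, (∃ m : ℕ, p ^ m • x = 0) → x = 0)
    (F : EtCoh.Ab (Spec (CommRingCat.of k))) (q : ℕ) (hq : n + 1 < q)
    (x : EtCoh.H (Spec (CommRingCat.of k)) F q) (hx : ∃ m : ℕ, p ^ m • x = 0) : x = 0 := by
  obtain ⟨m, hm⟩ := hx
  obtain ⟨r, rfl⟩ : ∃ r, q = r + 1 := ⟨q - 1, by omega⟩
  let N := p ^ m
  have hN : 0 < N := pow_pos (Fact.out : p.Prime).pos m
  let φ : F ⟶ F := N • 𝟙 F
  have hcd' : ∀ (A : EtCoh.Ab (Spec (CommRingCat.of k))), N • 𝟙 A = 0 → ∀ s, n < s →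
      ∀ z : EtCoh.H (Spec (CommRingCat.of k)) A s, z = 0 := fun A hA s hs z =>
    hcd A (isTorsion_of_nsmul_id_eq_zero hN hA) s hs z ⟨m, nsmul_ext_eq_zero hA z⟩
  let S₁ : ShortComplex (EtCoh.Ab (Spec (CommRingCat.of k))) :=
    ShortComplex.mk (kernel.ι φ) (cokernel.π (kernel.ι φ)) (cokernel.condition _)
  have hS₁ : S₁.ShortExact := { exact := S₁.exact_of_g_is_cokernel (cokernelIsCokernel _) }
  let j := Abelian.factorThruCoimage φ
  let S₂ : ShortComplex (EtCoh.Ab (Spec (CommRingCat.of k))) :=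
    ShortComplex.mk j (cokernel.π j) (cokernel.condition _)
  have hS₂ : S₂.ShortExact := { exact := S₂.exact_of_g_is_cokernel (cokernelIsCokernel _) }
  have hfac : S₁.g ≫ j = φ := Abelian.coimage.fac φ
  have hK : N • 𝟙 S₁.X₁ = 0 := by
    refine (cancel_mono (kernel.ι φ)).1 ?_
    rw [zero_comp, Preadditive.nsmul_comp, Category.id_comp, ← Category.comp_id (kernel.ι φ), ← Preadditive.comp_nsmul]
    exact kernel.condition φ
  have hC : N • 𝟙 S₂.X₃ = 0 := by
    refine (cancel_epi (cokernel.π j)).1 ?_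
    rw [comp_zero, Preadditive.comp_nsmul, Category.comp_id, ← Category.id_comp (cokernel.π j), ← Preadditive.nsmul_comp]
    show φ ≫ cokernel.π j = 0
    exact ((congrArg (· ≫ cokernel.π j) hfac).symm.trans (Category.assoc _ _ _)).trans
      ((congrArg (S₁.g ≫ ·) (cokernel.condition j)).trans comp_zero)
  let y := x.comp (Ext.mk₀ S₁.g) (add_zero (r + 1))
  have hy : y.comp (Ext.mk₀ S₂.f) (add_zero (r + 1)) = 0 := by
    rw [Ext.comp_assoc_of_second_deg_zero, Ext.mk₀_comp_mk₀]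
    exact (congrArg (fun w => x.comp (Ext.mk₀ w) (add_zero (r + 1))) hfac).trans ((comp_mk₀_nsmul_id N x).trans hm)
  obtain ⟨z, hz⟩ := Ext.covariant_sequence_exact₁ _ hS₂ y hy rfl
  have hy0 : y = 0 := by rw [← hz, hcd' _ hC r (by omega) z, Ext.zero_comp]
  obtain ⟨w, rfl⟩ := Ext.covariant_sequence_exact₂ _ hS₁ x hy0
  rw [hcd' _ hK (r + 1) (by omega) w, Ext.zero_comp]

/-- The constant sheaf functor. -/
abbrev cstFunctor : AddCommGrpCat.{u + 1} ⥤ EtCoh.Ab (Spec (CommRingCat.of k)) :=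
  constantSheaf (Spec (CommRingCat.of k)).smallEtaleTopology AddCommGrpCat.{u + 1}

instance : PreservesFiniteLimits (cstFunctor k) := by
  unfold cstFunctor constantSheaf
  infer_instance

instance : PreservesFiniteColimits (cstFunctor k) := by
  unfold cstFunctor constantSheaf
  infer_instance

instance : (cstFunctor k).Additive := Functor.additive_of_preserves_binary_products _

theorem nonempty_constInt_equiv_ratModInt (i : ℕ) (hi : 2 ≤ i) :
    Nonempty (EtCoh.H (Spec (CommRingCat.of k)) (EtCoh.const (Spec (CommRingCat.of k)) ℤ) i ≃+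
      EtCoh.H (Spec (CommRingCat.of k))
        (EtCoh.const (Spec (CommRingCat.of k)) (ℚ ⧸ AddSubgroup.zmultiples (1 : ℚ))) (i - 1)) := by
  obtain ⟨j, rfl⟩ : ∃ j, i = j + 1 := ⟨i - 1, by omega⟩
  let f₀ : ℤ →+ ℚ := Int.castAddHom ℚ
  let g₀ : ℚ →+ ℚ ⧸ AddSubgroup.zmultiples (1 : ℚ) := QuotientAddGroup.mk' _
  let up {A B : Type} [AddCommGroup A] [AddCommGroup B] (f : A →+ B) :
      AddCommGrpCat.of (ULift.{u + 1} A) ⟶ AddCommGrpCat.of (ULift.{u + 1} B) :=
    AddCommGrpCat.ofHom (AddEquiv.ulift.symm.toAddMonoidHom.comp (f.comp AddEquiv.ulift.toAddMonoidHom))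
  let T : ShortComplex AddCommGrpCat.{u + 1} := ShortComplex.mk (up f₀) (up g₀) (by
    refine AddCommGrpCat.hom_ext (AddMonoidHom.ext fun x => ULift.ext _ _ ?_)
    exact (QuotientAddGroup.eq_zero_iff _).2 ⟨x.down, zsmul_one _⟩)
  have hT : T.ShortExact :=
    { exact := by
        rw [ShortComplex.ab_exact_iff]
        intro x hx
        obtain ⟨a, ha⟩ := (QuotientAddGroup.eq_zero_iff _).1 (congrArg ULift.down hx)
        exact ⟨ULift.up a, ULift.ext _ _ ((zsmul_one (R := ℚ) a).symm.trans ha)⟩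
      mono_f := (AddCommGrpCat.mono_iff_injective _).2 fun a b hab =>
        ULift.ext _ _ (Int.cast_injective (α := ℚ) (congrArg ULift.down hab))
      epi_g := (AddCommGrpCat.epi_iff_surjective _).2 fun b => by
        obtain ⟨c, hc⟩ := QuotientAddGroup.mk'_surjective _ b.down
        exact ⟨ULift.up c, ULift.ext _ _ hc⟩ }
  have hS := hT.map_of_exact (cstFunctor k)
  have hdiv : ∀ N : ℕ, 0 < N → IsIso (N • 𝟙 (T.map (cstFunctor k)).X₂) := fun N hN => by
    haveI : IsIso (N • 𝟙 T.X₂) := (ConcreteCategory.isIso_iff_bijective _).2 (by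
      show Function.Bijective fun x : ULift.{u + 1} ℚ => N • x
      refine Function.bijective_iff_has_inverse.2 ⟨fun x => ULift.up (x.down / N), fun x => ?_, fun x => ?_⟩ <;>
        ext <;> simp [mul_div_assoc, (Nat.pos_iff_ne_zero.1 hN)] <;> field_simp)
    have : N • 𝟙 (T.map (cstFunctor k)).X₂ = (cstFunctor k).map (N • 𝟙 T.X₂) := by
      rw [Functor.map_nsmul, CategoryTheory.Functor.map_id]
      rfl
    rw [this]
    infer_instance
  let δ := hS.extClass.postcomp (EtCoh.const (Spec (CommRingCat.of k)) ℤ) (rfl : j + 1 = j + 1)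
  have hz : ∀ s, 0 < s → ∀ z : EtCoh.H (Spec (CommRingCat.of k)) (T.map (cstFunctor k)).X₂ s, z = 0 :=
    fun s hs z => eq_zero_of_uniquely_divisible k _ hdiv s hs z
  have hbij : Function.Bijective δ := by
    refine ⟨(injective_iff_map_eq_zero δ).2 fun z hz' => ?_, fun x => ?_⟩
    · obtain ⟨w, rfl⟩ := Ext.covariant_sequence_exact₃ _ hS z rfl hz'
      rw [hz j (by omega) w, Ext.zero_comp]
    · exact Ext.covariant_sequence_exact₁ _ hS x (hz _ (Nat.succ_pos j) _) rfl
  exact ⟨(AddEquiv.ofBijective δ hbij).symm⟩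

end Groth.Agent.EtTraceLib
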