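import Groth.Agent.EtTraceLib.Split
import Groth.Agent.ShriekLib.Proper
import Groth.Agent.ShriekLib.Graph
import Groth.Agent.EtPtsLib.OpenShriek
import Groth.Agent.EtPointClass.Fibre
import Groth.Agent.EtJCont.Basic

/-!
# The trace of a finite étale morphism
-/

set_option autoImplicit false
set_option backward.isDefEq.respectTransparency false
set_option backward.isDefEq.respectTransparency.types false
set_option linter.style.haveILetI false
set_option maxHeartbeats 1000000

universe u

open CategoryTheory CategoryTheory.Limits AlgebraicGeometry Opposite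

noncomputable section

namespace Groth.Agent.EtTraceLib

open EtPtsLib ShriekLib

variable {X' X : Scheme.{u}} (π : X' ⟶ X) [IsFinite π] [AlgebraicGeometry.Etale π] [EtShriek.JCont π]

/-- Extension by zero along a finite étale morphism is the direct image. -/
def extZeroPushIso : EtShriek.extZero π ≅ EtCoh.push π :=
  haveI : LocallyQuasiFinite π := EtPointClass.lqf_of_etale π
  haveI := ShriekLib.isIso_extZeroToLowerShriek π
  asIso (ShriekLib.extZeroToLowerShriek π) ≪≫ ShriekLib.lowerShriekPushIso π

/-- The trace, on the restriction. -/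
def tr : EtShriek.restrAlong π ⋙ EtCoh.push π ⟶ 𝟭 (EtCoh.Ab X) :=
  Functor.whiskerLeft (EtShriek.restrAlong π) (extZeroPushIso π).inv ≫ (EtShriek.extZeroAdj π).counit

theorem lShriekIso_hom_app (G : EtCoh.Ab X') :
    ((lShriekIso π).hom.app G).hom =
      CategoryTheory.toSheafify X.smallEtaleTopology (EtShriek.lowerShriekPre π G) :=
  congrArg (fun (a : lShriek π ⋙ sheafToPresheaf _ _ ⟶ EtShriek.lowerShriek π ⋙ sheafToPresheaf _ _) => a.app G)
    (((fullyFaithfulSheafToPresheaf X.smallEtaleTopology AddCommGrpCat.{u + 1}).whiskeringRight _).map_preimage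
      (X := lShriek π) (Y := EtShriek.lowerShriek π) (lowerShriekForgetIso π).hom)

theorem extZeroPushIso_unit (G : EtCoh.Ab X') (W : X'.Etale) (t : EtCoh.sect G W) :
    ((extZeroPushIso π).hom.app G).hom.app (op ((EtShriek.compEtale π).obj W))
        (((EtShriek.extZeroAdj π).unit.app G).hom.app (op W) t) = graphExt π G t := by
  have hadj : ((EtShriek.extZeroAdj π).unit.app G).hom.app (op W) ≫
      ((extZeroToLowerShriek π).app G).hom.app (op ((EtShriek.compEtale π).obj W)) =
      ((toRestr π).app G).hom.app (op W) := by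
    have h := ((EtShriek.extZeroAdj π).homEquiv G _).apply_symm_apply ((toRestr π).app G)
    rw [Adjunction.homEquiv_unit] at h
    exact congrArg (fun m => m.hom.app (op W)) h
  show ((lShriekι π).app G).hom.app _ (((lShriekIso π).inv.app G).hom.app _
    (((extZeroToLowerShriek π).app G).hom.app _ (((EtShriek.extZeroAdj π).unit.app G).hom.app (op W) t))) = _
  rw [show ((extZeroToLowerShriek π).app G).hom.app _ (((EtShriek.extZeroAdj π).unit.app G).hom.app (op W) t) =
    ((toRestr π).app G).hom.app (op W) t from ConcreteCategory.congr_hom hadj t]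
  show ((lShriekι π).app G).hom.app _ (((lShriekIso π).inv.app G).hom.app _
    ((CategoryTheory.toSheafify X.smallEtaleTopology (EtShriek.lowerShriekPre π G)).app _ (graphPre π G W t))) = _
  rw [← lShriekIso_hom_app π G]
  exact (congrArg (((lShriekι π).app G).hom.app (op ((EtShriek.compEtale π).obj W))) (ConcreteCategory.congr_hom
      (congrArg (fun m => m.hom.app (op ((EtShriek.compEtale π).obj W))) ((lShriekIso π).hom_inv_id_app G)) _)).trans rfl

theorem restrPushAdj_unit (F : EtCoh.Ab X) (V : X.Etale) (s : EtCoh.sect F V) :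
    ((restrPushAdj π).unit.app F).hom.app (op V) s = F.obj.map ((compBcAdj π).counit.app V).op s := rfl

/-- On a split étale scheme the unit followed by the trace is multiplication by the degree. -/
theorem tr_unit_of_splitting {d : ℕ} (F : EtCoh.Ab X) {V : X.Etale} (S : Splitting π d V) (s : EtCoh.sect F V) :
    ((tr π).app F).hom.app (op V) (((restrPushAdj π).unit.app F).hom.app (op V) s) = d • s := by
  let B := (EtCoh.bc π).obj V
  let ε : (EtShriek.compEtale π).obj B ⟶ V := (compBcAdj π).counit.app V
  have hε : ε.left = pullback.fst V.hom π := Category.id_comp _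
  haveI : AlgebraicGeometry.Etale (pullback.fst V.hom π) := inferInstance
  haveI hoi : ∀ i, IsOpenImmersion (S.σ i) := fun i => by
    haveI : AlgebraicGeometry.Etale (S.σ i ≫ pullback.fst V.hom π) := by rw [S.σ_fst]; infer_instance
    haveI : AlgebraicGeometry.Etale (S.σ i) := Etale.of_comp (S.σ i) (pullback.fst V.hom π)
    haveI : Mono (S.σ i) := mono_of_mono_fac (S.σ_fst i)
    exact IsOpenImmersion.of_flat_of_mono _
  let R : Fin d → B.left.Opens := fun i => (S.σ i).opensRange
  let W : Fin d → X'.Etale := fun i => openSub B (R i)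
  let inc : ∀ i, W i ⟶ B := fun i => openIncl B (R i)
  let l : ∀ i, V.left ⟶ (R i).toScheme := fun i => IsOpenImmersion.lift (R i).ι (S.σ i) (by
    rintro _ ⟨v, rfl⟩; exact ⟨⟨_, v, rfl⟩, rfl⟩)
  have hl : ∀ i, l i ≫ (R i).ι = S.σ i := fun i => IsOpenImmersion.lift_fac _ _ _
  let e : ∀ i, V ⟶ (EtShriek.compEtale π).obj (W i) := fun i => MorphismProperty.Over.homMk (l i) (by
    show l i ≫ ((R i).ι ≫ pullback.snd V.hom π) ≫ π = V.hom
    rw [Category.assoc, ← pullback.condition, ← Category.assoc, hl, ← Category.assoc, S.σ_fst, Category.id_comp])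
  let q : ∀ i, (EtShriek.compEtale π).obj (W i) ⟶ V := fun i => (EtShriek.compEtale π).map (inc i) ≫ ε
  have heq : ∀ i, e i ≫ q i = 𝟙 V := fun i => MorphismProperty.Over.Hom.ext (by
    show l i ≫ (R i).ι ≫ ε.left = 𝟙 _
    rw [hε, ← Category.assoc, hl, S.σ_fst])
  have hqe : ∀ i, q i ≫ e i = 𝟙 _ := fun i => MorphismProperty.Over.Hom.ext (by
    show ((R i).ι ≫ ε.left) ≫ l i = 𝟙 _
    haveI : Surjective (l i) := ⟨fun r => by
      obtain ⟨v, hv⟩ := r.2
      exact ⟨v, (R i).ι.isOpenEmbedding.injective ((congrArg (fun m => m v) (hl i)).trans hv)⟩⟩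
    haveI : IsOpenImmersion (l i) := by
      haveI : IsOpenImmersion (l i ≫ (R i).ι) := by rw [hl]; infer_instance
      exact IsOpenImmersion.of_comp _ (R i).ι
    haveI : IsIso (l i) := (isIso_iff_isOpenImmersion_and_surjective _).2 ⟨inferInstance, inferInstance⟩
    have h1 : l i ≫ (R i).ι ≫ ε.left = 𝟙 _ := by rw [hε, ← Category.assoc, hl, S.σ_fst]
    rw [← cancel_epi (l i), ← Category.assoc, h1, Category.id_comp, Category.comp_id])
  haveI : ∀ i, IsIso (e i) := fun i => ⟨q i, heq i, hqe i⟩
  haveI : ∀ i, IsIso ((EtCoh.bc π).map (e i)) := fun i => inferInstance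
  let G := (EtShriek.restrAlong π).obj F
  let us : EtCoh.sect G B := F.obj.map ε.op s
  let t : ∀ i, EtCoh.sect G (W i) := fun i => G.obj.map (inc i).op us
  let z : Fin d → EtCoh.sect G B := fun i => G.obj.map ((EtCoh.bc π).map (e i)).op (graphExt π G (t i))
  -- the pieces glue to the restriction
  have hgr : ∀ i, inc i ≫ (EtCoh.bc π).map (e i) = graph π (W i) := fun i => by
    refine bc_hom_ext π ?_
    refine ((Category.assoc _ _ _).trans (congrArg ((inc i).left ≫ ·) (bcFst_map π (e i)))).trans ?_
    refine Eq.trans ?_ (graph_fst π (W i)).symm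
    have := congrArg (fun m => m.left) (hqe i)
    refine Eq.trans ?_ this
    exact (Category.assoc _ _ _).symm.trans (congrArg (fun m => ((R i).ι ≫ m) ≫ l i) hε.symm)
  have hz : ∀ i j, G.obj.map (inc j).op (z i) = if i = j then t j else 0 := fun i j => by
    by_cases hij : i = j
    · subst hij
      rw [if_pos rfl, ← ConcreteCategory.comp_apply, ← Functor.map_comp, ← op_comp, hgr]
      exact (isGraphExt π G (t i)).1
    · rw [if_neg hij]
      refine sect_ext G _ _ _ fun Ω _ _ ζ y => ?_
      rw [show germ ζ G y (G.obj.map (inc j).op (z i)) = germ ζ G ((Scheme.pointSmallEtale ζ).fiber.map (inc j) y) (z i) from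
        germ_map ζ G (inc j) y (z i), show germ ζ G y (0 : EtCoh.sect G (W j)) = 0 from map_zero _]
      refine (germ_eq_zero_iff ζ G _ _).2 fun hs => hij ?_
      rw [show z i = G.obj.map ((EtCoh.bc π).map (e i)).op (graphExt π G (t i)) from rfl, sectSupp_map] at hs
      obtain ⟨w, hw⟩ := (isGraphExt π G (t i)).2 hs
      rw [← hgr i] at hw
      have hinj : Function.Injective ((EtCoh.bc π).map (e i)).left := by
        haveI : IsIso ((EtCoh.bc π).map (e i)).left :=
          inferInstanceAs (IsIso ((MorphismProperty.Over.forget EtCoh.etaleMP ⊤ X' ⋙ CategoryTheory.Over.forget _).map ((EtCoh.bc π).map (e i))))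
        exact ((EtCoh.bc π).map (e i)).left.homeomorph.injective
      have hw' := hinj ((Scheme.Hom.comp_apply _ _ _).symm.trans hw)
      rw [liftHom_map, Scheme.Hom.comp_apply] at hw'
      obtain ⟨a, ha⟩ := w.2
      obtain ⟨b, hb⟩ := ((liftHom ζ y default : (R j).toScheme)).2
      exact S.disj i j a b ((ha.trans hw').trans hb.symm)
  have hsum : us = ∑ i, z i := by
    refine sect_eq_of_cover (⟨G.obj ⋙ forget AddCommGrpCat.{u + 1},
      ((sheafCompose X'.smallEtaleTopology (forget AddCommGrpCat.{u + 1})).obj G).2⟩ : Sheaf _ (Type (u + 1))) B _ _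
      fun x => ?_
    obtain ⟨j, a, ha⟩ := S.cov x
    refine ⟨W j, inc j, (⟨x, a, ha⟩ : (R j).toScheme), rfl, ?_⟩
    show t j = G.obj.map (inc j).op (∑ i, z i)
    rw [map_sum, Finset.sum_congr rfl fun i _ => hz i j, Finset.sum_ite_eq' Finset.univ j fun _ => t j,
      if_pos (Finset.mem_univ _)]
  -- evaluate
  let η : ∀ i, EtCoh.sect ((EtShriek.extZero π).obj G) ((EtShriek.compEtale π).obj (W i)) :=
    fun i => ((EtShriek.extZeroAdj π).unit.app G).hom.app (op (W i)) (t i)
  have hΘ : ∀ i, ((extZeroPushIso π).hom.app G).hom.app (op V) (((EtShriek.extZero π).obj G).obj.map (e i).op (η i)) = z i :=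
    fun i => (NatTrans.naturality_apply ((extZeroPushIso π).hom.app G).hom (e i).op (η i)).trans
      (congrArg (((EtCoh.push π).obj G).obj.map (e i).op) (extZeroPushIso_unit π G (W i) (t i)))
  show ((EtShriek.extZeroAdj π).counit.app F).hom.app (op V)
    (((extZeroPushIso π).inv.app G).hom.app (op V) us) = d • s
  have hinv : ((extZeroPushIso π).inv.app G).hom.app (op V) us =
      ∑ i, ((EtShriek.extZero π).obj G).obj.map (e i).op (η i) := by
    rw [hsum, map_sum]
    refine Finset.sum_congr rfl fun i _ => ?_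
    rw [← hΘ]
    exact ConcreteCategory.congr_hom (congrArg (fun m => m.hom.app (op V)) ((extZeroPushIso π).hom_inv_id_app G)) _
  rw [hinv, map_sum]
  refine (Finset.sum_congr rfl fun i _ => ?_).trans ((Finset.sum_const s).trans (by rw [Finset.card_univ, Fintype.card_fin]))
  refine (NatTrans.naturality_apply ((EtShriek.extZeroAdj π).counit.app F).hom (e i).op (η i)).trans ?_
  have htri : ((EtShriek.extZeroAdj π).counit.app F).hom.app (op ((EtShriek.compEtale π).obj (W i))) (η i) = t i :=
    ConcreteCategory.congr_hom (congrArg (fun m => m.hom.app (op (W i)))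
      ((EtShriek.extZeroAdj π).right_triangle_components F)) (t i)
  rw [htri]
  show F.obj.map (e i).op (F.obj.map ((EtShriek.compEtale π).map (inc i)).op (F.obj.map ε.op s)) = s
  rw [← Functor.map_comp_apply, ← Functor.map_comp_apply, ← op_comp, ← op_comp]
  rw [Category.assoc, show e i ≫ (EtShriek.compEtale π).map (inc i) ≫ ε = 𝟙 V from heq i, op_id, F.obj.map_id]
  rfl

theorem unit_tr {d : ℕ} (hd : HasDegree π d) (F : EtCoh.Ab X) :
    (restrPushAdj π).unit.app F ≫ (tr π).app F = d • 𝟙 F := by
  refine ObjectProperty.hom_ext _ (NatTrans.ext (funext fun ⟨V⟩ => ConcreteCategory.hom_ext _ _ fun s => ?_))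
  obtain ⟨V', g, hg, ⟨S⟩⟩ := exists_splitting π hd V
  refine sect_eq_of_cover (⟨F.obj ⋙ forget AddCommGrpCat.{u + 1},
    ((sheafCompose X.smallEtaleTopology (forget AddCommGrpCat.{u + 1})).obj F).2⟩ : Sheaf _ (Type (u + 1))) V _ _
    fun x => ⟨V', g, (hg x).choose, (hg x).choose_spec, ?_⟩
  show F.obj.map g.op (((tr π).app F).hom.app (op V) (((restrPushAdj π).unit.app F).hom.app (op V) s)) =
    F.obj.map g.op (d • s)
  rw [map_nsmul, ← tr_unit_of_splitting π F S (F.obj.map g.op s)]
  exact ((congrArg (((tr π).app F).hom.app (op V')) (NatTrans.naturality_apply ((restrPushAdj π).unit.app F).hom g.op s)).trans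
    (NatTrans.naturality_apply ((tr π).app F).hom g.op _)).symm

/-- Direct image is left adjoint to inverse image. -/
def pushPullAdj : EtCoh.push π ⊣ EtCoh.pull π :=
  ((EtShriek.extZeroAdj π).ofNatIsoLeft (extZeroPushIso π)).ofNatIsoRight (pullIsoRestr π).symm

theorem pushPullAdj_counit (F : EtCoh.Ab X) :
    (pushPullAdj π).counit.app F = (EtCoh.push π).map ((pullIsoRestr π).hom.app F) ≫ (tr π).app F := by
  simp [pushPullAdj, tr]

theorem unit_counit {d : ℕ} (hd : HasDegree π d) (F : EtCoh.Ab X) :
    (EtCoh.pullPushAdj π).unit.app F ≫ (pushPullAdj π).counit.app F = d • 𝟙 F := by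
  rw [pushPullAdj_counit, ← Category.assoc]
  rw [show (EtCoh.pullPushAdj π).unit.app F ≫ (EtCoh.push π).map ((pullIsoRestr π).hom.app F) =
    (restrPushAdj π).unit.app F from Adjunction.unit_leftAdjointUniq_hom_app (EtCoh.pullPushAdj π) (restrPushAdj π) F]
  exact unit_tr π hd F

end Groth.Agent.EtTraceLib
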