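import Groth.Agent.EtTraceLib.GalSect
import Groth.Agent.EtTraceLib.Trace
import Mathlib.GroupTheory.OrderOfElement

/-!
# The two short exact sequences of a cyclic extension
-/

set_option autoImplicit false
set_option backward.isDefEq.respectTransparency false
set_option backward.isDefEq.respectTransparency.types false
set_option linter.style.haveILetI false
set_option maxHeartbeats 1000000

universe u

open CategoryTheory CategoryTheory.Limits AlgebraicGeometry Opposite

noncomputable section

namespace Groth.Agent.EtTraceLib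

open EtPtsLib

section Group

variable {G : Type*} [Group G] [Finite G] {σ : G} (hσ : ∀ τ : G, τ ∈ Subgroup.zpowers σ) {A : Type*} [AddCommGroup A]

include hσ in
theorem exists_pow_lt (g : G) : ∃ i, i < orderOf σ ∧ σ ^ i = g := by
  have hfin : IsOfFinOrder σ := isOfFinOrder_of_finite σ
  obtain ⟨n, rfl⟩ := hfin.mem_powers_iff_mem_zpowers.2 (hσ g)
  exact ⟨n % orderOf σ, Nat.mod_lt _ hfin.orderOf_pos, pow_mod_orderOf σ n⟩

include hσ in
theorem eq_const_of_shift (f : G → A) (h : ∀ g, f (g * σ) = f g) (g : G) : f g = f 1 := by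
  obtain ⟨i, -, rfl⟩ := exists_pow_lt hσ g
  induction i with
  | zero => rw [pow_zero]
  | succ i ih => rw [pow_succ, h, ih]

include hσ in
/-- A family with vanishing sum is a difference of a family and its shift. -/
theorem exists_shift_sub [Fintype G] (f : G → A) (hf : ∑ g, f g = 0) : ∃ h : G → A, ∀ g, h (g * σ) - h g = f g := by
  classical
  choose i hi hp using exists_pow_lt hσ
  let m := orderOf σ
  have huniq : ∀ (g : G) (n : ℕ), n < m → σ ^ n = g → i g = n := fun g n hn he =>
    pow_injOn_Iio_orderOf (hi g) hn ((hp g).trans he.symm)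
  refine ⟨fun g => ∑ j ∈ Finset.range (i g), f (σ ^ j), fun g => ?_⟩
  by_cases hlt : i g + 1 < m
  · show ∑ j ∈ Finset.range (i (g * σ)), f (σ ^ j) - ∑ j ∈ Finset.range (i g), f (σ ^ j) = f g
    rw [huniq (g * σ) (i g + 1) hlt (by rw [pow_succ, hp]), Finset.sum_range_succ, add_sub_cancel_left, hp]
  · have hm : i g + 1 = m := by have := hi g; omega
    have hg : g * σ = 1 := by rw [← hp g, ← pow_succ, hm]; exact pow_orderOf_eq_one σ
    show ∑ j ∈ Finset.range (i (g * σ)), f (σ ^ j) - ∑ j ∈ Finset.range (i g), f (σ ^ j) = f g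
    rw [huniq (g * σ) 0 (by omega) (by rw [pow_zero, hg]), Finset.sum_range_zero, zero_sub]
    have htot : ∑ j ∈ Finset.range m, f (σ ^ j) = 0 := by
      refine Eq.trans ?_ hf
      refine Finset.sum_bij (fun j _ => σ ^ j) (fun _ _ => Finset.mem_univ _) (fun a ha b hb e =>
        pow_injOn_Iio_orderOf (Finset.mem_range.1 ha) (Finset.mem_range.1 hb) e) (fun b _ => ?_) (fun _ _ => rfl)
      exact ⟨i b, Finset.mem_range.2 (hi b), hp b⟩
    rw [← hm, Finset.sum_range_succ, hp] at htot
    exact (eq_neg_of_add_eq_zero_right htot).symm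

end Group

section Local

variable {X : Scheme.{u}}

theorem eq_zero_of_surjective_map (F : EtCoh.Ab X) {V V' : X.Etale} (f : V' ⟶ V) (hf : Function.Surjective f.left)
    (t : EtCoh.sect F V) (h : F.obj.map f.op t = 0) : t = 0 := by
  refine sect_eq_of_cover (⟨F.obj ⋙ forget AddCommGrpCat.{u + 1},
    ((sheafCompose X.smallEtaleTopology (forget AddCommGrpCat.{u + 1})).obj F).2⟩ : Sheaf _ (Type (u + 1))) V _ _
    fun x => ?_
  obtain ⟨a, ha⟩ := hf x
  exact ⟨V', f, a, ha, h.trans (map_zero (F.obj.map f.op).hom).symm⟩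

theorem injective_app {F G : EtCoh.Ab X} (a : F ⟶ G) [Mono a] (W : X.Etale) : Function.Injective (a.hom.app (op W)) := by
  haveI : Mono (a.hom.app (op W)) := inferInstanceAs (Mono
    ((sheafToPresheaf X.smallEtaleTopology AddCommGrpCat.{u + 1} ⋙ (evaluation _ _).obj (op W)).map a))
  exact (AddCommGrpCat.mono_iff_injective _).1 inferInstance

theorem mono_of_injective {F G : EtCoh.Ab X} (a : F ⟶ G) (h : ∀ W, Function.Injective (a.hom.app (op W))) : Mono a := by
  refine ⟨fun {Z} b c e => ObjectProperty.hom_ext _ (NatTrans.ext (funext fun W => ConcreteCategory.hom_ext _ _ fun t =>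
    h W.unop ?_))⟩
  exact ConcreteCategory.congr_hom (congrArg (fun m => m.hom.app W) e) t

theorem epi_of_locally {F G : EtCoh.Ab X} (a : F ⟶ G)
    (h : ∀ (V : X.Etale) (t : EtCoh.sect G V) (x : V.left), ∃ (W : X.Etale) (w : W ⟶ V) (z : W.left),
      w.left z = x ∧ ∃ y, a.hom.app (op W) y = G.obj.map w.op t) : Epi a := by
  haveI : Sheaf.IsLocallySurjective a := ⟨fun {U} t => covering_of_points _ fun x => by
    obtain ⟨W, w, z, hz, y, hy⟩ := h U t x
    exact ⟨W, w, z, ⟨y, hy⟩, hz⟩⟩
  exact (Sheaf.isLocallySurjective_iff_epi' AddCommGrpCat.{u + 1} a).1 inferInstance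

theorem exact_of_locally (S : ShortComplex (EtCoh.Ab X))
    (h : ∀ (V : X.Etale) (t : EtCoh.sect S.X₂ V), S.g.hom.app (op V) t = 0 → ∀ x : V.left,
      ∃ (W : X.Etale) (w : W ⟶ V) (z : W.left), w.left z = x ∧ ∃ y, S.f.hom.app (op W) y = S.X₂.obj.map w.op t) :
    S.Exact := by
  rw [ShortComplex.exact_iff_epi_kernel_lift]
  refine epi_of_locally _ fun V t x => ?_
  have h0 : S.g.hom.app (op V) ((kernel.ι S.g).hom.app (op V) t) = 0 :=
    ConcreteCategory.congr_hom (congrArg (fun m => m.hom.app (op V)) (kernel.condition S.g)) t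
  obtain ⟨W, w, z, hz, y, hy⟩ := h V _ h0 x
  refine ⟨W, w, z, hz, y, injective_app (kernel.ι S.g) W ?_⟩
  refine Eq.trans ?_ ((hy.trans (NatTrans.naturality_apply (kernel.ι S.g).hom w.op t).symm))
  exact ConcreteCategory.congr_hom (congrArg (fun m => m.hom.app (op W)) (kernel.lift_ι S.g S.f S.zero)) y

/-- Evaluation of morphisms at a section. -/
def evalHom {F G : EtCoh.Ab X} (V : X.Etale) (t : EtCoh.sect F V) : (F ⟶ G) →+ EtCoh.sect G V :=
  AddMonoidHom.mk' (fun a => a.hom.app (op V) t) fun _ _ => rfl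

end Local

variable {k L : Type u} [Field k] [Field L] [Algebra k L] [FiniteDimensional k L] [Algebra.IsSeparable k L]
variable (L) (F : EtCoh.Ab (Spec (CommRingCat.of k)))

/-- The direct image of the restriction. -/
abbrev indSh : EtCoh.Ab (Spec (CommRingCat.of k)) :=
  (EtCoh.push (specπ k L)).obj ((EtShriek.restrAlong (specπ k L)).obj F)

/-- The unit. -/
def indUnit : F ⟶ indSh L F :=
  ⟨{ app := fun V => F.obj.map (bε V.unop).op
     naturality := fun V W f => by
       show F.obj.map f ≫ F.obj.map (bε W.unop).op = F.obj.map (bε V.unop).op ≫ F.obj.map (bMap L f.unop).op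
       rw [← F.obj.map_comp, ← F.obj.map_comp, ← op_comp, bMap_ε, op_comp, Quiver.Hom.op_unop] }⟩

theorem indUnit_eq : indUnit L F = (restrPushAdj (specπ k L)).unit.app F :=
  ObjectProperty.hom_ext _ (NatTrans.ext (funext fun V => ConcreteCategory.hom_ext _ _ fun s =>
    (congrArg (fun m => F.obj.map (Quiver.Hom.op m) s)
      (MorphismProperty.Over.Hom.ext (Category.id_comp _).symm :
        bε V.unop = (compBcAdj (specπ k L)).counit.app V.unop)).trans
      (restrPushAdj_unit (specπ k L) F V.unop s).symm))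

/-- The action of an automorphism. -/
def indAct (g : L ≃ₐ[k] L) : indSh L F ⟶ indSh L F :=
  ⟨{ app := fun V => F.obj.map (bγ V.unop g).op
     naturality := fun V W f => by
       show F.obj.map (bMap L f.unop).op ≫ F.obj.map (bγ W.unop g).op =
         F.obj.map (bγ V.unop g).op ≫ F.obj.map (bMap L f.unop).op
       rw [← F.obj.map_comp, ← F.obj.map_comp, ← op_comp, ← op_comp, bMap_γ] }⟩

theorem indUnit_act (g : L ≃ₐ[k] L) : indUnit L F ≫ indAct L F g = indUnit L F :=
  ObjectProperty.hom_ext _ (NatTrans.ext (funext fun V => by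
    show F.obj.map (bε V.unop).op ≫ F.obj.map (bγ V.unop g).op = F.obj.map (bε V.unop).op
    rw [← F.obj.map_comp, ← op_comp, bγ_ε]))

theorem indAct_comp (g h : L ≃ₐ[k] L) : indAct L F g ≫ indAct L F h = indAct L F (h * g) :=
  ObjectProperty.hom_ext _ (NatTrans.ext (funext fun V => by
    show F.obj.map (bγ V.unop g).op ≫ F.obj.map (bγ V.unop h).op = F.obj.map (bγ V.unop (h * g)).op
    rw [← F.obj.map_comp, ← op_comp, bγ_mul]))

/-- The sum over the Galois group. -/
def indNorm : indSh L F ⟶ indSh L F := ∑ g, indAct L F g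

/-- The difference of a generator and the identity. -/
def indDiff (σ : L ≃ₐ[k] L) : indSh L F ⟶ indSh L F := indAct L F σ - 𝟙 _

theorem indNorm_app (V : (Spec (CommRingCat.of k)).Etale) (t : EtCoh.sect (indSh L F) V) :
    (indNorm L F).hom.app (op V) t = ∑ g, F.obj.map (bγ V g).op t :=
  map_sum (evalHom V t) (fun g => indAct L F g) Finset.univ

theorem indDiff_app (σ : L ≃ₐ[k] L) (V : (Spec (CommRingCat.of k)).Etale) (t : EtCoh.sect F (bObj L V)) :
    (indDiff L F σ).hom.app (op V) t = F.obj.map (bγ V σ).op t - t :=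
  map_sub (evalHom (F := indSh L F) (G := indSh L F) V t) (indAct L F σ) (𝟙 _)

theorem indUnit_diff (σ : L ≃ₐ[k] L) : indUnit L F ≫ indDiff L F σ = 0 := by
  rw [indDiff, Preadditive.comp_sub, indUnit_act, Category.comp_id, sub_self]

theorem indNorm_diff (σ : L ≃ₐ[k] L) : indNorm L F ≫ indDiff L F σ = 0 := by
  rw [indNorm, indDiff, Preadditive.comp_sub, Category.comp_id, Preadditive.sum_comp, sub_eq_zero]
  exact Fintype.sum_equiv (Equiv.mulLeft σ) _ _ fun g => indAct_comp L F g σ

theorem indDiff_norm (σ : L ≃ₐ[k] L) : indDiff L F σ ≫ indNorm L F = 0 := by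
  rw [indNorm, indDiff, Preadditive.sub_comp, Category.id_comp, Preadditive.comp_sum, sub_eq_zero]
  exact Fintype.sum_equiv (Equiv.mulRight σ) _ _ fun g => indAct_comp L F σ g

variable {L F}

section Split

variable {V : (Spec (CommRingCat.of k)).Etale} (v : V ⟶ extObj k L)

/-- Coordinates over a splitting object. -/
def coord (t : EtCoh.sect (indSh L F) V) (g : L ≃ₐ[k] L) : EtCoh.sect F V := F.obj.map (bSec v g).op t

theorem coord_act (t : EtCoh.sect (indSh L F) V) (g h : L ≃ₐ[k] L) :
    coord v (F.obj.map (bγ V h).op t) g = coord v t (g * h) := by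
  refine (Functor.map_comp_apply F.obj (bγ V h).op (bSec v g).op t).symm.trans ?_
  rw [← op_comp, bSec_γ]
  rfl

theorem coord_unit (x : EtCoh.sect F V) (g : L ≃ₐ[k] L) : coord v ((indUnit L F).hom.app (op V) x) g = x := by
  refine (Functor.map_comp_apply F.obj (bε V).op (bSec v g).op x).symm.trans ?_
  rw [← op_comp, bSec_ε, op_id, F.obj.map_id]
  rfl

theorem coord_norm (t : EtCoh.sect (indSh L F) V) (g : L ≃ₐ[k] L) :
    coord v ((indNorm L F).hom.app (op V) t) g = ∑ h, coord v t h := by
  rw [indNorm_app]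
  refine (map_sum (F.obj.map (bSec v g).op).hom _ _).trans ?_
  exact Fintype.sum_equiv (Equiv.mulLeft g) _ _ fun h => coord_act v t g h

theorem coord_diff (σ : L ≃ₐ[k] L) (t : EtCoh.sect (indSh L F) V) (g : L ≃ₐ[k] L) :
    coord v ((indDiff L F σ).hom.app (op V) t) g = coord v t (g * σ) - coord v t g := by
  rw [indDiff_app]
  refine (map_sub (F.obj.map (bSec v g).op).hom _ _).trans ?_
  exact congrArg (· - coord v t g) (coord_act v t g σ)

theorem coord_bijective [IsGalois k L] :
    Function.Bijective (coord v : EtCoh.sect (indSh L F) V → (L ≃ₐ[k] L) → EtCoh.sect F V) :=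
  bSec_bijective v F

end Split

variable (L F)

theorem mono_indUnit : Mono (indUnit L F) := by
  refine mono_of_injective _ fun V => (injective_iff_map_eq_zero ((indUnit L F).hom.app (op V)).hom).2 fun x hx => ?_
  obtain ⟨V', f, v, hf⟩ := exists_cover_ext (L := L) V
  refine eq_zero_of_surjective_map F f hf x ?_
  rw [← coord_unit v (F.obj.map f.op x) 1, NatTrans.naturality_apply (indUnit L F).hom f.op x]
  show coord v ((indSh L F).obj.map f.op ((indUnit L F).hom.app (op V) x)) 1 = 0
  rw [show (indUnit L F).hom.app (op V) x = 0 from hx, map_zero]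
  exact map_zero (F.obj.map (bSec v 1).op).hom

variable [IsGalois k L] {σ : L ≃ₐ[k] L} (hσ : ∀ τ, τ ∈ Subgroup.zpowers σ)

include hσ in
theorem exact_unit_diff : (ShortComplex.mk _ _ (indUnit_diff L F σ)).Exact := by
  refine exact_of_locally _ fun V t ht x => ?_
  obtain ⟨V', f, v, hf⟩ := exists_cover_ext (L := L) V
  obtain ⟨z, hz⟩ := hf x
  let t' := (indSh L F).obj.map f.op t
  have ht' : (indDiff L F σ).hom.app (op V') t' = 0 := by
    rw [NatTrans.naturality_apply (indDiff L F σ).hom f.op t]
    exact (congrArg ((indSh L F).obj.map f.op) ht).trans (map_zero _)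
  refine ⟨V', f, z, hz, coord v t' 1, (coord_bijective v).1 (funext fun g => ?_)⟩
  refine (coord_unit v _ g).trans (eq_const_of_shift hσ (coord v t') (fun h => ?_) g).symm
  refine sub_eq_zero.1 ((coord_diff v σ t' h).symm.trans ?_)
  rw [ht']
  exact map_zero (F.obj.map (bSec v h).op).hom

include hσ in
/-- The norm through the unit, and the two short exact sequences. -/
theorem exists_cyclic_sequences :
    ∃ (I : EtCoh.Ab (Spec (CommRingCat.of k))) (p : indSh L F ⟶ I) (i : I ⟶ indSh L F) (ν : indSh L F ⟶ F)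
      (w₁ : indUnit L F ≫ p = 0) (w₂ : i ≫ ν = 0),
      (ShortComplex.mk _ _ w₁).ShortExact ∧ (ShortComplex.mk _ _ w₂).ShortExact ∧
        ν ≫ indUnit L F = indNorm L F := by
  haveI := mono_indUnit L F
  have hE := exact_unit_diff L F hσ
  obtain ⟨ν, hν⟩ : ∃ ν : indSh L F ⟶ F, ν ≫ indUnit L F = indNorm L F :=
    ⟨hE.lift (indNorm L F) (indNorm_diff L F σ), hE.lift_f _ _⟩
  let i : cokernel (indUnit L F) ⟶ indSh L F := cokernel.desc _ (indDiff L F σ) (indUnit_diff L F σ)
  have hi : cokernel.π (indUnit L F) ≫ i = indDiff L F σ := cokernel.π_desc _ _ _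
  have w₂ : i ≫ ν = 0 := by
    rw [← cancel_mono (indUnit L F), ← cancel_epi (cokernel.π (indUnit L F)), Category.assoc, hν, reassoc_of% hi,
      indDiff_norm, zero_comp, comp_zero]
  haveI : Mono i := hE.mono_cokernelDesc
  haveI : Epi ν := epi_of_locally ν fun V t x => by
    classical
    obtain ⟨V', f, v, hf⟩ := exists_cover_ext (L := L) V
    obtain ⟨z, hz⟩ := hf x
    let t' := F.obj.map f.op t
    obtain ⟨y, hy⟩ := (coord_bijective v (F := F)).2 (Pi.single 1 t')
    refine ⟨V', f, z, hz, y, injective_app (indUnit L F) V' ((coord_bijective v).1 (funext fun g => ?_))⟩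
    refine Eq.trans ?_ (coord_unit v t' g).symm
    rw [show (indUnit L F).hom.app (op V') (ν.hom.app (op V') y) = (indNorm L F).hom.app (op V') y from
      ConcreteCategory.congr_hom (congrArg (fun m => m.hom.app (op V')) hν) y, coord_norm, hy]
    exact Finset.sum_pi_single' 1 t' Finset.univ |>.trans (if_pos (Finset.mem_univ _))
  refine ⟨cokernel (indUnit L F), cokernel.π _, i, ν, cokernel.condition _, w₂,
    { exact := ShortComplex.exact_of_g_is_cokernel _ (cokernelIsCokernel _) }, { exact := ?_ }, hν⟩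
  refine exact_of_locally _ fun V t ht x => ?_
  obtain ⟨V', f, v, hf⟩ := exists_cover_ext (L := L) V
  obtain ⟨z, hz⟩ := hf x
  let t' := (indSh L F).obj.map f.op t
  have hsum : ∑ g, coord v t' g = 0 := by
    rw [← coord_norm v t' 1,
      show (indNorm L F).hom.app (op V') t' = (indUnit L F).hom.app (op V') (ν.hom.app (op V') t') from
        (ConcreteCategory.congr_hom (congrArg (fun m => m.hom.app (op V')) hν) t').symm, coord_unit,
      NatTrans.naturality_apply ν.hom f.op t]
    exact (congrArg (F.obj.map f.op) ht).trans (map_zero _)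
  obtain ⟨h, hh⟩ := exists_shift_sub hσ (coord v t') hsum
  obtain ⟨w, hw⟩ := (coord_bijective v (F := F)).2 h
  refine ⟨V', f, z, hz, (cokernel.π (indUnit L F)).hom.app (op V') w, (coord_bijective v).1 (funext fun g => ?_)⟩
  rw [show i.hom.app (op V') ((cokernel.π (indUnit L F)).hom.app (op V') w) = (indDiff L F σ).hom.app (op V') w from
    ConcreteCategory.congr_hom (congrArg (fun m => m.hom.app (op V')) hi) w, coord_diff, hw, hh]

end Groth.Agent.EtTraceLib
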