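import Groth.Agent.EtPtsLib.GermEq
import Groth.Agent.EtTraceLib.CyclicSeq

/-!
# Sections of constant sheaves are the locally constant functions
-/

set_option autoImplicit false
set_option backward.isDefEq.respectTransparency false
set_option backward.isDefEq.respectTransparency.types false
set_option linter.style.haveILetI false
set_option maxHeartbeats 1000000

universe u

open CategoryTheory CategoryTheory.Limits AlgebraicGeometry Opposite

noncomputable section

namespace Groth.Agent.EtTraceLib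

open EtPtsLib

variable {X : Scheme.{u}}

section Val

variable {M : AddCommGrpCat.{u + 1}}

/-- The constant sheaf with value `M`. -/
abbrev cSh (X : Scheme.{u}) (M : AddCommGrpCat.{u + 1}) : EtCoh.Ab X :=
  (constantSheaf X.smallEtaleTopology AddCommGrpCat.{u + 1}).obj M

/-- The section takes the value `c` near `z`. -/
def IsVal (U : X.Etale) (s : EtCoh.sect (cSh X M) U) (z : U.left) (c : M) : Prop :=
  ∃ (V : X.Etale) (g : V ⟶ U) (v : V.left), g.left v = z ∧ (cSh X M).obj.map g.op s = cst M V c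

theorem cst_map_apply {U V : X.Etale} (g : V ⟶ U) (c : M) : (cSh X M).obj.map g.op (cst M U c) = cst M V c :=
  ConcreteCategory.congr_hom (cst_map M g) c

theorem cst_inj {V : X.Etale} (v : V.left) {c c' : M} (h : cst M V c = cst M V c') : c = c' := by
  obtain ⟨l, -⟩ := exists_lift_geomPt v
  exact (germ_cst_bijective (geomPt (V.hom v)) M l).1 (congrArg (germ _ (cSh X M) l) h)

theorem exists_isVal (U : X.Etale) (s : EtCoh.sect (cSh X M) U) (z : U.left) : ∃ c, IsVal U s z c := by
  obtain ⟨l, hl⟩ := exists_lift_geomPt z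
  obtain ⟨c, hc⟩ := (germ_cst_bijective (geomPt (U.hom z)) M l).2 (germ _ (cSh X M) l s)
  obtain ⟨V, g, y, hy, hV⟩ :=
    ((Scheme.pointSmallEtale (geomPt (U.hom z))).toPresheafFiber_eq_iff' U l _ _).1 hc.symm
  refine ⟨c, V, g, liftHom _ y default, ?_, hV.trans (cst_map_apply g c)⟩
  refine Eq.trans ?_ hl
  rw [← hy]
  rfl

theorem isVal_unique {U : X.Etale} {s : EtCoh.sect (cSh X M) U} {z : U.left} {c c' : M} (h : IsVal U s z c)
    (h' : IsVal U s z c') : c = c' := by
  obtain ⟨V, g, v, hv, hV⟩ := h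
  obtain ⟨V', g', v', hv', hV'⟩ := h'
  obtain ⟨l, hl⟩ := exists_lift_geomPt z
  obtain ⟨y, hy⟩ := exists_fiber_map_eq (geomPt (U.hom z)) g l v (hv.trans hl.symm)
  obtain ⟨y', hy'⟩ := exists_fiber_map_eq (geomPt (U.hom z)) g' l v' (hv'.trans hl.symm)
  refine (germ_cst_bijective (geomPt (U.hom z)) M l).1 ?_
  show germ _ (cSh X M) l (cst M U c) = germ _ (cSh X M) l (cst M U c')
  have e : ∀ {W : X.Etale} (k : W ⟶ U) (w : (Scheme.pointSmallEtale (geomPt (U.hom z))).fiber.obj W) (d : M),
      (Scheme.pointSmallEtale (geomPt (U.hom z))).fiber.map k w = l → (cSh X M).obj.map k.op s = cst M W d →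
        germ _ (cSh X M) l (cst M U d) = germ _ (cSh X M) l s := fun k w d hw hd => by
    rw [← hw, ← germ_map, ← germ_map, cst_map_apply, hd]
  exact (e g y c hy hV).trans (e g' y' c' hy' hV').symm

/-- The value of a section of the constant sheaf at a point. -/
def cval (U : X.Etale) (s : EtCoh.sect (cSh X M) U) (z : U.left) : M := (exists_isVal U s z).choose

theorem isVal_cval (U : X.Etale) (s : EtCoh.sect (cSh X M) U) (z : U.left) : IsVal U s z (cval U s z) :=
  (exists_isVal U s z).choose_spec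

theorem cval_eq {U : X.Etale} {s : EtCoh.sect (cSh X M) U} {z : U.left} {c : M} (h : IsVal U s z c) : cval U s z = c :=
  isVal_unique (isVal_cval U s z) h

theorem cval_cst (U : X.Etale) (c : M) (z : U.left) : cval U (cst M U c) z = c :=
  cval_eq ⟨U, 𝟙 U, z, rfl, cst_map_apply _ _⟩

theorem cval_map {U V : X.Etale} (g : V ⟶ U) (s : EtCoh.sect (cSh X M) U) (v : V.left) :
    cval V ((cSh X M).obj.map g.op s) v = cval U s (g.left v) := by
  obtain ⟨W, k, w, hw, hW⟩ := isVal_cval V ((cSh X M).obj.map g.op s) v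
  refine (cval_eq ⟨W, k ≫ g, w, ?_, ?_⟩).symm
  · rw [← hw]; rfl
  · rw [← hW, ← Functor.map_comp_apply]
    rfl

theorem cval_add (U : X.Etale) (s t : EtCoh.sect (cSh X M) U) (z : U.left) :
    cval U (s + t) z = cval U s z + cval U t z := by
  obtain ⟨V, g, v, hv, hV⟩ := isVal_cval U s z
  obtain ⟨W, k, w, hw, hW⟩ := isVal_cval V ((cSh X M).obj.map g.op t) v
  refine cval_eq ⟨W, k ≫ g, w, ?_, ?_⟩
  · rw [← hv, ← hw]; rfl
  · have e : ∀ r : EtCoh.sect (cSh X M) U, (cSh X M).obj.map (k ≫ g).op r = (cSh X M).obj.map k.op ((cSh X M).obj.map g.op r) := fun r => by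
      rw [← Functor.map_comp_apply]
      rfl
    rw [map_add, map_add, e, e, hV, cst_map_apply, hW, cval_map g t v, hv]

theorem cval_zero (U : X.Etale) (z : U.left) : cval U (0 : EtCoh.sect (cSh X M) U) z = 0 := by
  have h := cval_add U (0 : EtCoh.sect (cSh X M) U) 0 z
  rw [add_zero] at h
  exact (add_eq_left.1 h.symm)

theorem cval_ext {U : X.Etale} {s t : EtCoh.sect (cSh X M) U} (h : ∀ z, cval U s z = cval U t z) : s = t := by
  refine sect_eq_of_cover (⟨(cSh X M).obj ⋙ forget AddCommGrpCat.{u + 1},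
    ((sheafCompose X.smallEtaleTopology (forget AddCommGrpCat.{u + 1})).obj (cSh X M)).2⟩ : Sheaf _ (Type (u + 1))) U _ _
    fun z => ?_
  obtain ⟨V, g, v, hv, hV⟩ := isVal_cval U s z
  obtain ⟨W, k, w, hw, hW⟩ := isVal_cval V ((cSh X M).obj.map g.op t) v
  refine ⟨W, k ≫ g, w, by rw [← hv, ← hw]; rfl, ?_⟩
  show (cSh X M).obj.map (k ≫ g).op s = (cSh X M).obj.map (k ≫ g).op t
  rw [op_comp, Functor.map_comp_apply, Functor.map_comp_apply, hV, hW, cst_map_apply, cval_map g t v, hv, h]

theorem isLocallyConstant_cval (U : X.Etale) (s : EtCoh.sect (cSh X M) U) : IsLocallyConstant (cval U s) := by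
  refine (IsLocallyConstant.iff_exists_open _).2 fun z => ?_
  obtain ⟨V, g, v, hv, hV⟩ := isVal_cval U s z
  haveI : AlgebraicGeometry.Etale g.left := etale_left g
  refine ⟨Set.range g.left, g.left.isOpenMap.isOpen_range, ⟨v, hv⟩, ?_⟩
  rintro _ ⟨w, rfl⟩
  rw [← cval_map, hV, cval_cst]

theorem exists_cval_eq (U : X.Etale) (f : U.left → M) (hf : IsLocallyConstant f) :
    ∃ s : EtCoh.sect (cSh X M) U, ∀ z, cval U s z = f z := by
  let W : M → U.left.Opens := fun c => ⟨f ⁻¹' {c}, hf.isOpen_fiber c⟩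
  obtain ⟨t, ht⟩ := exists_glue (⟨(cSh X M).obj ⋙ forget AddCommGrpCat.{u + 1},
    ((sheafCompose X.smallEtaleTopology (forget AddCommGrpCat.{u + 1})).obj (cSh X M)).2⟩ : Sheaf _ (Type (u + 1))) U W
    (fun a b hab => by
      rw [← TopologicalSpace.Opens.coe_disjoint]
      exact (Set.disjoint_singleton.2 hab).preimage f)
    (fun z => ⟨f z, rfl⟩) (fun c => cst M (openSub U (W c)) c)
  refine ⟨t, fun z => ?_⟩
  have e := cval_map (openIncl U (W (f z))) t (⟨z, rfl⟩ : (W (f z)).toScheme)
  refine e.symm.trans ?_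
  rw [show (cSh X M).obj.map (openIncl U (W (f z))).op t = cst M (openSub U (W (f z))) (f z) from ht (f z)]
  exact cval_cst _ _ _

end Val

/-- Sections of a constant sheaf as locally constant functions. -/
def constEquiv (M : AddCommGrpCat.{u + 1}) (U : X.Etale) :
    EtCoh.sect (cSh X M) U ≃+ LocallyConstant U.left M :=
  AddEquiv.ofBijective
    (AddMonoidHom.mk' (fun s => (⟨cval U s, isLocallyConstant_cval U s⟩ : LocallyConstant U.left M))
      fun s t => LocallyConstant.ext fun z => cval_add U s t z)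
    ⟨fun s t h => cval_ext fun z => LocallyConstant.congr_fun h z, fun f => by
      obtain ⟨s, hs⟩ := exists_cval_eq U f f.2
      exact ⟨s, LocallyConstant.ext hs⟩⟩

end Groth.Agent.EtTraceLib
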