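import Groth.Agent.EtTraceLib.Apply
import Groth.Agent.FLCLib.Ops
import Groth.Agent.S3054

/-!
# Algebraic extensions do not raise the cohomological dimension
-/

set_option autoImplicit false
set_option backward.isDefEq.respectTransparency false
set_option backward.isDefEq.respectTransparency.types false
set_option linter.style.haveILetI false
set_option maxHeartbeats 1000000

universe u

open CategoryTheory CategoryTheory.Limits AlgebraicGeometry Opposite CategoryTheory.Abelian

noncomputable section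

namespace Groth.Agent.EtTraceLib

open EtPtsLib

theorem sect_eq_zero_of_locally {X : Scheme.{u}} (F : EtCoh.Ab X) {U : X.Etale} (t : EtCoh.sect F U)
    (h : ∀ x : U.left, ∃ (V : X.Etale) (g : V ⟶ U), (∃ v : V.left, g.left v = x) ∧ F.obj.map g.op t = 0) :
    t = 0 := by
  let R : Sieve U :=
    { arrows := fun V g => F.obj.map g.op t = 0
      downward_closed := fun {V W g} hg f => by
        show F.obj.map (f ≫ g).op t = 0
        rw [op_comp, Functor.map_comp_apply, hg, map_zero] }
  have hs := (isSheaf_iff_isSheaf_of_type _ _).1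
    ((Presheaf.isSheaf_iff_isSheaf_forget X.smallEtaleTopology F.obj (forget AddCommGrpCat.{u + 1})).1 F.property) R
    (covering_of_points R fun x => by
      obtain ⟨V, g, ⟨v, hv⟩, hg⟩ := h x
      exact ⟨V, g, v, hg, hv⟩)
  exact hs.isSeparatedFor.ext fun V g hg => hg.trans (map_zero (F.obj.map g.op).hom).symm

/-- Direct image along an affine morphism of a torsion sheaf is torsion. -/
theorem isTorsion_push {X Y : Scheme.{u}} (j : X ⟶ Y) [IsAffineHom j] {F : EtCoh.Ab X} (hF : EtCoh.IsTorsion F) :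
    EtCoh.IsTorsion ((EtCoh.push j).obj F) := by
  classical
  intro U s x
  obtain ⟨W0, hW0, hxW, -⟩ := exists_isAffineOpen_mem_and_subset (x := x) (U := (⊤ : U.left.Opens)) trivial
  refine ⟨openSub U W0, openIncl U W0, ⟨⟨x, hxW⟩, rfl⟩, ?_⟩
  haveI : IsAffine (openSub U W0).left := hW0
  let W := (EtCoh.bc j).obj (openSub U W0)
  haveI : IsAffineHom (pullback.fst (openSub U W0).hom j) :=
    MorphismProperty.pullback_fst (P := @IsAffineHom) _ _ inferInstance
  haveI : IsAffine W.left := @isAffine_of_isAffineHom _ _ (pullback.fst (openSub U W0).hom j) _ hW0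
  let t : EtCoh.sect F W := F.obj.map ((EtCoh.bc j).map (openIncl U W0)).op s
  show IsOfFinAddOrder t
  choose V g hv hg using hF W t
  choose n hn0 hn using fun y => isOfFinAddOrder_iff_nsmul_eq_zero.1 (hg y)
  obtain ⟨S, hS⟩ := isCompact_univ.elim_finite_subcover (fun y => Set.range (g y).left)
    (fun y => by
      haveI := etale_left (g y)
      exact (g y).left.isOpenMap.isOpen_range)
    fun y _ => Set.mem_iUnion.2 ⟨y, hv y⟩
  refine isOfFinAddOrder_iff_nsmul_eq_zero.2 ⟨∏ y ∈ S, n y, Finset.prod_pos fun y _ => hn0 y, ?_⟩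
  refine sect_eq_zero_of_locally F _ fun y => ?_
  obtain ⟨z, hz, v, hv'⟩ := Set.mem_iUnion₂.1 (hS (Set.mem_univ y))
  refine ⟨V z, g z, ⟨v, hv'⟩, ?_⟩
  obtain ⟨c, hc⟩ := Finset.dvd_prod_of_mem n hz
  rw [map_nsmul, hc, mul_comm, mul_smul, hn z, smul_zero]

theorem eq_zero_of_isSeparable (k : Type u) [Field k] (K : Type u) [Field K] [Algebra k K]
    [Algebra.IsSeparable k K] (p : ℕ) (n : ℕ)
    (hcd : ∀ (F : EtCoh.Ab (Spec (CommRingCat.of k))), EtCoh.IsTorsion F → ∀ q : ℕ, n < q →
        ∀ x : EtCoh.H (Spec (CommRingCat.of k)) F q, (∃ m : ℕ, p ^ m • x = 0) → x = 0)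
    (F : EtCoh.Ab (Spec (CommRingCat.of K))) (hF : EtCoh.IsTorsion F) (q : ℕ) (hq : n < q)
    (x : EtCoh.H (Spec (CommRingCat.of K)) F q) (hx : ∃ m : ℕ, p ^ m • x = 0) : x = 0 := by
  let j := Spec.map (CommRingCat.ofHom (algebraMap k K))
  haveI : IsIntegralHom j := by
    rw [IsIntegralHom.SpecMap_iff, CommRingCat.hom_ofHom, algebraMap_isIntegral_iff]
    infer_instance
  let c := EtCoh.const (Spec (CommRingCat.of k)) ℤ
  let adj := EtCoh.pullPushAdj j
  have hac : SpSeqLib.IsAcyclicFor (EtCoh.push j) F :=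
    fun r => Groth.Agent.S3054.result j F (r + 1) (Nat.succ_pos r)
  have hb := ExtAdj.transpose_bijective adj c F hac q
  let T : Ext c ((EtCoh.push j).obj F) q →+ Ext ((EtCoh.pull j).obj c) F q :=
    AddMonoidHom.ofMapSub (ExtAdj.transpose adj c F q) fun a b => ExtAdj.transpose_sub adj c F q a b
  obtain ⟨e, he⟩ := hb.2 ((Ext.mk₀ (EtCore.pullConst j ℤ).hom).comp x (zero_add q))
  obtain ⟨m, hm⟩ := hx
  let P : EtCoh.H (Spec (CommRingCat.of K)) F q →+ Ext ((EtCoh.pull j).obj c) F q :=
    AddMonoidHom.mk' (fun z => (Ext.mk₀ (EtCore.pullConst j ℤ).hom).comp z (zero_add q))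
      fun a b => Ext.comp_add _ _ _ _
  have he0 : e = 0 := hcd _ (isTorsion_push j hF) q hq e ⟨m, hb.1 (by
    show T (p ^ m • e) = T 0
    rw [map_nsmul, map_zero]
    exact (congrArg (p ^ m • ·) he).trans ((map_nsmul P (p ^ m) x).symm.trans ((congrArg P hm).trans (map_zero P))))⟩
  have h0 : P x = 0 := he.symm.trans ((congrArg T he0).trans (map_zero T))
  have := congrArg (fun z => (Ext.mk₀ (EtCore.pullConst j ℤ).inv).comp z (zero_add q)) h0
  simpa only [P, AddMonoidHom.mk'_apply, Ext.comp_zero, Ext.mk₀_comp_mk₀_assoc, Iso.inv_hom_id,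
    Ext.mk₀_id_comp] using this

end Groth.Agent.EtTraceLib
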