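import Groth.Agent.EtTraceLib.PushAcyclic
import Groth.Agent.EtVanish.Henselian
import Groth.Agent.CohColim.EtQC
import Groth.Agent.PicTrivLib.Fiber
import Mathlib.CategoryTheory.Limits.Constructions.Filtered

/-!
# Cohomology of sums of skyscrapers at closed points
-/

set_option autoImplicit false
set_option backward.isDefEq.respectTransparency false
set_option linter.style.haveILetI false
set_option maxHeartbeats 1000000

universe u

open CategoryTheory CategoryTheory.Limits AlgebraicGeometry Opposite CategoryTheory.Abelian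

noncomputable section

namespace Groth.Agent.EtTraceLib

/-- Higher cohomology of an algebraically closed field vanishes. -/
theorem H_eq_zero_of_algClosed (K : Type u) [Field K] [IsAlgClosed K] (F : EtCoh.Ab (Spec (CommRingCat.of K))) (n : ℕ)
    (x : EtCoh.H (Spec (CommRingCat.of K)) F (n + 1)) : x = 0 := by
  haveI : IsAlgClosed (IsLocalRing.ResidueField K) :=
    IsAlgClosed.of_ringEquiv K _ (RingEquiv.ofBijective (IsLocalRing.residue K)
      ⟨(IsLocalRing.residue K).injective, IsLocalRing.residue_surjective⟩)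
  exact @Subsingleton.elim _ (EtVanish.subsingleton_H_strictlyHenselian K F n) x 0

theorem fieldAcyclic_of_algClosed (K : Type u) [Field K] [IsAlgClosed K] (F : EtCoh.Ab (Spec (CommRingCat.of K))) :
    FieldAcyclic K F := by
  intro L _ _ _ _ q x
  haveI : Algebra.IsAlgebraic K L := Algebra.IsAlgebraic.of_finite K L
  haveI : IsAlgClosed L := IsAlgClosed.of_ringEquiv K L
    (RingEquiv.ofBijective (algebraMap K L) (IsAlgClosed.algebraMap_bijective_of_isIntegral (k := K) (K := L)))
  exact H_eq_zero_of_algClosed L _ q x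

variable {k : Type u} [Field k] [IsAlgClosed k] {X : Scheme.{u}} (f : X ⟶ Spec (CommRingCat.of k))
  [LocallyOfFiniteType f]

include f in
/-- The cohomology of a skyscraper at a closed point vanishes. -/
theorem H_sky_eq_zero (x : X) (hx : IsClosed ({x} : Set X)) (F : EtCoh.Ab (Spec (X.residueField x))) (n : ℕ)
    (e : EtCoh.H X ((EtCoh.push (X.fromSpecResidueField x)).obj F) (n + 1)) : e = 0 := by
  haveI : IsAlgClosed (X.residueField x) :=
    IsAlgClosed.of_ringEquiv k (X.residueField x) (residueFieldIsoBase f x hx).commRingCatIsoToRingEquiv.symm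
  exact H_push_eq_zero (k := (X.residueField x : Type u)) (X.fromSpecResidueField x)
    (fieldAcyclic_of_algClosed (X.residueField x) F) (n + 1) (H_eq_zero_of_algClosed (X.residueField x) F n) e

omit f in
open CoproductsFromFiniteFiltered in
/-- Cohomology of a coproduct vanishes if it does on the summands. -/
theorem subsingleton_H_coprod {Y : Scheme.{u}} [CompactSpace Y] [QuasiSeparatedSpace Y] {ι : Type u}
    (S : ι → EtCoh.Ab Y) {c : Cofan S} (hc : IsColimit c) (q : ℕ) (h : ∀ (i : ι) (e : EtCoh.H Y (S i) q), e = 0) :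
    Subsingleton (EtCoh.H Y c.pt q) := by
  classical
  haveI : HasColimitsOfShape (Finset (Discrete ι)) (EtCoh.Ab Y) :=
    hasColimitsOfShape_of_equivalence (AsSmall.equiv : Finset (Discrete ι) ≌ AsSmall.{u + 1} (Finset (Discrete ι))).symm
  let G := liftToFinsetObj (Discrete.functor S)
  let L := liftToFinsetColimitCocone (Discrete.functor S)
  let e := hc.coconePointUniqueUpToIso L.isColimit
  let Λ := AsSmall.{u + 1} (Finset (Discrete ι))
  let w : Λ ≌ Finset (Discrete ι) := AsSmall.equiv.symm
  haveI := CohColim.preserves_HF (X := Y) q Λ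
  have hΛ := isColimitOfPreserves (EtCoh.HF Y q) ((colimit.isColimit G).whiskerEquivalence w)
  have hall : ∀ x : EtCoh.H Y L.cocone.pt q, x = 0 := fun x => by
    obtain ⟨a, y, hy⟩ := Concrete.isColimit_exists_rep _ hΛ x
    let T := w.functor.obj a
    let r : ∀ s : T, G.obj T ⟶ S s.1.as :=
      fun s => Sigma.desc fun s' : T => if h : s' = s then eqToHom (by subst h; rfl) else 0
    have hid : 𝟙 (G.obj T) = ∑ s : T, r s ≫ Sigma.ι (fun s : T => (Discrete.functor S).obj s.1) s := by
      refine Sigma.hom_ext _ _ fun s => ?_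
      rw [Preadditive.comp_sum, Finset.sum_eq_single s]
      · simp [r]
        exact Category.comp_id _
      · intro b _ hb
        simp [r, Ne.symm hb]
      · exact fun hn => absurd (Finset.mem_univ s) hn
    have hy0 : (show Ext (EtCoh.const Y ℤ) (G.obj T) q from y) = 0 := by
      rw [← Ext.comp_mk₀_id (show Ext (EtCoh.const Y ℤ) (G.obj T) q from y), hid, Ext.mk₀_sum, Ext.comp_sum]
      refine Finset.sum_eq_zero fun s _ => ?_
      rw [← Ext.mk₀_comp_mk₀, ← Ext.comp_assoc_of_second_deg_zero]
      rw [show (show Ext (EtCoh.const Y ℤ) (G.obj T) q from y).comp (Ext.mk₀ (r s)) (add_zero q) = 0 from h s.1.as _]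
      exact Ext.zero_comp (EtCoh.const Y ℤ) q (Ext.mk₀ _) q (add_zero q)
    rw [← hy, show y = (0 : _) from hy0]
    exact map_zero _
  refine subsingleton_of_forall_eq 0 fun x => ?_
  have h1 := hall (x.comp (Ext.mk₀ e.hom) (add_zero q))
  have h2 : (x.comp (Ext.mk₀ e.hom) (add_zero q)).comp (Ext.mk₀ e.inv) (add_zero q) = x := by
    rw [Ext.comp_assoc_of_second_deg_zero, Ext.mk₀_comp_mk₀, Iso.hom_inv_id, Ext.comp_mk₀_id]
  rw [← h2, h1, Ext.zero_comp]

include f in
/-- Higher cohomology of a sum of skyscrapers at closed points. -/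
theorem subsingleton_H_sum_sky [CompactSpace X] [QuasiSeparatedSpace X] {ι : Type u} (p : ι → X)
    (hp : ∀ i, IsClosed ({p i} : Set X))
    (c : Cofan fun i => (EtCoh.push (X.fromSpecResidueField (p i))).obj (EtCoh.const (Spec (X.residueField (p i))) ℤ))
    (hc : IsColimit c) (q : ℕ) (hq : 1 ≤ q) : Subsingleton (EtCoh.H X c.pt q) := by
  obtain ⟨n, rfl⟩ : ∃ n, q = n + 1 := ⟨q - 1, by omega⟩
  exact subsingleton_H_coprod _ hc (n + 1) fun i e => H_sky_eq_zero f (p i) (hp i) _ n e

end Groth.Agent.EtTraceLib
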