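import Groth.Agent.EtTraceLib.BrauerNorm
import Groth.Agent.DimFormulaLib.Field
import Groth.Agent.S0101

/-!
# Acyclicity of the direct image from the spectrum of a field
-/

set_option autoImplicit false
set_option backward.isDefEq.respectTransparency false
set_option backward.isDefEq.respectTransparency.types false
set_option linter.style.haveILetI false
set_option maxHeartbeats 1000000

universe u

open CategoryTheory CategoryTheory.Limits AlgebraicGeometry Opposite CategoryTheory.Abelian

noncomputable section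

namespace Groth.Agent.EtTraceLib

open EtPtsLib

variable (k : Type u) [Field k]

/-- All finite separable extensions have vanishing higher cohomology. -/
def FieldAcyclic (F : EtCoh.Ab (Spec (CommRingCat.of k))) : Prop :=
  ∀ (L : Type u) [Field L] [Algebra k L] [FiniteDimensional k L] [Algebra.IsSeparable k L] (q : ℕ)
    (x : EtCoh.H (Spec (CommRingCat.of L)) ((EtShriek.restrAlong (specπ k L)).obj F) (q + 1)), x = 0

theorem injective_restrAlong_specπ (L : Type u) [Field L] [Algebra k L] [FiniteDimensional k L] [Algebra.IsSeparable k L]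
    (I : EtCoh.Ab (Spec (CommRingCat.of k))) [Injective I] : Injective ((EtShriek.restrAlong (specπ k L)).obj I) := by
  haveI : (EtCoh.push (specπ k L)).IsRightAdjoint := (EtCoh.pullPushAdj (specπ k L)).isRightAdjoint
  haveI : Injective ((EtCoh.pull (specπ k L)).obj I) := Injective.injective_of_adjoint (pushPullAdj (specπ k L)) I
  exact Injective.of_iso ((pullIsoRestr (specπ k L)).app I) inferInstance

variable {k}

theorem preservesFiniteLimits_restr (L : Type u) [Field L] [Algebra k L] [FiniteDimensional k L] [Algebra.IsSeparable k L] :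
    PreservesFiniteLimits (EtShriek.restrAlong (specπ k L)) ∧ PreservesFiniteColimits (EtShriek.restrAlong (specπ k L)) :=
  ⟨preservesFiniteLimits_of_natIso (pullIsoRestr (specπ k L)), preservesFiniteColimits_of_natIso (pullIsoRestr (specπ k L))⟩

/-- Global lifting when the first cohomology of the kernel vanishes. -/
theorem exists_lift_global_of {S : ShortComplex (EtCoh.Ab (Spec (CommRingCat.of k)))} (hS : S.ShortExact)
    (h1 : ∀ x : EtCoh.H (Spec (CommRingCat.of k)) S.X₁ 1, x = 0)
    (q : EtCoh.sect S.X₃ (EtCoh.top (Spec (CommRingCat.of k)))) :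
    ∃ s : EtCoh.sect S.X₂ (EtCoh.top (Spec (CommRingCat.of k))), S.g.hom.app _ s = q := by
  let X := Spec (CommRingCat.of k)
  let A := constantSheafAdj X.smallEtaleTopology AddCommGrpCat.{u + 1} (EtCore.topIsTerminal X)
  let b : EtCoh.const X ℤ ⟶ S.X₃ :=
    (A.homEquiv _ _).symm (AddCommGrpCat.ofHom (X := ULift.{u + 1} ℤ)
      ((zmultiplesHom _ q).comp AddEquiv.ulift.toAddMonoidHom))
  have h0 : (Ext.mk₀ b).comp hS.extClass (zero_add 1) = 0 := h1 _
  obtain ⟨z, hz⟩ := Ext.covariant_sequence_exact₃ _ hS _ rfl h0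
  obtain ⟨z, rfl⟩ := (Ext.mk₀_bijective _ _).2 z
  rw [Ext.mk₀_comp_mk₀] at hz
  have hz' : z ≫ S.g = b := (Ext.mk₀_bijective _ _).1 hz
  have hA := congrArg (fun m => (A.homEquiv _ _ m) (ULift.up.{u + 1} (1 : ℤ))) hz'
  simp only [b, Adjunction.homEquiv_naturality_right, Equiv.apply_symm_apply] at hA
  exact ⟨(A.homEquiv _ _ z) (ULift.up.{u + 1} (1 : ℤ)), hA.trans (one_zsmul q)⟩

theorem exists_lift_sect_of {S : ShortComplex (EtCoh.Ab (Spec (CommRingCat.of k)))} (hS : S.ShortExact)
    (h : FieldAcyclic k S.X₁) (W : (Spec (CommRingCat.of k)).Etale) (q : EtCoh.sect S.X₃ W) :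
    ∃ s : EtCoh.sect S.X₂ W, S.g.hom.app _ s = q := by
  haveI : AlgebraicGeometry.Etale W.hom := W.prop
  haveI : DiscreteTopology W.left := by
    haveI : LocallyQuasiFinite W.hom := EtFibCard.locallyQuasiFinite_of_etale W.hom
    have h := W.hom.isDiscrete_preimage_singleton (IsLocalRing.closedPoint k)
    rw [show ⇑W.hom ⁻¹' {IsLocalRing.closedPoint k} = Set.univ from
      Set.eq_univ_of_forall fun y => Subsingleton.elim (α := PrimeSpectrum k) _ _] at h
    haveI := h.to_subtype
    exact (Homeomorph.Set.univ W.left).discreteTopology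
  let O : W.left → W.left.Opens := fun w => ⟨{w}, isOpen_discrete _⟩
  have hpiece : ∀ w, ∃ t : EtCoh.sect S.X₂ (openSub W (O w)),
      S.g.hom.app _ t = S.X₃.obj.map (openIncl W (O w)).op q := by
    intro w
    haveI : Subsingleton (openSub W (O w)).left := ⟨fun a b => Subtype.ext (a.2.trans b.2.symm)⟩
    haveI : Nonempty (openSub W (O w)).left := ⟨⟨w, rfl⟩⟩
    obtain ⟨L, _, _, _, _, ⟨i⟩⟩ := exists_iso_extObj k (openSub W (O w))
    obtain ⟨hl, hr⟩ := preservesFiniteLimits_restr (k := k) L
    let j : (EtShriek.compEtale (specπ k L)).obj (EtCoh.top (Spec (CommRingCat.of L))) ≅ extObj k L :=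
      MorphismProperty.Over.isoMk (Iso.refl _)
    let i' := j ≪≫ i
    obtain ⟨t, ht⟩ := exists_lift_global_of (hS.map_of_exact (EtShriek.restrAlong (specπ k L))) (h L 0)
      (S.X₃.obj.map i'.hom.op (S.X₃.obj.map (openIncl W (O w)).op q))
    refine ⟨S.X₂.obj.map i'.inv.op t, ?_⟩
    rw [NatTrans.naturality_apply S.g.hom i'.inv.op t]
    refine (congrArg (S.X₃.obj.map i'.inv.op) ht).trans ?_
    rw [← Functor.map_comp_apply, ← op_comp, Iso.inv_hom_id, op_id, CategoryTheory.Functor.map_id]
    rfl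
  choose t ht using hpiece
  let F : Sheaf (Spec (CommRingCat.of k)).smallEtaleTopology (Type (u + 1)) := (sheafCompose _ (forget AddCommGrpCat.{u + 1})).obj S.X₂
  obtain ⟨s, hs⟩ := exists_glue F W O
    (fun a b hab => TopologicalSpace.Opens.coe_disjoint.1 (Set.disjoint_singleton.2 hab)) (fun x => ⟨x, rfl⟩) t
  refine ⟨s, ?_⟩
  rw [← sub_eq_zero]
  refine sect_eq_zero_of_locally S.X₃ _ fun x => ⟨openSub W (O x), openIncl W (O x), ⟨⟨x, rfl⟩, rfl⟩, ?_⟩
  rw [map_sub, sub_eq_zero, ← ht x, ← NatTrans.naturality_apply S.g.hom (openIncl W (O x)).op s]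
  exact congrArg (S.g.hom.app _) (hs x)

theorem FieldAcyclic.quotient {T : ShortComplex (EtCoh.Ab (Spec (CommRingCat.of k)))} (hT : T.ShortExact)
    [Injective T.X₂] (h : FieldAcyclic k T.X₁) : FieldAcyclic k T.X₃ := by
  intro L _ _ _ _ q x
  obtain ⟨hl, hr⟩ := preservesFiniteLimits_restr (k := k) L
  have hTL := hT.map_of_exact (EtShriek.restrAlong (specπ k L))
  haveI : Injective (T.map (EtShriek.restrAlong (specπ k L))).X₂ := injective_restrAlong_specπ k L T.X₂
  obtain ⟨y, hy⟩ := Ext.covariant_sequence_exact₃ _ hTL x (n₁ := q + 2) rfl (h L (q + 1) _)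
  rw [← hy, Ext.eq_zero_of_injective (I := (T.map (EtShriek.restrAlong (specπ k L))).X₂) y, Ext.zero_comp]

theorem FieldAcyclic.of_iso {F G : EtCoh.Ab (Spec (CommRingCat.of k))} (e : F ≅ G) (h : FieldAcyclic k F) :
    FieldAcyclic k G := by
  intro L _ _ _ _ q x
  refine (conjExt_eq_zero_iff (Iso.refl _) ((EtShriek.restrAlong (specπ k L)).mapIso e.symm) x).1 (h L q _)

theorem isAcyclicFor_push {X : Scheme.{u}} (f : Spec (CommRingCat.of k) ⟶ X) {F : EtCoh.Ab (Spec (CommRingCat.of k))}
    (h : FieldAcyclic k F) : SpSeqLib.IsAcyclicFor (EtCoh.push f) F := by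
  refine SpSeqLib.isAcyclicFor_of_class (EtCoh.push f) (FieldAcyclic k) (fun e => FieldAcyclic.of_iso e)
    (fun T hT hI hP => hP.quotient hT) (fun T hT _ hP => ?_) h
  haveI : Sheaf.IsLocallySurjective ((EtCoh.push f).map T.g) := by
    refine ⟨fun {U} q => covering_of_points _ fun x => ?_⟩
    obtain ⟨s, hs⟩ := exists_lift_sect_of hT hP ((EtCoh.bc f).obj U) q
    refine ⟨U, 𝟙 U, x, ⟨s, ?_⟩, rfl⟩
    rw [op_id, CategoryTheory.Functor.map_id]
    exact hs
  exact (Sheaf.isLocallySurjective_iff_epi' AddCommGrpCat.{u + 1} ((EtCoh.push f).map T.g)).1 inferInstance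

theorem H_push_eq_zero {X : Scheme.{u}} (f : Spec (CommRingCat.of k) ⟶ X) {F : EtCoh.Ab (Spec (CommRingCat.of k))}
    (h : FieldAcyclic k F) (n : ℕ) (hF : ∀ x : EtCoh.H (Spec (CommRingCat.of k)) F n, x = 0)
    (e : EtCoh.H X ((EtCoh.push f).obj F) n) : e = 0 := by
  haveI : PreservesFiniteLimits (EtCoh.pull f) := Groth.Agent.S0101.result f
  let adj := EtCoh.pullPushAdj f
  refine (ExtAdj.transpose_bijective adj (EtCoh.const X ℤ) F (isAcyclicFor_push f h) n).1 ?_
  have h1 : ExtAdj.transpose adj (EtCoh.const X ℤ) F n e = 0 :=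
    (conjExt_eq_zero_iff (EtCore.pullConst f ℤ).symm (Iso.refl F) _).1 (hF _)
  have h2 : ExtAdj.transpose adj (EtCoh.const X ℤ) F n (0 : Ext _ _ n) = 0 := by
    rw [ExtAdj.transpose, Ext.mapExactFunctor_zero, Ext.zero_comp]
  exact h1.trans h2.symm

theorem fieldAcyclic_Gm (hk : NormSurj k) : FieldAcyclic k (EtCoh.Gm (Spec (CommRingCat.of k))) := by
  intro L _ _ _ _ q x
  exact (conjExt_eq_zero_iff (Iso.refl _) (restrGm (specπ k L)) x).1
    (H_Gm_eq_zero_of_normSurj (q + 1) L (hk.of_finite L) q.succ_pos _)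

/-- The function field of a curve over an algebraically closed field has surjective norms. -/
theorem normSurj_functionField (F₀ : Type u) [Field F₀] [IsAlgClosed F₀] (X : Scheme.{u})
    (f : X ⟶ Spec (CommRingCat.of F₀)) [LocallyOfFiniteType f] [IsIntegral X] (hdim : topologicalKrullDim X = 1) :
    NormSurj X.functionField := by
  letI : X.Over (Spec (CommRingCat.of F₀)) := ⟨f⟩
  haveI : LocallyOfFiniteType (X ↘ Spec (CommRingCat.of F₀)) := ‹LocallyOfFiniteType f›
  obtain ⟨a, t, -, ht, -, hh⟩ := DimFormulaLib.field_dims f (genericPoint X)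
  have ht1 : t = 1 := by
    have h2 := DimFormulaLib.topologicalKrullDim_eq_trdeg f t ht
    rw [hdim] at h2
    exact_mod_cast h2.symm
  have hres : (letI := Curv2.resAlgebra F₀ X (genericPoint X); Algebra.trdeg F₀ (X.residueField (genericPoint X))) = 1 := by
    refine ((DimFormulaLib.resTrdegAt_over F₀ X (genericPoint X)).symm.trans ht).trans ?_
    rw [ht1, Nat.cast_one]
  letI := Curv2.resAlgebra F₀ X (genericPoint X)
  have hbij : Function.Bijective (IsLocalRing.residue X.functionField) :=
    ⟨(IsLocalRing.residue X.functionField).injective, IsLocalRing.residue_surjective⟩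
  let e : X.functionField ≃+* X.residueField (genericPoint X) := RingEquiv.ofBijective _ hbij
  letI : Algebra F₀ X.functionField := (e.symm.toRingHom.comp (algebraMap F₀ (X.residueField (genericPoint X)))).toAlgebra
  let e' : X.functionField ≃ₐ[F₀] X.residueField (genericPoint X) :=
    AlgEquiv.ofRingEquiv (f := e) fun r => e.apply_symm_apply _
  exact normSurj_of_brauer_trivial _ (brauer_trivial_of_trdeg_one F₀ X.functionField ((e'.trdeg_eq).trans hres))

end Groth.Agent.EtTraceLib
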