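import Groth.Agent.EtTraceLib.CurveDiv
import Groth.Agent.EtTraceLib.SkyVanish
import Groth.Agent.S0231

/-!
# Vanishing of the higher cohomology of `G_m` on a curve
-/

set_option autoImplicit false
set_option backward.isDefEq.respectTransparency false
set_option linter.style.haveILetI false

universe u

open CategoryTheory CategoryTheory.Limits AlgebraicGeometry Opposite CategoryTheory.Abelian

noncomputable section

namespace Groth.Agent.EtTraceLib

theorem H_Gm_curve_eq_zero (k : Type u) [Field k] [IsAlgClosed k] (X : Scheme.{u}) (f : X ⟶ Spec (CommRingCat.of k))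
    [Smooth f] [IsSeparated f] [LocallyOfFiniteType f] [QuasiCompact f] [IsIntegral X]
    (hdim : topologicalKrullDim X = 1) (n : ℕ) (e : EtCoh.H X (EtCoh.Gm X) (n + 2)) : e = 0 := by
  haveI := locallyNoetherian_over k f
  haveI : CompactSpace X := QuasiCompact.compactSpace_of_compactSpace f
  haveI : QuasiSeparatedSpace X := quasiSeparatedSpace_of_quasiSeparated f
  haveI : HasCoproduct fun x : HtOne X => Sk X x.1 :=
    haveI := hasColimitsOfShape_of_equivalence (C := EtCoh.Ab X)
      (Discrete.equivalence (Equiv.ulift.{u + 1} : ULift.{u + 1} (HtOne X) ≃ HtOne X))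
    inferInstance
  let S := fun x : HtOne X => Sk X x.1
  let c : Cofan S := Cofan.mk (∐ S) (Sigma.ι S)
  obtain ⟨-, D, h, hS⟩ := exists_div_sequence (regular_of_smooth_over k f) (c := c) (coproductIsCoproduct S)
  have h1 : e.comp (Ext.mk₀ (ShortComplex.mk _ _ h).f) (add_zero (n + 2)) = 0 :=
    @Subsingleton.elim _ (S0231.result k X f hdim (n + 2) (by omega)) _ _
  obtain ⟨y, hy⟩ := Ext.covariant_sequence_exact₁ _ hS e h1 (n₀ := n + 1) rfl
  have hy0 : y = 0 := @Subsingleton.elim _ (subsingleton_H_sum_sky f (fun x : HtOne X => x.1)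
    (fun x => (closed_iff_htOne hdim x.1).2 x.2) c (coproductIsCoproduct S) (n + 1) (by omega)) _ _
  rw [← hy, hy0, Ext.zero_comp]

end Groth.Agent.EtTraceLib
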