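import Mathlib.FieldTheory.IsSepClosed
import Mathlib.LinearAlgebra.Dimension.Finrank
import Mathlib.RingTheory.Finiteness.Basic
import Mathlib.Algebra.CharP.Lemmas
import Mathlib.Algebra.Polynomial.Roots
import Mathlib.LinearAlgebra.FiniteDimensional.Basic

/-!
# `p`-linear endomorphisms of finite dimensional spaces
-/

set_option autoImplicit false

universe u v

open Polynomial

namespace Groth.Agent.EtTraceLib.SemiLin

variable {k : Type u} [Field k] {V : Type v} [AddCommGroup V] [Module k V] (p : ℕ) [hp : Fact p.Prime] [CharP k p]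

/-- Coefficient polynomials. -/
noncomputable def xpol (c : ℕ → k) : ℕ → k[X]
  | 0 => C (c 0) * X ^ p - 1
  | i + 1 => xpol c i ^ p + C (c (i + 1)) * X ^ p

omit hp in
theorem derivative_xpol (c : ℕ → k) : ∀ i, derivative (xpol p c i) = 0
  | 0 => by simp [xpol, derivative_pow, CharP.cast_eq_zero]
  | i + 1 => by simp [xpol, derivative_pow, CharP.cast_eq_zero]

/-- `φ - 1` is surjective for `p`-linear `φ` over a separably closed field. -/
theorem surjective_sub [IsSepClosed k] [Module.Finite k V] (φ : V →+ V) (hφ : ∀ (a : k) (v : V), φ (a • v) = a ^ p • φ v) :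
    Function.Surjective fun v => φ v - v := by
  classical
  intro v
  let u : ℕ → V := fun i => φ^[i] v
  have hu : ∀ i, φ (u i) = u (i + 1) := fun i => (Function.iterate_succ_apply' φ i v).symm
  obtain ⟨n, hn⟩ : ∃ n, u n ∈ Submodule.span k (u '' (Set.Iio n)) := by
    by_contra h
    push Not at h
    have hli : ∀ n : ℕ, LinearIndependent k (fun i : Fin n => u i) := by
      intro n
      induction n with
      | zero => exact linearIndependent_empty_type
      | succ n ih =>
        rw [linearIndependent_fin_succ']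
        refine ⟨ih, fun hm => h n (Submodule.span_mono ?_ hm)⟩
        rintro _ ⟨i, rfl⟩
        exact ⟨i, i.2, rfl⟩
    exact absurd ((hli (Module.finrank k V + 1)).fintype_card_le_finrank) (by simp)
  obtain ⟨m, rfl⟩ | rfl : (∃ m, n = m + 1) ∨ n = 0 := by
    rcases n with _ | m
    · exact Or.inr rfl
    · exact Or.inl ⟨m, rfl⟩
  swap
  · refine ⟨0, ?_⟩
    have h0 : u 0 = 0 := by simpa using hn
    exact (show φ 0 - 0 = v by rw [map_zero, sub_zero]; exact h0.symm)
  have him : u '' Set.Iio (m + 1) = Set.range fun i : Fin (m + 1) => u i := by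
    ext x
    exact ⟨fun ⟨i, hi, hx⟩ => ⟨⟨i, hi⟩, hx⟩, fun ⟨i, hx⟩ => ⟨i, i.2, hx⟩⟩
  rw [him, Submodule.mem_span_range_iff_exists_fun] at hn
  obtain ⟨c', hc'⟩ := hn
  let c : ℕ → k := fun i => if h : i < m + 1 then c' ⟨i, h⟩ else 0
  have hc : u (m + 1) = ∑ i ∈ Finset.range (m + 1), c i • u i := by
    rw [← hc', ← Fin.sum_univ_eq_sum_range (fun i => c i • u i)]
    exact Finset.sum_congr rfl fun i _ => by simp only [c, dif_pos i.2, Fin.eta]
  let P := xpol p c m - X
  have hP : derivative P = -1 := by simp [P, derivative_xpol]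
  have hsep : P.Separable := by
    rw [separable_def, hP]
    exact isCoprime_one_right.neg_right
  have hdeg : P.degree ≠ 0 := fun h => by
    rw [eq_C_of_degree_le_zero h.le, derivative_C] at hP
    exact one_ne_zero (neg_eq_zero.1 hP.symm)
  obtain ⟨t, ht⟩ := IsSepClosed.exists_root P hdeg hsep
  let x : ℕ → k := fun i => (xpol p c i).eval t
  have hx0 : x 0 + 1 = c 0 * t ^ p := by simp [x, xpol]
  have hxs : ∀ i, x i ^ p + c (i + 1) * t ^ p = x (i + 1) := fun i => by simp [x, xpol]
  have hxm : x m = t := sub_eq_zero.1 (by simpa [P, IsRoot, x] using ht)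
  refine ⟨∑ i ∈ Finset.range (m + 1), x i • u i, ?_⟩
  show φ _ - _ = _
  rw [map_sum, sub_eq_iff_eq_add]
  simp only [hφ, hu]
  rw [Finset.sum_range_succ, hxm, hc, Finset.smul_sum,
    Finset.sum_range_succ' (fun i => t ^ p • c i • u i), Finset.sum_range_succ' (fun i => x i • u i),
    ← add_assoc, ← Finset.sum_add_distrib]
  have hs : ∀ i, x i ^ p • u (i + 1) + t ^ p • c (i + 1) • u (i + 1) = x (i + 1) • u (i + 1) := fun i => by
    rw [smul_smul, ← add_smul, mul_comm (t ^ p), hxs]
  simp only [hs]
  rw [smul_smul, mul_comm (t ^ p), ← hx0, add_smul, one_smul, ← add_assoc]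
  exact add_comm _ _

/-- The fixed points of a `p`-linear endomorphism form a finite set. -/
theorem finite_fixed [Module.Finite k V] (φ : V →+ V) (hφ : ∀ (a : k) (v : V), φ (a • v) = a ^ p • φ v) :
    {v : V | φ v = v}.Finite := by
  classical
  obtain ⟨B, hBS, hspan, hB⟩ := exists_linearIndependent k {v : V | φ v = v}
  haveI : Fintype B := (hB.setFinite).fintype
  let R := {a : k | a ^ p = a}
  have hR : R.Finite := by
    refine ((X ^ p - X : k[X]).roots.toFinset.finite_toSet).subset fun a ha => ?_
    have h0 : (X ^ p - X : k[X]) ≠ 0 := fun h => by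
      have := congrArg derivative h
      simp [derivative_pow, CharP.cast_eq_zero] at this
    simp only [Finset.mem_coe, Multiset.mem_toFinset, mem_roots h0, IsRoot, eval_sub, eval_pow, eval_X]
    exact sub_eq_zero.2 ha
  refine ((Set.Finite.pi fun _ : B => hR).image (fun c : B → k => ∑ b : B, c b • (b : V))).subset fun v hv => ?_
  have hmem : v ∈ Submodule.span k (Set.range (Subtype.val : B → V)) := by
    rw [Subtype.range_coe, hspan]
    exact Submodule.subset_span hv
  obtain ⟨c, hc⟩ := (Submodule.mem_span_range_iff_exists_fun k).1 hmem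
  refine ⟨c, fun b _ => ?_, hc⟩
  have h1 : ∑ b : B, c b • (b : V) = ∑ b : B, c b ^ p • (b : V) := by
    rw [hc]
    conv_lhs => rw [← (show φ v = v from hv), ← hc, map_sum]
    exact Finset.sum_congr rfl fun b _ => by rw [hφ, show φ (b : V) = b from hBS b.2]
  have h2 := Fintype.linearIndependent_iff.1 hB (fun b => c b ^ p - c b)
    (by simp only [sub_smul, Finset.sum_sub_distrib]; rw [← h1]; exact sub_self _) b
  exact sub_eq_zero.1 h2

end Groth.Agent.EtTraceLib.SemiLin
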