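import Groth.Agent.EtTraceLib.GaCmp
import Groth.Agent.EtTraceLib.SemiLin
import Groth.Agent.EtVanish.ArtinSchreier
import Groth.Agent.S0002
import Groth.Agent.S0469
import Groth.Agent.FLCLib.Topology
import Groth.Agent.S0103
import Groth.Agent.DevLib.Closed
import Groth.Agent.EtTraceLib.SepExt

/-!
# The Artin–Schreier sequence on proper schemes
-/

set_option autoImplicit false
set_option backward.isDefEq.respectTransparency false
set_option backward.isDefEq.respectTransparency.types false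
set_option linter.style.haveILetI false
set_option maxHeartbeats 1000000

universe u

open CategoryTheory CategoryTheory.Limits AlgebraicGeometry Opposite CategoryTheory.Abelian

noncomputable section

namespace Groth.Agent.EtTraceLib.ASProper

open GaCmp

variable {X : Scheme.{u}} (p : ℕ) (hp : p.Prime) (h0 : (p : Γ(X, ⊤)) = 0)

/-- The Frobenius endomorphism of `G_a`. -/
def frobGa : EtCoh.Ga X ⟶ EtCoh.Ga X :=
  W4c5etcohweilstudent.artinSchreierEndo X p hp h0 + 𝟙 _

theorem mulGa_frob (r : Γ(X, ⊤)) : mulGa r ≫ frobGa p hp h0 = frobGa p hp h0 ≫ mulGa (r ^ p) := by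
  refine ObjectProperty.hom_ext _ (NatTrans.ext (funext fun U => ConcreteCategory.hom_ext _ _ fun s => ?_))
  obtain ⟨x⟩ := s
  let y : (Γ(U.unop.left, ⊤) : Type u) := x
  let r' : (Γ(U.unop.left, ⊤) : Type u) := (str U.unop).appTop r
  apply ULift.ext
  show (r' * y) ^ p - r' * y + r' * y = (str U.unop).appTop (r ^ p) * (y ^ p - y + y)
  rw [sub_add_cancel, sub_add_cancel, map_pow, mul_pow]

variable (k : Type u) [Field k] [CharP k p] (f : X ⟶ Spec (CommRingCat.of k)) [IsProper f]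

include f in
theorem exists_semilinear (q : ℕ) :
    ∃ (V : Type u) (_ : AddCommGroup V) (_ : Module k V) (_ : Module.Finite k V) (φ : V →+ V)
      (e : V ≃+ EtCoh.H X (EtCoh.Ga X) q), (∀ (a : k) (v : V), φ (a • v) = a ^ p • φ v) ∧
      ∀ v : V, (e v).comp (Ext.mk₀ (W4c5etcohweilstudent.artinSchreierEndo X p hp h0)) (add_zero q) = e (φ v - v) := by
  haveI : EtZar.ZarCont X := EtTraceLib.zarCont X
  letI : X.Over (Spec (CommRingCat.of k)) := ⟨f⟩
  haveI : IsProper (X ↘ Spec (CommRingCat.of k)) := ‹IsProper f›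
  haveI : IsLocallyNoetherian X := LocallyOfFiniteType.isLocallyNoetherian f
  obtain ⟨e, he⟩ := exists_cmp X q
  have hfin : Module.Finite k (Coh.HH X (Coh.structureModule X) q) :=
    S0002.result k X (Coh.structureModule X) (DevLib.isCoh_structureModule X) q
  let F : EtCoh.H X (EtCoh.Ga X) q →+ EtCoh.H X (EtCoh.Ga X) q :=
    AddMonoidHom.mk' (fun w => w.comp (Ext.mk₀ (frobGa p hp h0)) (add_zero q)) fun _ _ => Ext.add_comp _ _ _ _
  let φ : Coh.HH X (Coh.structureModule X) q →+ Coh.HH X (Coh.structureModule X) q :=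
    e.symm.toAddMonoidHom.comp (F.comp e.toAddMonoidHom)
  have hφ : ∀ v, e (φ v) = F (e v) := fun v => e.apply_symm_apply _
  refine ⟨_, inferInstance, inferInstance, hfin, φ, e, fun a v => e.injective ?_, fun v => ?_⟩
  · let r := Coh.toGlobal (X ↘ Spec (CommRingCat.of k)) a
    have hr : r ^ p = Coh.toGlobal (X ↘ Spec (CommRingCat.of k)) (a ^ p) := (map_pow _ _ _).symm
    show e (φ (r • v)) = e (Coh.toGlobal (X ↘ Spec (CommRingCat.of k)) (a ^ p) • φ v)
    rw [hφ, he, he, hφ, ← hr]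
    show ((e v).comp (Ext.mk₀ (mulGa r)) (add_zero q)).comp (Ext.mk₀ (frobGa p hp h0)) (add_zero q) =
      ((e v).comp (Ext.mk₀ (frobGa p hp h0)) (add_zero q)).comp (Ext.mk₀ (mulGa (r ^ p))) (add_zero q)
    rw [Ext.comp_assoc_of_second_deg_zero, Ext.comp_assoc_of_second_deg_zero, Ext.mk₀_comp_mk₀, Ext.mk₀_comp_mk₀,
      mulGa_frob]
  · rw [map_sub, hφ]
    show _ = (e v).comp (Ext.mk₀ (frobGa p hp h0)) (add_zero q) - e v
    rw [frobGa, Ext.mk₀_add, Ext.comp_add, Ext.comp_mk₀_id, add_sub_cancel_right]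

include f in
theorem surjective_AS [IsSepClosed k] (q : ℕ) (x : EtCoh.H X (EtCoh.Ga X) q) :
    ∃ w : EtCoh.H X (EtCoh.Ga X) q,
      w.comp (Ext.mk₀ (W4c5etcohweilstudent.artinSchreierEndo X p hp h0)) (add_zero q) = x := by
  haveI := Fact.mk hp
  obtain ⟨V, _, _, _, φ, e, hφ, he⟩ := exists_semilinear p hp h0 k f q
  obtain ⟨v, hv⟩ := SemiLin.surjective_sub p φ hφ (e.symm x)
  exact ⟨e v, (he v).trans (by rw [show φ v - v = e.symm x from hv, AddEquiv.apply_symm_apply])⟩

theorem subsingleton_H_of_isEmpty [IsEmpty X] (F : EtCoh.Ab X) (q : ℕ) : Subsingleton (EtCoh.H X F q) := by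
  refine subsingleton_of_forall_eq 0 fun x => ?_
  have h : 𝟙 F = 0 := by
    refine ObjectProperty.hom_ext _ (NatTrans.ext (funext fun U => ConcreteCategory.hom_ext _ _ fun s => ?_))
    haveI : IsEmpty U.unop.left := ⟨fun z => IsEmpty.false (α := X) ((str U.unop) z)⟩
    exact sect_eq_zero_of_locally F s fun z => isEmptyElim z
  rw [← Ext.comp_mk₀_id x, h, Ext.mk₀_zero, Ext.comp_zero]

theorem charP_global [Nonempty X] (hp : p.Prime) (h0 : (p : Γ(X, ⊤)) = 0) : CharP Γ(X, ⊤) p := by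
  haveI : Nontrivial Γ(X, ⊤) := (X.presheaf.germ ⊤ (Classical.arbitrary X) trivial).hom.domain_nontrivial
  exact (CharP.charP_iff_prime_eq_zero hp).2 h0

omit [IsProper f] in
include f in
theorem natCast_eq_zero : (p : Γ(X, ⊤)) = 0 := by
  rw [← map_natCast ((Scheme.ΓSpecIso (CommRingCat.of k)).inv ≫ f.appTop).hom p, CharP.cast_eq_zero, map_zero]

include f in
theorem subsingleton_H_zmod [Fact p.Prime] [IsSepClosed k] (d : ℕ) (hd : topologicalKrullDim X = d) (q : ℕ)
    (hq : d + 1 ≤ q) : Subsingleton (EtCoh.H X (EtCoh.const X (ZMod p)) q) := by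
  rcases isEmpty_or_nonempty X with hX | hX
  · exact subsingleton_H_of_isEmpty _ q
  have h0 := natCast_eq_zero p k f
  haveI := charP_global p (Fact.out) h0
  haveI : EtZar.ZarCont X := EtTraceLib.zarCont X
  haveI : CompactSpace X := QuasiCompact.compactSpace_of_compactSpace f
  haveI : QuasiSeparatedSpace X := quasiSeparatedSpace_of_quasiSeparated f
  obtain ⟨n, rfl⟩ : ∃ n, q = n + 1 := ⟨q - 1, by omega⟩
  obtain ⟨e⟩ := S0110.result X (n + 1)
  haveI : Subsingleton (Coh.HH X (Coh.structureModule X) (n + 1)) :=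
    S0469.result (X := X.toPresheafedSpace.carrier) d hd.le (Coh.toAb (Coh.structureModule X)) (n + 1) (by omega)
  haveI : Subsingleton (EtCoh.H X (EtCoh.Ga X) (n + 1)) := e.toEquiv.subsingleton
  have hS := EtVanish.shortExact_AS (X := X) p (Fact.out) h0
  refine subsingleton_of_forall_eq 0 fun x => ?_
  obtain ⟨y, rfl⟩ := Ext.covariant_sequence_exact₁ _ hS x (Subsingleton.elim (α := EtCoh.H X (EtCoh.Ga X) (n + 1)) _ _) rfl
  obtain ⟨w, rfl⟩ := surjective_AS p (Fact.out) h0 k f n y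
  refine (Ext.comp_assoc_of_second_deg_zero _ (Ext.mk₀ _) hS.extClass rfl).trans ?_
  exact (congrArg (fun z => Ext.comp w z (rfl : n + 1 = n + 1)) hS.comp_extClass).trans (Ext.comp_zero _ _ _ _ _)

include f in
theorem finite_H_zmod [Fact p.Prime] [IsSepClosed k] (q : ℕ) :
    Finite (EtCoh.H X (EtCoh.const X (ZMod p)) q) := by
  rcases isEmpty_or_nonempty X with hX | hX
  · haveI := subsingleton_H_of_isEmpty (EtCoh.const X (ZMod p)) q
    infer_instance
  have h0 := natCast_eq_zero p k f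
  haveI := charP_global p (Fact.out) h0
  have hS := EtVanish.shortExact_AS (X := X) p (Fact.out) h0
  haveI := hS.mono_f
  obtain ⟨V, _, _, _, φ, e, hφ, he⟩ := exists_semilinear p (Fact.out) h0 k f q
  have hfix : {v : V | φ v = v}.Finite := SemiLin.finite_fixed p φ hφ
  haveI := hfix.to_subtype
  let m : EtCoh.H X (EtCoh.const X (ZMod p)) q → {v : V | φ v = v} := fun x =>
    ⟨e.symm (x.comp (Ext.mk₀ (EtVanish.asConst (X := X) p)) (add_zero q)), by
      refine sub_eq_zero.1 (e.injective ?_)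
      rw [← he, AddEquiv.apply_symm_apply, map_zero, Ext.comp_assoc_of_second_deg_zero, Ext.mk₀_comp_mk₀,
        EtVanish.asConst_comp p (Fact.out) h0, Ext.mk₀_zero, Ext.comp_zero]⟩
  refine Finite.of_injective m fun a b hab => sub_eq_zero.1 ?_
  have h1 := e.symm.injective (congrArg Subtype.val hab)
  have h2 : (a - b).comp (Ext.mk₀ (EtVanish.asConst (X := X) p)) (add_zero q) = 0 := by
    rw [sub_eq_add_neg, Ext.add_comp, Ext.neg_comp, h1, add_neg_cancel]
  rcases Nat.eq_zero_or_pos q with rfl | hq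
  · obtain ⟨g, hg⟩ := (Ext.mk₀_bijective _ _).2 (a - b)
    rw [← hg, Ext.mk₀_comp_mk₀] at h2
    have h3 : g ≫ EtVanish.asConst (X := X) p = 0 := (Ext.mk₀_bijective _ _).1 (h2.trans (Ext.mk₀_zero _ _).symm)
    rw [← hg, zero_of_comp_mono (EtVanish.asConst (X := X) p) h3, Ext.mk₀_zero]
  · obtain ⟨n, rfl⟩ : ∃ n, q = n + 1 := ⟨q - 1, by omega⟩
    obtain ⟨y, hy⟩ := Ext.covariant_sequence_exact₁ _ hS (a - b) h2 rfl
    obtain ⟨w, hw⟩ := surjective_AS p (Fact.out) h0 k f n y
    rw [← hy, ← hw]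
    refine (Ext.comp_assoc_of_second_deg_zero _ (Ext.mk₀ _) hS.extClass rfl).trans ?_
    exact (congrArg (fun z => Ext.comp w z (rfl : n + 1 = n + 1)) hS.comp_extClass).trans (Ext.comp_zero _ _ _ _ _)

end Groth.Agent.EtTraceLib.ASProper
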