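import Groth.Agent.EtTraceLib.Kill
import Groth.Prelude.Def_EtAcyc
import Mathlib.GroupTheory.Sylow
import Mathlib.FieldTheory.Galois.Basic
import Mathlib.FieldTheory.Normal.Closure

/-!
# Applications of the trace
-/

set_option autoImplicit false
set_option backward.isDefEq.respectTransparency false
set_option backward.isDefEq.respectTransparency.types false
set_option linter.style.haveILetI false
set_option maxHeartbeats 1000000

universe u

open CategoryTheory CategoryTheory.Limits AlgebraicGeometry Opposite CategoryTheory.Abelian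

noncomputable section

namespace Groth.Agent.EtTraceLib

open EtPtsLib

variable {X' X : Scheme.{u}} (π : X' ⟶ X) [AlgebraicGeometry.Etale π]

/-- Inverse image along an etale morphism of a torsion sheaf is torsion. -/
theorem isTorsion_pull {F : EtCoh.Ab X} (hF : EtCoh.IsTorsion F) : EtCoh.IsTorsion ((EtCoh.pull π).obj F) := by
  haveI := EtJCont.jCont π
  intro U s x
  let a := (pullIsoRestr π).app F
  obtain ⟨W, g, ⟨v, hv⟩, hg⟩ := hF ((EtShriek.compEtale π).obj U) (a.hom.hom.app (op U) s) x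
  haveI : AlgebraicGeometry.Etale g.left := EtPtsLib.etale_left g
  haveI : AlgebraicGeometry.Etale U.hom := U.prop
  let W' : X'.Etale := Scheme.Etale.mk (g.left ≫ U.hom)
  let g' : W' ⟶ U := MorphismProperty.Over.homMk g.left rfl
  let i : (EtShriek.compEtale π).obj W' ⟶ W :=
    MorphismProperty.Over.homMk (𝟙 W.left) ((Category.id_comp _).trans
      ((MorphismProperty.Over.w g).symm.trans (Category.assoc _ _ _).symm))
  refine ⟨W', g', ⟨v, hv⟩, ?_⟩
  have e : (EtShriek.compEtale π).map g' = i ≫ g := MorphismProperty.Over.Hom.ext (Category.id_comp _).symm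
  have h1 : IsOfFinAddOrder (((EtShriek.restrAlong π).obj F).obj.map g'.op (a.hom.hom.app (op U) s)) := by
    show IsOfFinAddOrder (F.obj.map ((EtShriek.compEtale π).map g').op (a.hom.hom.app (op U) s))
    rw [e, op_comp, Functor.map_comp_apply]
    exact (F.obj.map i.op).hom.isOfFinAddOrder hg
  have h2 : a.inv.hom.app (op W') (((EtShriek.restrAlong π).obj F).obj.map g'.op (a.hom.hom.app (op U) s)) =
      ((EtCoh.pull π).obj F).obj.map g'.op s := by
    refine (NatTrans.naturality_apply a.inv.hom g'.op _).trans (congrArg (((EtCoh.pull π).obj F).obj.map g'.op) ?_)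
    exact ConcreteCategory.congr_hom (congrArg (fun m => m.hom.app (op U)) a.hom_inv_id) s
  rw [← h2]
  exact (a.inv.hom.app (op W')).hom.isOfFinAddOrder h1

/-- Multiplication by an integer prime to the torsion is bijective. -/
theorem isIso_nsmul_id {L : Set ℕ} {d : ℕ} (hL : ∀ p : ℕ, p.Prime → p ∈ L → ¬ p ∣ d) {F : EtCoh.Ab X}
    (hF : EtAcyc.IsLTorsion L F) : IsIso (d • 𝟙 F) := by
  have hcop : ∀ m, EtAcyc.PrimesIn L m → Nat.Coprime m d := fun m hm =>
    Nat.coprime_of_dvd fun p hp hpm => hL p hp (hm.2 p hp hpm)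
  have happ : ∀ (U : X.Etale) (s : EtCoh.sect F U), (d • 𝟙 F : F ⟶ F).hom.app (op U) s = d • s := fun U s => rfl
  haveI : Sheaf.IsLocallyInjective (d • 𝟙 F : F ⟶ F) := by
    refine ⟨fun {U} a b hab => covering_of_points _ fun x => ?_⟩
    obtain ⟨U⟩ := U
    obtain ⟨V, g, m, ⟨v, hv⟩, hm, hg⟩ := hF U (a - b) x
    refine ⟨V, g, v, ?_, hv⟩
    show F.obj.map g.op a = F.obj.map g.op b
    rw [← sub_eq_zero, ← map_sub]
    have h1 : d • F.obj.map g.op (a - b) = 0 := by
      have hab' : d • a = d • b := hab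
      rw [← map_nsmul, smul_sub, hab', sub_self, map_zero]
    have := addOrderOf_dvd_iff_nsmul_eq_zero.2 hg
    have h2 := Nat.dvd_gcd this (addOrderOf_dvd_iff_nsmul_eq_zero.2 h1)
    rw [(hcop m hm).gcd_eq_one, Nat.dvd_one, AddMonoid.addOrderOf_eq_one_iff] at h2
    exact h2
  haveI : Sheaf.IsLocallySurjective (d • 𝟙 F : F ⟶ F) := by
    refine ⟨fun {U} s => covering_of_points _ fun x => ?_⟩
    obtain ⟨V, g, m, ⟨v, hv⟩, hm, hg⟩ := hF U s x
    refine ⟨V, g, v, ⟨(Nat.gcdB m d) • F.obj.map g.op s, ?_⟩, hv⟩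
    show d • (Nat.gcdB m d • F.obj.map g.op s) = F.obj.map g.op s
    have hb : (1 : ℤ) = m * Nat.gcdA m d + d * Nat.gcdB m d := by
      rw [← Nat.gcd_eq_gcd_ab, (hcop m hm).gcd_eq_one]; rfl
    rw [← natCast_zsmul, smul_smul]
    calc ((d : ℤ) * Nat.gcdB m d) • F.obj.map g.op s
        = (1 : ℤ) • F.obj.map g.op s - (Nat.gcdA m d) • ((m : ℤ) • F.obj.map g.op s) := by
          rw [hb, smul_smul, add_zsmul, mul_comm (Nat.gcdA m d)]; abel
      _ = F.obj.map g.op s := by rw [natCast_zsmul, hg, zsmul_zero, sub_zero, one_zsmul]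
  exact (Sheaf.isLocallyBijective_iff_isIso (d • 𝟙 F : F ⟶ F)).1 ⟨inferInstance, inferInstance⟩

theorem eq_zero_of_nsmul_eq_zero {A F : EtCoh.Ab X} {d n : ℕ} (h : IsIso (d • 𝟙 F)) (x : Ext A F n) (hx : d • x = 0) :
    x = 0 := by
  let c : Ext F F 0 →+ Ext A F n := AddMonoidHom.mk' (fun z => x.comp z (add_zero n)) fun a b => Ext.comp_add _ _ _ _
  have h0 : x.comp (Ext.mk₀ (d • 𝟙 F)) (add_zero n) = 0 := by
    show c (Ext.addEquiv₀.symm (d • 𝟙 F)) = 0
    rw [map_nsmul, map_nsmul]
    exact (congrArg (d • ·) (Ext.comp_mk₀_id x)).trans hx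
  have := congrArg (fun z => z.comp (Ext.mk₀ (inv (d • 𝟙 F))) (add_zero n)) h0
  simpa only [Ext.zero_comp, Ext.comp_assoc_of_second_deg_zero, Ext.mk₀_comp_mk₀, IsIso.hom_inv_id,
    Ext.comp_mk₀_id] using this

theorem subsingleton_H_of_pull [IsFinite π] {d : ℕ} (hd : HasDegree π d) {L : Set ℕ}
    (hL : ∀ p : ℕ, p.Prime → p ∈ L → ¬ p ∣ d) (F : EtCoh.Ab X) (hF : EtAcyc.IsLTorsion L F)
    [PreservesFiniteLimits (EtCoh.pull π)] (q : ℕ)
    (h : Subsingleton (EtCoh.H X' ((EtCoh.pull π).obj F) q)) : Subsingleton (EtCoh.H X F q) := by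
  refine subsingleton_of_forall_eq 0 fun x => ?_
  exact eq_zero_of_nsmul_eq_zero (isIso_nsmul_id hL hF) x
    (nsmul_eq_zero_of_hpull π hd F q x (h.elim _ _))

/-- The counit of extension by zero along an etale surjection is an epimorphism. -/
theorem epi_counit [EtShriek.JCont π] [Surjective π] (F : EtCoh.Ab X) : Epi ((EtShriek.extZeroAdj π).counit.app F) := by
  haveI : Sheaf.IsLocallySurjective ((EtShriek.extZeroAdj π).counit.app F) := by
    refine ⟨fun {U} s => covering_of_points _ fun x => ?_⟩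
    let W := (EtCoh.bc π).obj U
    let ε : (EtShriek.compEtale π).obj W ⟶ U := (compBcAdj π).counit.app U
    let t : EtCoh.sect ((EtShriek.restrAlong π).obj F) W := F.obj.map ε.op s
    haveI : Surjective (pullback.fst U.hom π) := inferInstance
    obtain ⟨y, hy⟩ := Surjective.surj (f := pullback.fst U.hom π) x
    refine ⟨_, ε, y, ⟨((EtShriek.extZeroAdj π).unit.app _).hom.app (op W) t,
      ConcreteCategory.congr_hom (congrArg (fun m => m.hom.app (op W))
        ((EtShriek.extZeroAdj π).right_triangle_components F)) t⟩, ?_⟩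
    exact (congrArg (fun m : pullback U.hom π ⟶ U.left => m y) (Category.id_comp _)).trans hy
  exact (Sheaf.isLocallySurjective_iff_epi' AddCommGrpCat.{u + 1} ((EtShriek.extZeroAdj π).counit.app F)).1 inferInstance

section Field

variable (k : Type u) [Field k]

theorem eq_zero_of_uniquely_divisible (F : EtCoh.Ab (Spec (CommRingCat.of k)))
    (hdiv : ∀ n : ℕ, 0 < n → IsIso (n • 𝟙 F)) (i : ℕ) (hi : 0 < i) (x : EtCoh.H (Spec (CommRingCat.of k)) F i) :
    x = 0 := by
  obtain ⟨j, rfl⟩ := Nat.exists_eq_succ_of_ne_zero hi.ne'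
  obtain ⟨m, hm, hx⟩ := isOfFinAddOrder_iff_nsmul_eq_zero.1 (isOfFinAddOrder k F j x)
  exact eq_zero_of_nsmul_eq_zero (hdiv m hm) x hx

theorem eq_zero_of_finite_prime_to (K : Type u) [Field K] [Algebra k K]
    [FiniteDimensional k K] [Algebra.IsSeparable k K] (p : ℕ) [Fact p.Prime]
    (hdeg : ¬ p ∣ Module.finrank k K) (n : ℕ)
    (hcd : ∀ (F : EtCoh.Ab (Spec (CommRingCat.of K))), EtCoh.IsTorsion F → ∀ q : ℕ, n < q →
        ∀ x : EtCoh.H (Spec (CommRingCat.of K)) F q, (∃ m : ℕ, p ^ m • x = 0) → x = 0)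
    (F : EtCoh.Ab (Spec (CommRingCat.of k))) (hF : EtCoh.IsTorsion F) (q : ℕ) (hq : n < q)
    (x : EtCoh.H (Spec (CommRingCat.of k)) F q) (hx : ∃ m : ℕ, p ^ m • x = 0) : x = 0 := by
  let j := Spec.map (CommRingCat.ofHom (algebraMap k K))
  haveI := etale_specMap k K
  haveI := isFinite_specMap k K
  haveI := preservesFiniteLimits_pull j
  obtain ⟨m, hm⟩ := hx
  have h0 : EtCore.Hpull j F q x = 0 :=
    hcd _ (isTorsion_pull j hF) q hq _ ⟨m, by rw [← map_nsmul, hm, map_zero]⟩
  have h1 : Module.finrank k K • x = 0 := nsmul_eq_zero_of_hpull j (hasDegree_specMap k K) F q x h0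
  have hc : Nat.Coprime (p ^ m) (Module.finrank k K) :=
    ((Fact.out : p.Prime).coprime_iff_not_dvd.2 hdeg).pow_left m
  have h2 := Nat.dvd_gcd (addOrderOf_dvd_iff_nsmul_eq_zero.2 hm) (addOrderOf_dvd_iff_nsmul_eq_zero.2 h1)
  rw [hc.gcd_eq_one, Nat.dvd_one, AddMonoid.addOrderOf_eq_one_iff] at h2
  exact h2

theorem mapExact_comp_eq_zero_iff {A B : Scheme.{u}} {C : Scheme.{u}} (g : A ⟶ B) (f : B ⟶ C) (h : A ⟶ C) (w : g ≫ f = h)
    [PreservesFiniteLimits (EtCoh.pull g)] [PreservesFiniteLimits (EtCoh.pull f)] [PreservesFiniteLimits (EtCoh.pull h)]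
    {Z F : EtCoh.Ab C} (n : ℕ) (α : Ext Z F n) :
    Ext.mapExactFunctor (EtCoh.pull h) α = 0 ↔ Ext.mapExactFunctor (EtCoh.pull g) (Ext.mapExactFunctor (EtCoh.pull f) α) = 0 := by
  subst w
  haveI : PreservesFiniteLimits (EtCoh.pull f ⋙ EtCoh.pull g) := comp_preservesFiniteLimits _ _
  haveI : PreservesFiniteColimits (EtCoh.pull f ⋙ EtCoh.pull g) := comp_preservesFiniteColimits _ _
  rw [← mapExactFunctor_functor_comp]
  have nat := ExtNatLib.mapExactFunctor_naturality (EtCoh.pull (g ≫ f)) (EtCoh.pull f ⋙ EtCoh.pull g)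
    (EtCore.pullComp g f).hom n α
  constructor <;> intro h0
  · rw [h0, Ext.zero_comp] at nat
    have := congrArg (fun z => (Ext.mk₀ ((EtCore.pullComp g f).inv.app Z)).comp z (zero_add n)) nat.symm
    simpa only [Ext.comp_zero, Ext.mk₀_comp_mk₀_assoc, Iso.inv_hom_id_app, Ext.mk₀_id_comp] using this
  · rw [h0, Ext.comp_zero] at nat
    have := congrArg (fun z => z.comp (Ext.mk₀ ((EtCore.pullComp g f).inv.app F)) (add_zero n)) nat
    simpa only [Ext.zero_comp, Ext.comp_assoc_of_second_deg_zero, Ext.mk₀_comp_mk₀, Iso.hom_inv_id_app,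
      Ext.comp_mk₀_id] using this

theorem exists_prime_to_kill (F : EtCoh.Ab (Spec (CommRingCat.of k))) (n : ℕ)
    (α : EtCoh.H (Spec (CommRingCat.of k)) F n) (L : Type u) [Field L] [Algebra k L] [FiniteDimensional k L]
    [Algebra.IsSeparable k L] [PreservesFiniteLimits (EtCoh.pull (Spec.map (CommRingCat.ofHom (algebraMap k L))))]
    (hα : EtCore.Hpull (Spec.map (CommRingCat.ofHom (algebraMap k L))) F n α = 0) (p : ℕ) (hp : p.Prime)
    (hpα : ¬ p ∣ addOrderOf α) :
    ∃ (L' : Type u) (_ : Field L') (_ : Algebra k L') (_ : FiniteDimensional k L') (_ : Algebra.IsSeparable k L'),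
      ¬ p ∣ Module.finrank k L' ∧
        ∀ [PreservesFiniteLimits (EtCoh.pull (Spec.map (CommRingCat.ofHom (algebraMap k L'))))],
          EtCore.Hpull (Spec.map (CommRingCat.ofHom (algebraMap k L'))) F n α = 0 := by
  haveI := Fact.mk hp
  let M := IntermediateField.normalClosure k L (AlgebraicClosure L)
  haveI : Algebra.IsAlgebraic k (AlgebraicClosure L) := Algebra.IsAlgebraic.trans k L (AlgebraicClosure L)
  haveI : IsAlgClosure k (AlgebraicClosure L) := ⟨inferInstance, inferInstance⟩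
  haveI : Normal k (AlgebraicClosure L) := IsAlgClosure.normal k _
  haveI : Algebra.IsSeparable k M := (le_separableClosure_iff k (AlgebraicClosure L) M).1 <|
    normalClosure_le_iff.2 fun f => by
      rintro _ ⟨x, rfl⟩
      exact mem_separableClosure_iff.2 ((Algebra.IsSeparable.isSeparable k x).map f f.injective)
  haveI : IsGalois k M := isGalois_iff.2 ⟨inferInstance, inferInstance⟩
  haveI : FiniteDimensional k M := normalClosure.is_finiteDimensional k L (AlgebraicClosure L)
  let σ : L →ₐ[k] M := (IsScalarTower.toAlgHom k L (AlgebraicClosure L)).codRestrict M.toSubalgebra fun x =>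
    (AlgHom.fieldRange_le_normalClosure (IsScalarTower.toAlgHom k L (AlgebraicClosure L))) ⟨x, rfl⟩
  let P : Sylow p (M ≃ₐ[k] M) := default
  let L' : IntermediateField k M := IntermediateField.fixedField (P : Subgroup (M ≃ₐ[k] M))
  have hP : Module.finrank L' M = Nat.card (P : Subgroup (M ≃ₐ[k] M)) := IntermediateField.finrank_fixedField_eq_card _
  have hL' : Module.finrank k L' = (P : Subgroup (M ≃ₐ[k] M)).index := by
    refine Nat.eq_of_mul_eq_mul_right (Module.finrank_pos : 0 < Module.finrank L' M) ?_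
    rw [Module.finrank_mul_finrank, hP, Subgroup.index_mul_card, IsGalois.card_aut_eq_finrank]
  refine ⟨L', inferInstance, inferInstance, inferInstance, inferInstance, hL' ▸ P.not_dvd_index, ?_⟩
  intro _
  let a := Spec.map (CommRingCat.ofHom (algebraMap k L'))
  let b := Spec.map (CommRingCat.ofHom (algebraMap L' M))
  let h := Spec.map (CommRingCat.ofHom (algebraMap k M))
  let g := Spec.map (CommRingCat.ofHom σ.toRingHom)
  let f := Spec.map (CommRingCat.ofHom (algebraMap k L))
  haveI := etale_specMap k L'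
  haveI := etale_specMap L' M
  haveI := isFinite_specMap L' M
  haveI := etale_specMap k L
  haveI := etale_specMap k M
  haveI := preservesFiniteLimits_pull b
  haveI := preservesFiniteLimits_pull h
  have hgf : g ≫ f = h := by
    rw [← Spec.map_comp]
    congr 1

  haveI : AlgebraicGeometry.Etale g := by
    haveI : AlgebraicGeometry.Etale (g ≫ f) := by rw [hgf]; infer_instance
    exact Etale.of_comp g f
  haveI := preservesFiniteLimits_pull g
  have hba : b ≫ a = h := by
    rw [← Spec.map_comp]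
    congr 1
  rw [hpull_eq_zero_iff] at hα ⊢
  have hM : Ext.mapExactFunctor (EtCoh.pull h) α = 0 :=
    (mapExact_comp_eq_zero_iff g f h hgf n α).2 (by rw [hα, Ext.mapExactFunctor_zero])
  have h1 := smul_eq_zero_of_pull_eq_zero b (hasDegree_specMap L' M) n _ ((mapExact_comp_eq_zero_iff b a h hba n α).1 hM)
  obtain ⟨e, he⟩ := IsPGroup.iff_card.1 P.isPGroup'
  rw [hP, he] at h1
  have h2 : addOrderOf α • Ext.mapExactFunctor (EtCoh.pull a) α = 0 := by
    rw [← Functor.mapExtAddHom_apply, ← map_nsmul, addOrderOf_nsmul_eq_zero, map_zero]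
  have hc : Nat.Coprime (p ^ e) (addOrderOf α) := (hp.coprime_iff_not_dvd.2 hpα).pow_left e
  have h3 := Nat.dvd_gcd (addOrderOf_dvd_iff_nsmul_eq_zero.2 h1) (addOrderOf_dvd_iff_nsmul_eq_zero.2 h2)
  rw [hc.gcd_eq_one, Nat.dvd_one, AddMonoid.addOrderOf_eq_one_iff] at h3
  exact h3

end Field

end Groth.Agent.EtTraceLib
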