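import Groth.Agent.EtTraceLib.GmVanish
import Groth.Agent.S13292
import Groth.Agent.S13295
import Groth.Agent.S13269
import Groth.Agent.S0212
import Groth.Agent.S0214
import Mathlib.RingTheory.AlgebraicIndependent.TranscendenceBasis

/-!
# Surjectivity of cyclic norms from triviality of Brauer groups
-/

set_option autoImplicit false
set_option linter.style.haveILetI false

universe u

open scoped TensorProduct

noncomputable section

namespace Groth.Agent.EtTraceLib

variable {E : Type u} [Field E]

/-- Central simple algebras are matrix algebras when there is no nontrivial central division algebra. -/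
theorem exists_matrix_of_brauer_trivial
    (hBr : ∀ (D : Type u) [DivisionRing D] [Algebra E D] [Algebra.IsCentral E D] [FiniteDimensional E D],
      Module.finrank E D = 1)
    (C : Type u) [Ring C] [Algebra E C] [Module.Finite E C] [IsSimpleRing C] [Algebra.IsCentral E C] :
    ∃ m : ℕ, m ≠ 0 ∧ Nonempty (C ≃ₐ[E] Matrix (Fin m) (Fin m) E) := by
  haveI : IsArtinianRing C := IsArtinianRing.of_finite E C
  obtain ⟨m, hm, D, _, _, _, ⟨e⟩⟩ := IsSimpleRing.exists_algEquiv_matrix_divisionRing_finite E C
  haveI := Algebra.IsCentral.of_algEquiv E _ _ e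
  haveI : Algebra.IsCentral E D := by
    refine ⟨fun x hx => ?_⟩
    have h1 : (Matrix.scalar (Fin m) x) ∈ Subalgebra.center E (Matrix (Fin m) (Fin m) D) := by
      rw [Subalgebra.mem_center_iff]
      intro M
      exact (Matrix.scalar_commute x (fun r => (Subalgebra.mem_center_iff.1 hx r).symm) M).eq.symm
    obtain ⟨r, hr⟩ := Algebra.IsCentral.mem_center_iff E |>.1 h1
    refine Algebra.mem_bot.2 ⟨r, ?_⟩
    have := congr_fun (congr_fun hr ⟨0, Nat.pos_of_ne_zero hm.out⟩) ⟨0, Nat.pos_of_ne_zero hm.out⟩
    simpa [Matrix.algebraMap_matrix_apply] using this.symm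
  have h := hBr D
  have hbij : Function.Bijective (Algebra.ofId E D) :=
    bijective_algebraMap_of_linearEquiv <| LinearEquiv.ofFinrankEq E D (by rw [Module.finrank_self, h])
  exact ⟨m, hm.out, ⟨e.trans (AlgEquiv.ofBijective (Algebra.ofId E D) hbij).symm.mapMatrix⟩⟩

/-- Norms from cyclic extensions are surjective when the Brauer groups are trivial. -/
theorem normSurj_of_brauer_trivial (K : Type u) [Field K]
    (hBr : ∀ (K' : Type u) [Field K'] [Algebra K K'] [FiniteDimensional K K']
      (D : Type u) [DivisionRing D] [Algebra K' D] [Algebra.IsCentral K' D] [FiniteDimensional K' D],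
      Module.finrank K' D = 1) : NormSurj K := by
  intro E L _ _ _ _ _ _ _ σ hσ a
  obtain ⟨B, -, hB⟩ := Groth.Agent.S13295.result E L σ hσ a
  obtain ⟨hc, hs, -⟩ := Groth.Agent.S13269.result E L σ hσ a B hB
  haveI : FiniteDimensional E B := Module.finite_of_finrank_pos (by
    obtain ⟨ι, y, -, -, -, hpos, hdim⟩ := hB
    rw [hdim]
    exact pow_pos hpos 2)
  obtain ⟨m, hm, ⟨e⟩⟩ := exists_matrix_of_brauer_trivial (E := E)
    (fun D _ _ _ _ => hBr E D) B
  exact (Groth.Agent.S13292.result E L σ hσ a B hB).1.1 ⟨m, hm, ⟨(Algebra.TensorProduct.lid E B).trans e⟩⟩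

/-- Finite extensions of a field of transcendence degree one over an algebraically closed field have trivial Brauer group. -/
theorem brauer_trivial_of_trdeg_one (k : Type u) [Field k] [IsAlgClosed k] (K : Type u) [Field K] [Algebra k K]
    (hK : Algebra.trdeg k K = 1) (K' : Type u) [Field K'] [Algebra K K'] [FiniteDimensional K K']
    (D : Type u) [DivisionRing D] [Algebra K' D] [Algebra.IsCentral K' D] [FiniteDimensional K' D] :
    Module.finrank K' D = 1 := by
  letI : Algebra k K' := ((algebraMap K K').comp (algebraMap k K)).toAlgebra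
  haveI : IsScalarTower k K K' := IsScalarTower.of_algebraMap_eq fun _ => rfl
  have hd : Algebra.trdeg k K' = ((1 : ℕ) : Cardinal) := by
    haveI : Algebra.IsAlgebraic K K' := Algebra.IsAlgebraic.of_finite K K'
    have h := trdeg_add_eq k K (A := K')
    rw [trdeg_eq_zero (R := K) (A := K'), add_zero, hK] at h
    rw [← h, Nat.cast_one]
  refine Groth.Agent.S0214.result K' ?_ D
  intro n d f hf hd0 hn
  obtain ⟨a, ha, hfa⟩ := Groth.Agent.S0212.result k K' 1 hd 1 n (fun _ => f) (fun _ => d) (fun _ => hf) (fun _ => hd0)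
    (by simpa using hn)
  exact ⟨a, ha, hfa 0⟩

end Groth.Agent.EtTraceLib
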