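import Groth.Agent.EtTraceLib.FieldDev
import Groth.Agent.EtTraceLib.BrauerNorm
import Groth.Agent.FLCLib.Strata
import Groth.Agent.CohColim.EtQC
import Groth.Agent.S0134
import Groth.Agent.S0103
import Groth.Agent.S0108
import Groth.Agent.S13507

/-!
# Cohomological dimension of fields
-/

set_option autoImplicit false
set_option backward.isDefEq.respectTransparency false
set_option backward.isDefEq.respectTransparency.types false
set_option linter.style.haveILetI false
set_option maxHeartbeats 1000000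

universe u

open CategoryTheory CategoryTheory.Limits AlgebraicGeometry Opposite CategoryTheory.Abelian

noncomputable section

namespace Groth.Agent.EtTraceLib

open EtPtsLib

/-- Restriction along the identity does nothing. -/
def restrIdIso {X : Scheme.{u}} [EtShriek.JCont (𝟙 X)] (F : EtCoh.Ab X) : (EtShriek.restrAlong (𝟙 X)).obj F ≅ F :=
  let e : EtShriek.compEtale (𝟙 X) ≅ 𝟭 X.Etale :=
    NatIso.ofComponents (fun V => MorphismProperty.Over.isoMk (Iso.refl _) (by
      show 𝟙 _ ≫ V.hom = V.hom ≫ 𝟙 X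
      exact (Category.id_comp _).trans (Category.comp_id _).symm))
      (fun f => MorphismProperty.Over.Hom.ext ((Category.comp_id f.left).trans (Category.id_comp f.left).symm))
  (sheafToPresheaf X.smallEtaleTopology AddCommGrpCat.{u + 1}).preimageIso
    (Functor.isoWhiskerRight (NatIso.op e).symm F.obj ≪≫ Functor.leftUnitor F.obj)

/-- A constructible sheaf on a one point reduced scheme is finite locally constant. -/
theorem flc_of_constructible_field {k : Type u} [Field k] {F : EtCoh.Ab (Spec (CommRingCat.of k))}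
    (hF : EtPBC.IsConstructible F) : EtCoh.IsFiniteLocallyConstant F := by
  obtain ⟨ι, _, T, g, hg, -, hcov, hT⟩ := FLCLib.IsConstructible.strat hF
  obtain ⟨i, t, ht⟩ := hcov (IsLocalRing.closedPoint k)
  haveI := hg i
  haveI : Surjective (g i) := ⟨fun x => ⟨t, Subsingleton.elim (α := PrimeSpectrum k) _ _⟩⟩
  haveI : IsClosedImmersion (g i) :=
    IsClosedImmersion.of_isPreimmersion (g i) (by rw [(g i).surjective.range_eq]; exact isClosed_univ)
  haveI : IsIso (g i) := isIso_of_isClosedImmersion_of_surjective _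
  have h1 := FLCLib.flc_pull_comp (inv (g i)) (g i) (hT i)
  have h2 := FLCLib.flc_pull_congr (IsIso.inv_hom_id (g i)) h1
  haveI : EtShriek.JCont (𝟙 (Spec (CommRingCat.of k))) := EtJCont.jCont _
  exact FLCLib.isFiniteLocallyConstant_of_iso ((pullIsoRestr (𝟙 _)).app F ≪≫ restrIdIso F) h2

variable {K : Type u} [Field K]

theorem exists_compose (K L : Type u) [Field K] [Field L] [Algebra K L] [FiniteDimensional K L]
    [Algebra.IsSeparable K L] (L' : Type u) [Field L'] [Algebra L L'] [FiniteDimensional L L'] [Algebra.IsSeparable L L'] :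
    ∃ (M : Type u) (_ : Field M) (_ : Algebra K M) (_ : FiniteDimensional K M) (_ : Algebra.IsSeparable K M)
      (_ : IsGalois K M) (_ : L →ₐ[K] M), Nonempty (L' →+* M) := by
  letI : Algebra K L' := ((algebraMap L L').comp (algebraMap K L)).toAlgebra
  haveI : IsScalarTower K L L' := IsScalarTower.of_algebraMap_eq fun _ => rfl
  haveI : FiniteDimensional K L' := FiniteDimensional.trans K L L'
  haveI : Algebra.IsSeparable K L' := Algebra.IsSeparable.trans K L L'
  obtain ⟨M, i₁, i₂, i₃, i₄, i₅, ⟨σ⟩⟩ := exists_galois K L'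
  exact ⟨M, i₁, i₂, i₃, i₄, i₅, σ.comp (IsScalarTower.toAlgHom K L L'), ⟨σ.toRingHom⟩⟩

/-- A morphism of spectra attached to an embedding of extensions. -/
def extMap {L M : Type u} [Field L] [Field M] [Algebra K L] [Algebra K M] [FiniteDimensional K L]
    [Algebra.IsSeparable K L] [FiniteDimensional K M] [Algebra.IsSeparable K M] (σ : L →ₐ[K] M) :
    extObj K M ⟶ extObj K L :=
  MorphismProperty.Over.homMk (Spec.map (CommRingCat.ofHom σ.toRingHom)) (by
    show Spec.map _ ≫ Spec.map _ = Spec.map _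
    rw [← Spec.map_comp]
    exact congrArg Spec.map (CommRingCat.hom_ext (RingHom.ext fun x => σ.commutes x)))

/-- Finite locally constant sheaves on a field are split by all large Galois extensions. -/
theorem exists_split {F : EtCoh.Ab (Spec (CommRingCat.of K))} (hF : EtCoh.IsFiniteLocallyConstant F) :
    ∃ (L : Type u) (_ : Field L) (_ : Algebra K L) (_ : FiniteDimensional K L) (_ : Algebra.IsSeparable K L),
      ∀ (M : Type u) [Field M] [Algebra K M] [FiniteDimensional K M] [Algebra.IsSeparable K M],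
        (L →ₐ[K] M) → SplitBy K M F ∧ Finite (EtCoh.sect F (extObj K M)) := by
  obtain ⟨U, N, θ, ⟨v, -⟩, hN, hθ⟩ := (FLCLib.finiteLocallyConstant_iff F).1 hF (IsLocalRing.closedPoint K)
  haveI : AlgebraicGeometry.Etale U.hom := U.prop
  obtain ⟨L, i₁, i₂, i₃, i₄, h, hh⟩ := exists_point_of_etale K U.hom v
  haveI := hN
  refine ⟨L, i₁, i₂, i₃, i₄, fun M _ _ _ _ σ => ?_⟩
  let g : extObj K L ⟶ U := MorphismProperty.Over.homMk h hh
  exact splitBy_of_isConstOn (hθ.map (extMap σ ≫ g))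

/-- Classes of torsion sheaves of `p`-power order come from constructible ones. -/
theorem exists_constructible_lift (p : ℕ) [hp : Fact p.Prime] (F : EtCoh.Ab (Spec (CommRingCat.of K)))
    (hF : EtCoh.IsTorsion F) (q : ℕ) (hq : 0 < q) (x : EtCoh.H (Spec (CommRingCat.of K)) F q)
    (hx : ∃ m : ℕ, p ^ m • x = 0) :
    ∃ (E : EtCoh.Ab (Spec (CommRingCat.of K))) (g : E ⟶ F) (y : EtCoh.H (Spec (CommRingCat.of K)) E q),
      EtCoh.IsFiniteLocallyConstant E ∧ (∃ m : ℕ, p ^ m • y = 0) ∧ y.comp (Ext.mk₀ g) (add_zero q) = x := by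
  obtain ⟨J, _, _, D, c, hc, hD, ⟨e⟩⟩ := S0134.result (Spec (CommRingCat.of K)) F hF
  haveI := CohColim.preserves_HF (X := Spec (CommRingCat.of K)) q J
  obtain ⟨j, z, hz⟩ := Concrete.isColimit_exists_rep _ (isColimitOfPreserves (EtCoh.HF (Spec (CommRingCat.of K)) q) hc)
    (x.comp (Ext.mk₀ e.inv) (add_zero q))
  let y₀ : EtCoh.H (Spec (CommRingCat.of K)) (D.obj j) q := z
  have hy₀ : y₀.comp (Ext.mk₀ (c.ι.app j ≫ e.hom)) (add_zero q) = x := by
    have hz' : y₀.comp (Ext.mk₀ (c.ι.app j)) (add_zero q) = x.comp (Ext.mk₀ e.inv) (add_zero q) := hz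
    rw [← Ext.mk₀_comp_mk₀, ← Ext.comp_assoc_of_second_deg_zero, hz', Ext.comp_assoc_of_second_deg_zero,
      Ext.mk₀_comp_mk₀, Iso.inv_hom_id, Ext.comp_mk₀_id]
  obtain ⟨r, rfl⟩ : ∃ r, q = r + 1 := ⟨q - 1, by omega⟩
  obtain ⟨N, hN, hN0⟩ := isOfFinAddOrder_iff_nsmul_eq_zero.1 (isOfFinAddOrder K _ r y₀)
  obtain ⟨a, b, hb, rfl⟩ := Nat.exists_eq_pow_mul_and_not_dvd hN.ne' p hp.out.ne_one
  obtain ⟨m, hm⟩ := hx
  obtain ⟨u, hu⟩ : ∃ u : ℕ, b * u ≡ 1 [MOD p ^ (m + 1)] := by
    obtain ⟨u, -, hu⟩ := Nat.exists_mul_mod_eq_one_of_coprime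
      (((Nat.Prime.coprime_iff_not_dvd hp.out).2 hb).symm.pow_right (m + 1))
      (Nat.one_lt_pow (Nat.succ_ne_zero m) hp.out.one_lt)
    exact ⟨u, hu.trans (Nat.mod_eq_of_lt (Nat.one_lt_pow (Nat.succ_ne_zero m) hp.out.one_lt)).symm⟩
  let cl := AddMonoidHom.mk' (fun w : EtCoh.H (Spec (CommRingCat.of K)) (D.obj j) (r + 1) =>
    w.comp (Ext.mk₀ (c.ι.app j ≫ e.hom)) (add_zero (r + 1))) fun _ _ => Ext.add_comp _ _ _ _
  refine ⟨D.obj j, c.ι.app j ≫ e.hom, (b * u) • y₀, flc_of_constructible_field (hD j), ⟨a, ?_⟩, ?_⟩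
  · rw [smul_smul, ← mul_assoc, mul_nsmul, hN0, nsmul_zero]
  · show cl ((b * u) • y₀) = x
    rw [map_nsmul, show cl y₀ = x from hy₀]
    have hdvd : addOrderOf x ∣ p ^ (m + 1) :=
      addOrderOf_dvd_iff_nsmul_eq_zero.2 (by rw [pow_succ, mul_nsmul, hm, nsmul_zero])
    rw [← mod_addOrderOf_nsmul, (hu.of_dvd hdvd : b * u ≡ 1 [MOD addOrderOf x]), mod_addOrderOf_nsmul, one_nsmul]

/-- The restriction of a class to a finite separable extension. -/
def clsRes (k E : Type u) [Field k] [Field E] [Algebra k E] [FiniteDimensional k E] [Algebra.IsSeparable k E]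
    {F : EtCoh.Ab (Spec (CommRingCat.of k))} {n : ℕ} (x : EtCoh.H (Spec (CommRingCat.of k)) F n) :
    EtCoh.H (Spec (CommRingCat.of E)) ((EtCoh.pull (specπ k E)).obj F) n :=
  conjExt (EtCore.pullConst (specπ k E) ℤ).symm (Iso.refl _) (Ext.mapExactFunctor (EtCoh.pull (specπ k E)) x)

theorem finrank_nsmul_of_clsRes (k E : Type u) [Field k] [Field E] [Algebra k E] [FiniteDimensional k E]
    [Algebra.IsSeparable k E] {F : EtCoh.Ab (Spec (CommRingCat.of k))} {n : ℕ}
    (x : EtCoh.H (Spec (CommRingCat.of k)) F n) (h : clsRes k E x = 0) : Module.finrank k E • x = 0 :=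
  finrank_nsmul_eq_zero k E _ n x ((conjExt_eq_zero_iff _ _ _).1 h)

theorem clsRes_nsmul (k E : Type u) [Field k] [Field E] [Algebra k E] [FiniteDimensional k E] [Algebra.IsSeparable k E]
    {F : EtCoh.Ab (Spec (CommRingCat.of k))} {n : ℕ} (N : ℕ) (x : EtCoh.H (Spec (CommRingCat.of k)) F n) :
    clsRes k E (N • x) = N • clsRes k E x := by
  induction N with
  | zero =>
    rw [zero_nsmul, zero_nsmul]
    exact (conjExt_eq_zero_iff _ _ _).2 (Ext.mapExactFunctor_zero _ _ _ _)
  | succ N ih =>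
    rw [succ_nsmul, succ_nsmul, ← ih]
    simp only [clsRes, conjExt, Ext.mapExactFunctor_add, Ext.comp_add, Ext.add_comp]

/-- Vanishing of the `p`-primary cohomology of torsion sheaves from that of `ℤ/p`. -/
theorem eq_zero_of_base (p : ℕ) [hp : Fact p.Prime] (q : ℕ) (hq : 0 < q)
    (hbase : ∀ (E : Type u) [Field E] [Algebra K E] [FiniteDimensional K E] [Algebra.IsSeparable K E],
      ((p : E) = 0 ∨ ∃ ζ : E, IsPrimitiveRoot ζ p) →
      ∀ x : EtCoh.H (Spec (CommRingCat.of E)) (EtCoh.const (Spec (CommRingCat.of E)) (ZMod p)) q, x = 0)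
    (F : EtCoh.Ab (Spec (CommRingCat.of K))) (hF : EtCoh.IsTorsion F)
    (x : EtCoh.H (Spec (CommRingCat.of K)) F q) (hx : ∃ m : ℕ, p ^ m • x = 0) : x = 0 := by
  classical
  obtain ⟨G, g, y, hG, ⟨m, hm⟩, rfl⟩ := exists_constructible_lift p F hF q hq x hx
  suffices hy : y = 0 by rw [hy, Ext.zero_comp]
  obtain ⟨L, _, _, _, _, hL⟩ := exists_split hG
  obtain ⟨M, _, _, _, _, _, σ, hroot⟩ : ∃ (M : Type u) (_ : Field M) (_ : Algebra K M) (_ : FiniteDimensional K M)
      (_ : Algebra.IsSeparable K M) (_ : IsGalois K M) (_ : L →ₐ[K] M),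
      ((p : M) = 0 ∨ ∃ ζ : M, IsPrimitiveRoot ζ p) := by
    by_cases hpK : (p : L) = 0
    · obtain ⟨M, i₁, i₂, i₃, i₄, i₅, ⟨σ⟩⟩ := exists_galois K L
      exact ⟨M, i₁, i₂, i₃, i₄, i₅, σ, Or.inl (by rw [← map_natCast σ.toRingHom p, hpK, map_zero])⟩
    · haveI : NeZero (p : L) := ⟨hpK⟩
      let L' := CyclotomicField p L
      haveI : IsGalois L L' := IsCyclotomicExtension.isGalois {p} L L'
      haveI : FiniteDimensional L L' := IsCyclotomicExtension.finiteDimensional {p} L L'
      obtain ⟨M, i₁, i₂, i₃, i₄, i₅, σ, ⟨τ⟩⟩ := exists_compose K L L'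
      exact ⟨M, i₁, i₂, i₃, i₄, i₅, σ,
        Or.inr ⟨τ (IsCyclotomicExtension.zeta p L L'),
          (IsCyclotomicExtension.zeta_spec p L L').map_of_injective τ.injective⟩⟩
  let P : Sylow p (M ≃ₐ[K] M) := default
  let E := IntermediateField.fixedField (P : Subgroup (M ≃ₐ[K] M))
  obtain ⟨N, hN⟩ := IsPGroup.iff_card.1 P.isPGroup'
  have hME : Module.finrank E M = p ^ N := (IntermediateField.finrank_fixedField_eq_card _).trans hN
  have hE : Module.finrank K E = (P : Subgroup (M ≃ₐ[K] M)).index := by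
    refine Nat.eq_of_mul_eq_mul_right (Module.finrank_pos : 0 < Module.finrank E M) ?_
    rw [Module.finrank_mul_finrank, hME, ← hN, Subgroup.index_mul_card, IsGalois.card_aut_eq_finrank]
  have hrootE : (p : E) = 0 ∨ ∃ ζ : E, IsPrimitiveRoot ζ p := by
    rcases hroot with h | ⟨ζ, hζ⟩
    · exact Or.inl (Subtype.ext (by simpa using h))
    · have hint : IsIntegral E ζ := Algebra.IsIntegral.isIntegral ζ
      have h1 : (minpoly E ζ).natDegree ∣ p ^ N := hME ▸ minpoly.degree_dvd hint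
      have h2 : (minpoly E ζ).natDegree ≤ p - 1 := by
        have hroot : Polynomial.aeval ζ (Polynomial.cyclotomic p E) = 0 := by
          rw [← Polynomial.eval_map_algebraMap, Polynomial.map_cyclotomic]
          exact (hζ.isRoot_cyclotomic hp.out.pos).eq_zero
        refine (Polynomial.natDegree_le_of_dvd (minpoly.dvd E ζ hroot) (Polynomial.cyclotomic_ne_zero p E)).trans ?_
        rw [Polynomial.natDegree_cyclotomic, Nat.totient_prime hp.out]
      obtain ⟨i, -, hi⟩ := (Nat.dvd_prime_pow hp.out).1 h1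
      have hi0 : i = 0 := by
        rcases Nat.eq_zero_or_pos i with h | h
        · exact h
        · have : p ≤ p ^ i := Nat.le_self_pow h.ne' p
          have := hp.out.pos
          omega
      rw [hi0, pow_zero] at hi
      obtain ⟨e, he⟩ := minpoly.mem_range_of_degree_eq_one E ζ
        (by rw [Polynomial.degree_eq_natDegree (minpoly.ne_zero hint), hi]; rfl)
      exact Or.inr ⟨e, IsPrimitiveRoot.of_map_of_injective (f := algebraMap E M) (he.symm ▸ hζ) (algebraMap E M).injective⟩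
  have hGE : EtCoh.IsFiniteLocallyConstant ((EtCoh.pull (specπ K E)).obj G) :=
    FLCLib.isFiniteLocallyConstant_pull _ hG
  obtain ⟨hsplit, hfin⟩ : SplitBy E M ((EtCoh.pull (specπ K E)).obj G) ∧
      Finite (EtCoh.sect ((EtCoh.pull (specπ K E)).obj G) (extObj E M)) := by
    obtain ⟨hs, hf⟩ := hL M σ
    obtain ⟨θ, hθ⟩ : ∃ θ : AddCommGrpCat.of (EtCoh.sect G (extObj K M)) ⟶ G.obj.obj (op (extObj K M)),
        FLCLib.IsConstOn G (extObj K M) θ := ⟨𝟙 _, fun Ω _ _ ξ l => hs Ω ξ l⟩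
    have hp' := hθ.pull (specπ K E)
    let d : extObj E M ⟶ (EtCoh.bc (specπ K E)).obj (extObj K M) :=
      MorphismProperty.Over.homMk (pullback.lift (𝟙 (Spec (CommRingCat.of M))) (specπ E M) (by
        refine (Category.id_comp _).trans ?_
        show specπ K M = specπ E M ≫ specπ K E
        rw [← Spec.map_comp]
        exact congrArg Spec.map (CommRingCat.hom_ext (IsScalarTower.algebraMap_eq K E M)))) (pullback.lift_snd _ _ _)
    haveI : Finite (AddCommGrpCat.of (EtCoh.sect G (extObj K M))) := hf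
    exact splitBy_of_isConstOn (hp'.map d)
  haveI : IsGalois E M := IsGalois.tower_top_intermediateField E
  have h0 := devissage (k := E) (M := M) p hME q (hbase E hrootE) _ _ hsplit hfin rfl (clsRes K E y)
    ⟨m, by rw [← clsRes_nsmul, hm]; exact (conjExt_eq_zero_iff _ _ _).2 (Ext.mapExactFunctor_zero _ _ _ _)⟩
  have hd : addOrderOf y ∣ 1 := by
    have hco : Nat.Coprime (p ^ m) (Module.finrank K E) := by
      rw [hE]
      exact ((Nat.Prime.coprime_iff_not_dvd hp.out).2 P.not_dvd_index).pow_left m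
    rw [← hco.gcd_eq_one]
    exact Nat.dvd_gcd (addOrderOf_dvd_iff_nsmul_eq_zero.2 hm)
      (addOrderOf_dvd_iff_nsmul_eq_zero.2 (finrank_nsmul_of_clsRes K E y h0))
  exact AddMonoid.addOrderOf_eq_one_iff.1 (Nat.dvd_one.1 hd)

/-- The base case in characteristic `p`. -/
theorem H_zmod_eq_zero_char (E : Type u) [Field E] (p : ℕ) [Fact p.Prime] (hp : (p : E) = 0) (q : ℕ) (hq : 2 ≤ q)
    (x : EtCoh.H (Spec (CommRingCat.of E)) (EtCoh.const (Spec (CommRingCat.of E)) (ZMod p)) q) : x = 0 := by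
  haveI : CharP E p := (CharP.charP_iff_prime_eq_zero Fact.out).2 hp
  haveI : CharP Γ(Spec (CommRingCat.of E), ⊤) p :=
    charP_of_injective_ringHom (Scheme.ΓSpecIso (CommRingCat.of E)).symm.commRingCatIsoToRingEquiv.injective p
  exact @Subsingleton.elim _ (S0103.result (Spec (CommRingCat.of E)) p q hq) x 0

/-- The base case with a primitive root of unity and surjective norms. -/
theorem H_zmod_eq_zero_root (E : Type u) [Field E] (hE : NormSurj E) (p : ℕ) [hp : Fact p.Prime] {ζ : E}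
    (hζ : IsPrimitiveRoot ζ p) (hpE : (p : E) ≠ 0) (q : ℕ) (hq : 2 ≤ q)
    (x : EtCoh.H (Spec (CommRingCat.of E)) (EtCoh.const (Spec (CommRingCat.of E)) (ZMod p)) q) : x = 0 := by
  let X := Spec (CommRingCat.of E)
  let ι : E →+* Γ(X, ⊤) := (Scheme.ΓSpecIso (CommRingCat.of E)).inv.hom
  have hu : IsUnit (p : Γ(X, ⊤)) := by
    rw [← map_natCast ι p]
    exact (IsUnit.mk0 _ hpE).map ι
  have hroot : Polynomial.aeval (ι ζ) (Polynomial.cyclotomic p ℤ) = 0 := by
    have h1 : Polynomial.aeval ζ (Polynomial.cyclotomic p ℤ) = 0 := by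
      rw [Polynomial.aeval_def, ← Polynomial.eval_map, Polynomial.map_cyclotomic]
      exact (hζ.isRoot_cyclotomic hp.out.pos).eq_zero
    have := congrArg ι h1
    rw [map_zero, Polynomial.aeval_def, Polynomial.hom_eval₂] at this
    rw [Polynomial.aeval_def, RingHom.ext_int (algebraMap ℤ Γ(X, ⊤)) (ι.comp (algebraMap ℤ E))]
    exact this
  obtain ⟨e⟩ := S13507.nonempty_mu_iso_const X p hp.out.one_le hu (ι ζ) hroot
  have hepi := S0108.result X p hu
  let S : ShortComplex (EtCoh.Ab X) := ShortComplex.mk (EtCoh.muι X p) (EtCoh.powMap X p) (kernel.condition _)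
  haveI : Mono S.f := inferInstanceAs (Mono (kernel.ι (EtCoh.powMap X p)))
  haveI : Epi S.g := hepi
  have hS : S.ShortExact := { exact := ShortComplex.exact_of_f_is_kernel S (kernelIsKernel _) }
  obtain ⟨r, rfl⟩ : ∃ r, q = r + 2 := ⟨q - 2, by omega⟩
  let y : EtCoh.H X (EtCoh.mu X p) (r + 2) := x.comp (Ext.mk₀ e.inv) (add_zero _)
  have hy : y = 0 := by
    obtain ⟨z, hz⟩ := Ext.covariant_sequence_exact₁ _ hS y (H_Gm_eq_zero_of_normSurj (r + 2) E hE (by omega) _)
      (n₀ := r + 1) rfl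
    have hz0 : z = 0 := H_Gm_eq_zero_of_normSurj (r + 1) E hE (by omega) z
    rw [← hz, hz0, Ext.zero_comp]
  have h2 : x = y.comp (Ext.mk₀ e.hom) (add_zero _) := by
    rw [Ext.comp_assoc_of_second_deg_zero, Ext.mk₀_comp_mk₀, Iso.inv_hom_id, Ext.comp_mk₀_id]
  rw [h2, hy, Ext.zero_comp]

/-- Torsion cohomological dimension at most one when norms are surjective. -/
theorem eq_zero_of_normSurj (hK : NormSurj K) (F : EtCoh.Ab (Spec (CommRingCat.of K))) (hF : EtCoh.IsTorsion F)
    (q : ℕ) (hq : 2 ≤ q) (x : EtCoh.H (Spec (CommRingCat.of K)) F q) : x = 0 := by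
  by_contra hne
  obtain ⟨r, rfl⟩ : ∃ r, q = r + 1 := ⟨q - 1, by omega⟩
  have hx := isOfFinAddOrder K _ r x
  have h1 : addOrderOf x ≠ 1 := fun h => hne (AddMonoid.addOrderOf_eq_one_iff.1 h)
  obtain ⟨p, hp, hpx⟩ := Nat.exists_prime_and_dvd h1
  haveI := Fact.mk hp
  let y := (addOrderOf x / p) • x
  have hy : p ^ 1 • y = 0 := by
    rw [pow_one, smul_smul, Nat.mul_div_cancel' hpx, addOrderOf_nsmul_eq_zero]
  have hy0 : y = 0 := eq_zero_of_base p (r + 1) r.succ_pos (fun E _ _ _ _ hE x => by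
    by_cases hpE : (p : E) = 0
    · exact H_zmod_eq_zero_char E p hpE (r + 1) hq x
    · obtain ⟨ζ, hζ⟩ := hE.resolve_left hpE
      exact H_zmod_eq_zero_root E (hK.of_finite E) p hζ hpE (r + 1) hq x) F hF y ⟨1, hy⟩
  have h2 := Nat.le_of_dvd (Nat.div_pos (Nat.le_of_dvd hx.addOrderOf_pos hpx) hp.pos)
    (addOrderOf_dvd_iff_nsmul_eq_zero.2 hy0)
  exact absurd h2 (not_le.2 (Nat.div_lt_self hx.addOrderOf_pos hp.one_lt))

/-- For a field with only `p`-power extensions the cohomological dimension is detected by `ℤ/p`. -/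
theorem eq_zero_of_pro_p (p : ℕ) [hp : Fact p.Prime]
    (hpro : ∀ (E : Type u) [Field E] [Algebra K E], FiniteDimensional K E → Algebra.IsSeparable K E →
      ∃ m : ℕ, Module.finrank K E = p ^ m) (n : ℕ)
    (hbase : ∀ x : EtCoh.H (Spec (CommRingCat.of K)) (EtCoh.const (Spec (CommRingCat.of K)) (ZMod p)) (n + 1), x = 0) :
    ∀ (q : ℕ), n < q → ∀ (F : EtCoh.Ab (Spec (CommRingCat.of K))), EtCoh.IsTorsion F →
      ∀ x : EtCoh.H (Spec (CommRingCat.of K)) F q, (∃ m : ℕ, p ^ m • x = 0) → x = 0 := by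
  intro q
  induction q with
  | zero => omega
  | succ q ih =>
    intro hq F hF x hx
    obtain ⟨G, g, y, hG, ⟨m, hm⟩, rfl⟩ := exists_constructible_lift p F hF (q + 1) q.succ_pos x hx
    suffices hy : y = 0 by rw [hy, Ext.zero_comp]
    obtain ⟨L, _, _, _, _, hL⟩ := exists_split hG
    by_cases hqn : q = n
    · subst hqn
      obtain ⟨M, _, _, _, _, _, ⟨σ⟩⟩ := exists_galois K L
      obtain ⟨N, hN⟩ := hpro M inferInstance inferInstance
      obtain ⟨hs, hf⟩ := hL M σ
      exact devissage (k := K) (M := M) p hN (q + 1) hbase _ G hs hf rfl y ⟨m, hm⟩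
    obtain ⟨L', _, _, _, _, hL'⟩ := exists_kill K q G y
    obtain ⟨M, _, _, _, _, _, ⟨σ⟩⟩ := exists_galois K L
    obtain ⟨hs, hf⟩ := hL M σ
    have hcard : Nat.card (EtCoh.sect G (extObj K M)) • 𝟙 G = 0 :=
      hs.nsmul_id_eq_zero fun a => card_nsmul_eq_zero'
    let S : ShortComplex (EtCoh.Ab (Spec (CommRingCat.of K))) :=
      ShortComplex.mk (indUnit L' G) (cokernel.π (indUnit L' G)) (cokernel.condition _)
    obtain ⟨M', _, _, _, _, _, ⟨σ'⟩⟩ := exists_galois K L'
    haveI : Mono (indUnit L' G) := by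
      refine mono_of_injective _ fun V => (injective_iff_map_eq_zero _).2 fun s hsv => ?_
      have hb : Function.Surjective (bε (L := L') V).left := by
        haveI : Surjective (specπ K L') :=
          ⟨fun x => ⟨IsLocalRing.closedPoint L', Subsingleton.elim (α := PrimeSpectrum K) _ _⟩⟩
        exact Surjective.surj (f := pullback.fst V.hom (specπ K L'))
      exact eq_zero_of_surjective_map G (bε V) hb s hsv
    have hS : S.ShortExact := { exact := S.exact_of_g_is_cokernel (cokernelIsCokernel _) }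
    obtain ⟨z, hz⟩ := Ext.covariant_sequence_exact₁ _ hS y (comp_indUnit_eq_zero K L' (q + 1) y hL') (n₀ := q) rfl
    have hN0 : Nat.card (EtCoh.sect G (extObj K M)) • 𝟙 (cokernel (indUnit L' G)) = 0 := by
      refine (cancel_epi (cokernel.π (indUnit L' G))).1 ?_
      rw [comp_zero, Preadditive.comp_nsmul, Category.comp_id, ← Category.id_comp (cokernel.π (indUnit L' G)),
        ← Preadditive.nsmul_comp]
      have h1 : Nat.card (EtCoh.sect G (extObj K M)) • 𝟙 (indSh L' G) = 0 := by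
        refine ObjectProperty.hom_ext _ (NatTrans.ext (funext fun V => ConcreteCategory.hom_ext _ _ fun s => ?_))
        have h2 := ConcreteCategory.congr_hom (congrArg (fun m : G ⟶ G => m.hom.app (op (bObj L' V.unop))) hcard) s
        exact h2
      exact (congrArg (· ≫ cokernel.π (indUnit L' G)) h1).trans zero_comp
    haveI := hf
    have hpos : 0 < Nat.card (EtCoh.sect G (extObj K M)) := Nat.card_pos
    obtain ⟨r, rfl⟩ : ∃ r, q = r + 1 := ⟨q - 1, by omega⟩
    obtain ⟨Nz, hNz, hNz0⟩ := isOfFinAddOrder_iff_nsmul_eq_zero.1 (isOfFinAddOrder K _ r z)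
    obtain ⟨a, b, hb, rfl⟩ := Nat.exists_eq_pow_mul_and_not_dvd hNz.ne' p hp.out.ne_one
    have hbz : b • z = 0 := ih (by omega) _ (isTorsion_of_nsmul_id_eq_zero hpos hN0) (b • z)
      ⟨a, by rw [smul_smul, hNz0]⟩
    have hby : b • y = 0 := by
      let cl := AddMonoidHom.mk' (fun w : EtCoh.H (Spec (CommRingCat.of K)) S.X₃ (r + 1) =>
        w.comp hS.extClass rfl) fun _ _ => Ext.add_comp _ _ _ _
      rw [← hz]
      show b • cl z = 0
      rw [← map_nsmul, hbz, map_zero]
    have hd : addOrderOf y ∣ 1 := by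
      have h1 := Nat.dvd_gcd (addOrderOf_dvd_iff_nsmul_eq_zero.2 hm) (addOrderOf_dvd_iff_nsmul_eq_zero.2 hby)
      exact h1.trans (dvd_of_eq (((Nat.Prime.coprime_iff_not_dvd hp.out).2 hb).pow_left m).gcd_eq_one)
    exact AddMonoid.addOrderOf_eq_one_iff.1 (Nat.dvd_one.1 hd)

end Groth.Agent.EtTraceLib
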