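import Groth.Agent.EtTraceLib.DivSheaf
import Groth.Agent.CurveLib.GlobalFun
import Groth.Agent.DimLiftLib.Basic

/-!
# The divisor sequence on a curve
-/

set_option autoImplicit false
set_option backward.isDefEq.respectTransparency false
set_option linter.style.haveILetI false

universe u

open CategoryTheory CategoryTheory.Limits AlgebraicGeometry Opposite

noncomputable section

namespace Groth.Agent.EtTraceLib

variable {X : Scheme.{u}} [IsIntegral X]

theorem closed_iff_htOne (hdim : topologicalKrullDim ↥X = 1) (x : X) :
    IsClosed ({x} : Set X) ↔ ringKrullDim (X.presheaf.stalk x) = 1 := by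
  have hle : ∀ y : X, Order.coheight y ≤ 1 := fun y => by
    have h := Order.coheight_le_krullDim y
    have e : Order.krullDim ↥X = 1 := (DimLiftLib.topologicalKrullDim_eq ↥X).symm.trans hdim
    rw [e] at h
    exact WithBot.coe_le_coe.1 h
  rw [← coheight_eq_one_iff]
  refine ⟨fun h => le_antisymm (hle x) ?_, fun h => ?_⟩
  · refine Order.one_le_iff_pos.2 (pos_iff_ne_zero.2 (Order.coheight_ne_zero.2 fun hmax => ?_))
    have hx : x = genericPoint X := by
      have h' : x ⤳ genericPoint X := hmax (genericPoint_specializes x : x ≤ genericPoint X)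
      exact (h'.antisymm (genericPoint_specializes x)).eq
    subst hx
    have hsub : Subsingleton ↥X := ⟨fun a b => by
      have hu : ∀ y : X, y = genericPoint X := fun y => by
        have hy := (genericPoint_specializes y).mem_closed h rfl
        exact hy
      rw [hu a, hu b]⟩
    have h0 : Order.krullDim ↥X ≤ 0 := Order.krullDim_nonpos_of_subsingleton
    rw [(DimLiftLib.topologicalKrullDim_eq ↥X).symm.trans hdim] at h0
    exact absurd h0 (not_le.2 zero_lt_one)
  · refine isClosed_of_closure_subset fun y hy => ?_
    have hs : x ⤳ y := specializes_iff_mem_closure.2 hy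
    by_contra hne
    have hlt : y < x := lt_of_le_not_ge (show y ≤ x from hs) fun h3 => hne (hs.antisymm h3).eq.symm
    have h2 := Order.coheight_strictAnti hlt (lt_of_le_of_lt (hle x) (WithTop.one_lt_top))
    rw [h] at h2
    exact absurd (hle y) (not_le.2 h2)

omit [IsIntegral X] in
theorem eqToHom_inj {ι : Type u} {S : ι → EtCoh.Ab X} (t : Cofan S) {i j : ι} (h : i = j) :
    eqToHom (congrArg S h) ≫ t.inj j = t.inj i := by
  subst h
  simp

/-- Closed points and codimension one points of a curve. -/
def closedEquiv (hdim : topologicalKrullDim ↥X = 1) : {x : ↥X // IsClosed ({x} : Set ↥X)} ≃ HtOne X :=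
  Equiv.subtypeEquivRight fun x => closed_iff_htOne hdim x

theorem regular_of_smooth_over (k : Type u) [Field k] (f : X ⟶ Spec (CommRingCat.of k)) [Smooth f] :
    RegularScheme X := fun x => by
  letI : X.Over (Spec (CommRingCat.of k)) := ⟨f⟩
  haveI : Smooth (X ↘ Spec (CommRingCat.of k)) := ‹Smooth f›
  exact CurveLib.isRegularLocalRing_stalk_of_smooth (k := k) x

theorem locallyNoetherian_over (k : Type u) [Field k] (f : X ⟶ Spec (CommRingCat.of k)) [LocallyOfFiniteType f] :
    IsLocallyNoetherian X := LocallyOfFiniteType.isLocallyNoetherian f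

omit [IsIntegral X] in
/-- Reindexing a cofan of skyscrapers. -/
def reindexCofan {ι ι' : Type u} (e : ι ≃ ι') (p : ι' → X) (c : Cofan fun i : ι => Sk X (p (e i))) :
    Cofan fun i : ι' => Sk X (p i) :=
  Cofan.mk c.pt fun i => eqToHom (congrArg (fun j => Sk X (p j)) (e.apply_symm_apply i).symm) ≫ c.inj (e.symm i)

omit [IsIntegral X] in
/-- Reindexing preserves colimits. -/
def reindexIsColimit {ι ι' : Type u} (e : ι ≃ ι') (p : ι' → X) {c : Cofan fun i : ι => Sk X (p (e i))}
    (hc : IsColimit c) : IsColimit (reindexCofan e p c) :=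
  mkCofanColimit _ (fun t => Cofan.IsColimit.desc hc fun i => t.inj (e i))
    (fun t i => by
      simp only [reindexCofan, cofan_mk_inj, Category.assoc, Cofan.IsColimit.fac]
      exact eqToHom_inj t (e.apply_symm_apply i).symm)
    (fun t m hm => Cofan.IsColimit.hom_ext hc _ _ fun i => by
      rw [Cofan.IsColimit.fac]
      have h := hm (e i)
      simp only [reindexCofan, cofan_mk_inj, Category.assoc] at h
      rw [← h, ← Category.assoc]
      refine congrArg (· ≫ m) ?_
      exact (eqToHom_inj c (e.symm_apply_apply i).symm).symm)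

end Groth.Agent.EtTraceLib
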