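import Groth.Agent.EtTraceLib.GalEasy
import Groth.Prelude.Def_EtLim
import Groth.Prelude.Def_Dix

/-!
# Hilbert 90 on étale schemes over a field and direct images from points
-/

set_option autoImplicit false
set_option backward.isDefEq.respectTransparency false
set_option backward.isDefEq.respectTransparency.types false
set_option linter.style.haveILetI false
set_option maxHeartbeats 1000000

universe v v' w w' u u'

open CategoryTheory CategoryTheory.Limits AlgebraicGeometry Opposite CategoryTheory.Abelian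

noncomputable section

namespace Groth.Agent.EtTraceLib

open EtPtsLib

section Transpose

variable {A : Type u} [Category.{v} A] [Abelian A] [EnoughInjectives A] [HasExt.{w} A]
  {B : Type u'} [Category.{v'} B] [Abelian B] [HasExt.{w'} B]
  {L : B ⥤ A} {R : A ⥤ B} (adj : L ⊣ R) [L.Additive] [R.Additive]
  [PreservesFiniteLimits L] [PreservesFiniteColimits L] (c : B)

/-- Transposition is injective in degree one. -/
theorem transpose_one_eq_zero (F : A) (x : Ext c (R.obj F) 1) (hx : ExtAdj.transpose adj c F 1 x = 0) : x = 0 := by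
  haveI : PreservesFiniteLimits R := adj.rightAdjoint_preservesLimits.{0, 0}.preservesFiniteLimits
  let S : ShortComplex A := ShortComplex.mk (Injective.ι F) (cokernel.π (Injective.ι F)) (cokernel.condition _)
  have hS : S.ShortExact := { exact := S.exact_of_g_is_cokernel (cokernelIsCokernel _) }
  haveI : Mono (S.map R).f := inferInstanceAs (Mono (R.map (Injective.ι F)))
  let T : ShortComplex B := ShortComplex.mk (S.map R).f (cokernel.π (S.map R).f) (cokernel.condition _)
  have hT : T.ShortExact := { exact := T.exact_of_g_is_cokernel (cokernelIsCokernel _) }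
  haveI : Injective (R.obj (Injective.under F)) := Injective.injective_of_adjoint adj _
  haveI : Injective T.X₂ := ‹Injective (R.obj (Injective.under F))›
  haveI := hS.mono_f
  have hex : (S.map R).Exact := hS.exact.map_of_mono_of_preservesKernel R inferInstance inferInstance
  let k : T.X₃ ⟶ R.obj S.X₃ := cokernel.desc (S.map R).f (R.map S.g) (S.map R).zero
  haveI : Mono k := hex.mono_cokernelDesc
  have hk : T.g ≫ k = R.map S.g := cokernel.π_desc _ _ _
  obtain ⟨b, rfl⟩ : ∃ b : Ext c T.X₃ 0, b.comp hT.extClass rfl = x :=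
    Ext.covariant_sequence_exact₁ c hT x (Ext.eq_zero_of_injective (I := T.X₂) _) rfl
  obtain ⟨b, rfl⟩ := (Ext.mk₀_bijective _ _).2 b
  have hLT := hT.map_of_exact L
  let φ : T.map L ⟶ S :=
    { τ₁ := adj.counit.app _, τ₂ := adj.counit.app _, τ₃ := L.map k ≫ adj.counit.app _
      comm₁₂ := (adj.counit.naturality S.f).symm
      comm₂₃ := by
        show adj.counit.app S.X₂ ≫ S.g = L.map T.g ≫ L.map k ≫ adj.counit.app S.X₃
        rw [← Category.assoc (L.map T.g), ← L.map_comp, hk]
        exact (adj.counit.naturality S.g).symm }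
  have hδ : ExtAdj.transpose adj c F 1 ((Ext.mk₀ b).comp hT.extClass rfl) =
      (Ext.mk₀ (L.map b ≫ L.map k ≫ adj.counit.app S.X₃)).comp hS.extClass rfl := by
    rw [ExtAdj.transpose, Ext.mapExactFunctor_comp, Ext.mapExactFunctor_extClass, Ext.mapExactFunctor_mk₀,
      ← Ext.mk₀_comp_mk₀, Ext.comp_assoc_of_third_deg_zero, Ext.comp_assoc_of_second_deg_zero]
    exact congrArg (fun m => (Ext.mk₀ (L.map b)).comp m rfl) (hLT.extClass_naturality hS φ)
  rw [hδ] at hx
  obtain ⟨z, hz⟩ := Ext.covariant_sequence_exact₃ (L.obj c) hS _ rfl hx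
  obtain ⟨z, rfl⟩ := (Ext.mk₀_bijective _ _).2 z
  rw [Ext.mk₀_comp_mk₀] at hz
  have hz' : z ≫ S.g = L.map b ≫ L.map k ≫ adj.counit.app S.X₃ := (Ext.mk₀_bijective _ _).1 hz
  have hb : (adj.homEquiv _ _ z) ≫ T.g = b := by
    rw [← cancel_mono k, Category.assoc, hk]
    apply (adj.homEquiv _ _).symm.injective
    rw [Adjunction.homEquiv_naturality_right_symm, Equiv.symm_apply_apply, hz', Adjunction.homEquiv_counit,
      L.map_comp, Category.assoc]
  rw [← hb, ← Ext.mk₀_comp_mk₀, Ext.comp_assoc_of_second_deg_zero, hT.comp_extClass, Ext.comp_zero]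

/-- Transposition is injective in degree two when the first derived functor kills the coefficients. -/
theorem transpose_two_eq_zero (F : A)
    (hF : ∀ (S : ShortComplex A), S.ShortExact → Nonempty (S.X₁ ≅ F) → Epi (R.map S.g))
    (x : Ext c (R.obj F) 2) (hx : ExtAdj.transpose adj c F 2 x = 0) : x = 0 := by
  haveI : PreservesFiniteLimits R := adj.rightAdjoint_preservesLimits.{0, 0}.preservesFiniteLimits
  let S : ShortComplex A := ShortComplex.mk (Injective.ι F) (cokernel.π (Injective.ι F)) (cokernel.condition _)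
  have hS : S.ShortExact := { exact := S.exact_of_g_is_cokernel (cokernelIsCokernel _) }
  haveI : Mono (S.map R).f := inferInstanceAs (Mono (R.map (Injective.ι F)))
  haveI : Epi (S.map R).g := hF S hS ⟨Iso.refl _⟩
  haveI := hS.mono_f
  have hRS : (S.map R).ShortExact :=
    { exact := hS.exact.map_of_mono_of_preservesKernel R inferInstance inferInstance }
  haveI : Injective (R.obj (Injective.under F)) := Injective.injective_of_adjoint adj _
  haveI : Injective (S.map R).X₂ := ‹Injective (R.obj (Injective.under F))›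
  obtain ⟨e, rfl⟩ : ∃ e : Ext c (R.obj S.X₃) 1, e.comp hRS.extClass rfl = x :=
    Ext.covariant_sequence_exact₁ c hRS x (Ext.eq_zero_of_injective (I := (S.map R).X₂) _) rfl
  have hLS := hRS.map_of_exact L
  let φ : (S.map R).map L ⟶ S :=
    { τ₁ := adj.counit.app _, τ₂ := adj.counit.app _, τ₃ := adj.counit.app _
      comm₁₂ := (adj.counit.naturality S.f).symm
      comm₂₃ := (adj.counit.naturality S.g).symm }
  have hδ : ExtAdj.transpose adj c F 2 (e.comp hRS.extClass rfl) =
      (ExtAdj.transpose adj c S.X₃ 1 e).comp hS.extClass rfl := by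
    rw [ExtAdj.transpose, ExtAdj.transpose, Ext.mapExactFunctor_comp, Ext.mapExactFunctor_extClass,
      Ext.comp_assoc_of_second_deg_zero, Ext.comp_assoc_of_third_deg_zero]
    exact congrArg (fun m => (e.mapExactFunctor L).comp m rfl) (hLS.extClass_naturality hS φ)
  rw [hδ] at hx
  obtain ⟨w, hw⟩ := Ext.covariant_sequence_exact₃ (L.obj c) hS _ rfl hx
  haveI : Injective S.X₂ := inferInstanceAs (Injective (Injective.under F))
  rw [Ext.eq_zero_of_injective w, Ext.zero_comp] at hw
  rw [transpose_one_eq_zero adj c S.X₃ e hw.symm, Ext.zero_comp]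

end Transpose

variable (k : Type u) [Field k]

/-- Global lifting through an extension by `G_m`. -/
theorem exists_lift_global {S : ShortComplex (EtCoh.Ab (Spec (CommRingCat.of k)))} (hS : S.ShortExact)
    (e : S.X₁ ≅ EtCoh.Gm (Spec (CommRingCat.of k))) (q : EtCoh.sect S.X₃ (EtCoh.top (Spec (CommRingCat.of k)))) :
    ∃ s : EtCoh.sect S.X₂ (EtCoh.top (Spec (CommRingCat.of k))), S.g.hom.app _ s = q := by
  let X := Spec (CommRingCat.of k)
  let A := constantSheafAdj X.smallEtaleTopology AddCommGrpCat.{u + 1} (EtCore.topIsTerminal X)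
  let b : EtCoh.const X ℤ ⟶ S.X₃ :=
    (A.homEquiv _ _).symm (AddCommGrpCat.ofHom (X := ULift.{u + 1} ℤ)
      ((zmultiplesHom _ q).comp AddEquiv.ulift.toAddMonoidHom))
  have h1 : ((Ext.mk₀ b).comp hS.extClass (zero_add 1)).comp (Ext.mk₀ e.hom) (add_zero 1) = 0 := H1_Gm_eq_zero k _
  have h0 : (Ext.mk₀ b).comp hS.extClass (zero_add 1) = 0 := by
    have := congrArg (fun z => z.comp (Ext.mk₀ e.inv) (add_zero 1)) h1
    simpa only [Ext.zero_comp, Ext.comp_assoc_of_second_deg_zero, Ext.comp_assoc_of_third_deg_zero,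
      Ext.mk₀_comp_mk₀, Iso.hom_inv_id, Ext.comp_mk₀_id] using this
  obtain ⟨z, hz⟩ := Ext.covariant_sequence_exact₃ _ hS _ rfl h0
  obtain ⟨z, rfl⟩ := (Ext.mk₀_bijective _ _).2 z
  rw [Ext.mk₀_comp_mk₀] at hz
  have hz' : z ≫ S.g = b := (Ext.mk₀_bijective _ _).1 hz
  have hA := congrArg (fun m => (A.homEquiv _ _ m) (ULift.up.{u + 1} (1 : ℤ))) hz'
  simp only [b, Adjunction.homEquiv_naturality_right, Equiv.apply_symm_apply] at hA
  exact ⟨(A.homEquiv _ _ z) (ULift.up.{u + 1} (1 : ℤ)), hA.trans (one_zsmul q)⟩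

/-- An étale scheme over a field with one point is the spectrum of a finite separable extension. -/
theorem exists_iso_extObj (P : (Spec (CommRingCat.of k)).Etale) [Subsingleton P.left] [Nonempty P.left] :
    ∃ (L : Type u) (_ : Field L) (_ : Algebra k L) (_ : FiniteDimensional k L) (_ : Algebra.IsSeparable k L),
      Nonempty (extObj k L ≅ P) := by
  haveI : DiscreteTopology P.left := inferInstance
  haveI : IsAffine P.left := inferInstance
  haveI : AlgebraicGeometry.Etale P.hom := P.prop
  obtain ⟨φ, hφ⟩ : ∃ φ : CommRingCat.of k ⟶ Γ(P.left, ⊤), Spec.map φ = P.left.isoSpec.inv ≫ P.hom :=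
    ⟨_, Spec.map_preimage _⟩
  have het : AlgebraicGeometry.Etale (Spec.map φ) := by rw [hφ]; infer_instance
  rw [HasRingHomProperty.Spec_iff (P := @AlgebraicGeometry.Etale)] at het
  algebraize [φ.hom]
  haveI : Algebra.Etale k Γ(P.left, ⊤) := het
  obtain ⟨I, hI, Ai, _, _, e, hAi⟩ := (Algebra.Etale.iff_exists_algEquiv_prod k Γ(P.left, ⊤)).1 inferInstance
  haveI : Nontrivial Γ(P.left, ⊤) := by
    let p : PrimeSpectrum Γ(P.left, ⊤) := P.left.isoSpec.hom (Classical.arbitrary P.left)
    exact ⟨⟨0, 1, fun h => p.isPrime.ne_top ((Ideal.eq_top_iff_one _).2 (h ▸ Submodule.zero_mem _))⟩⟩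
  obtain ⟨i⟩ : Nonempty I := by
    by_contra hn
    haveI : IsEmpty I := not_nonempty_iff.1 hn
    haveI := e.toEquiv.subsingleton
    exact not_subsingleton Γ(P.left, ⊤) inferInstance
  let ev : ∀ j, Γ(P.left, ⊤) →ₐ[k] Ai j := fun j => (Pi.evalAlgHom k Ai j).comp e.toAlgHom
  have hsub : ∀ j, j = i := by
    intro j
    by_contra hji
    classical
    haveI : Subsingleton (PrimeSpectrum Γ(P.left, ⊤)) := P.left.isoSpec.inv.homeomorph.injective.subsingleton
    have := congrArg PrimeSpectrum.asIdeal (Subsingleton.elim (α := PrimeSpectrum Γ(P.left, ⊤))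
      ⟨RingHom.ker (ev i).toRingHom, RingHom.ker_isPrime _⟩ ⟨RingHom.ker (ev j).toRingHom, RingHom.ker_isPrime _⟩)
    have hm : e.symm (Pi.single i 1) ∈ RingHom.ker (ev j).toRingHom := by
      show e (e.symm (Pi.single i 1)) j = 0
      rw [AlgEquiv.apply_symm_apply, Pi.single_eq_of_ne hji]
    rw [← show RingHom.ker (ev i).toRingHom = RingHom.ker (ev j).toRingHom from this] at hm
    have hm' : e (e.symm (Pi.single i 1)) i = 0 := hm
    rw [AlgEquiv.apply_symm_apply, Pi.single_eq_same] at hm'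
    exact one_ne_zero hm'
  have hev : Function.Bijective (ev i) := by
    show Function.Bijective ((fun a : ((j : I) → Ai j) => a i) ∘ ⇑e)
    refine Function.Bijective.comp ⟨fun a b hab => funext fun j => ?_, fun a => ?_⟩ e.bijective
    · obtain rfl := hsub j
      exact hab
    · classical
      exact ⟨Pi.single i a, Pi.single_eq_same i a⟩
  haveI := (hAi i).1
  haveI := (hAi i).2
  let ψ : Γ(P.left, ⊤) ≅ CommRingCat.of (Ai i) :=
    (AlgEquiv.ofBijective (ev i) hev).toRingEquiv.toCommRingCatIso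
  refine ⟨Ai i, inferInstance, inferInstance, inferInstance, inferInstance, ⟨MorphismProperty.Over.isoMk
    ((Scheme.Spec.mapIso ψ.op) ≪≫ P.left.isoSpec.symm) ?_⟩⟩
  show (Spec.map ψ.hom ≫ P.left.isoSpec.inv) ≫ P.hom = Spec.map _
  rw [Category.assoc, ← hφ, ← Spec.map_comp]
  exact congrArg Spec.map (CommRingCat.hom_ext (RingHom.ext fun a => (ev i).commutes a))

/-- `G_m` restricts to `G_m`. -/
def restrGm {U X : Scheme.{u}} (j : U ⟶ X) [AlgebraicGeometry.Etale j] [EtShriek.JCont j] :
    (EtShriek.restrAlong j).obj (EtCoh.Gm X) ≅ EtCoh.Gm U :=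
  (fullyFaithfulSheafToPresheaf _ _).preimageIso (NatIso.ofComponents (fun _ => Iso.refl _)
    fun _ => (Category.comp_id _).trans (Category.id_comp _).symm)

/-- Sections over a finite separable extension lift through an extension by `G_m`. -/
theorem exists_lift_extObj {S : ShortComplex (EtCoh.Ab (Spec (CommRingCat.of k)))} (hS : S.ShortExact)
    (e : S.X₁ ≅ EtCoh.Gm (Spec (CommRingCat.of k))) (L : Type u) [Field L] [Algebra k L] [FiniteDimensional k L]
    [Algebra.IsSeparable k L] (q : EtCoh.sect S.X₃ (extObj k L)) :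
    ∃ s : EtCoh.sect S.X₂ (extObj k L), S.g.hom.app _ s = q := by
  let j := Spec.map (CommRingCat.ofHom (algebraMap k L))
  haveI : AlgebraicGeometry.Etale j := etale_specMap k L
  haveI := EtJCont.jCont j
  let T := (EtShriek.compEtale j).obj (EtCoh.top (Spec (CommRingCat.of L)))
  let i : T ≅ extObj k L := MorphismProperty.Over.isoMk (Iso.refl _)
  haveI : PreservesFiniteLimits (EtCoh.pull j) := preservesFiniteLimits_pull j
  haveI : PreservesFiniteLimits (EtShriek.restrAlong j) := preservesFiniteLimits_of_natIso (pullIsoRestr j)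
  haveI : PreservesFiniteColimits (EtShriek.restrAlong j) := preservesFiniteColimits_of_natIso (pullIsoRestr j)
  obtain ⟨s, hs⟩ := exists_lift_global L (hS.map_of_exact (EtShriek.restrAlong j))
    ((EtShriek.restrAlong j).mapIso e ≪≫ restrGm j) (S.X₃.obj.map i.hom.op q)
  refine ⟨S.X₂.obj.map i.inv.op s, ?_⟩
  rw [NatTrans.naturality_apply S.g.hom i.inv.op s]
  refine (congrArg (S.X₃.obj.map i.inv.op) hs).trans ?_
  rw [← Functor.map_comp_apply, ← op_comp, Iso.inv_hom_id, op_id, CategoryTheory.Functor.map_id]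
  rfl

/-- Sections over any étale scheme over a field lift through an extension by `G_m`. -/
theorem exists_lift_sect {S : ShortComplex (EtCoh.Ab (Spec (CommRingCat.of k)))} (hS : S.ShortExact)
    (e : S.X₁ ≅ EtCoh.Gm (Spec (CommRingCat.of k))) (W : (Spec (CommRingCat.of k)).Etale)
    (q : EtCoh.sect S.X₃ W) : ∃ s : EtCoh.sect S.X₂ W, S.g.hom.app _ s = q := by
  haveI : AlgebraicGeometry.Etale W.hom := W.prop
  haveI : DiscreteTopology W.left := by
    haveI : LocallyQuasiFinite W.hom := EtFibCard.locallyQuasiFinite_of_etale W.hom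
    have h := W.hom.isDiscrete_preimage_singleton (IsLocalRing.closedPoint k)
    rw [show ⇑W.hom ⁻¹' {IsLocalRing.closedPoint k} = Set.univ from
      Set.eq_univ_of_forall fun y => Subsingleton.elim (α := PrimeSpectrum k) _ _] at h
    haveI := h.to_subtype
    exact (Homeomorph.Set.univ W.left).discreteTopology
  let O : W.left → W.left.Opens := fun w => ⟨{w}, isOpen_discrete _⟩
  have hpiece : ∀ w, ∃ t : EtCoh.sect S.X₂ (openSub W (O w)),
      S.g.hom.app _ t = S.X₃.obj.map (openIncl W (O w)).op q := by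
    intro w
    haveI : Subsingleton (openSub W (O w)).left := ⟨fun a b => Subtype.ext (a.2.trans b.2.symm)⟩
    haveI : Nonempty (openSub W (O w)).left := ⟨⟨w, rfl⟩⟩
    obtain ⟨L, _, _, _, _, ⟨i⟩⟩ := exists_iso_extObj k (openSub W (O w))
    obtain ⟨t, ht⟩ := exists_lift_extObj k hS e L (S.X₃.obj.map i.hom.op (S.X₃.obj.map (openIncl W (O w)).op q))
    refine ⟨S.X₂.obj.map i.inv.op t, ?_⟩
    rw [NatTrans.naturality_apply S.g.hom i.inv.op t, ht, ← Functor.map_comp_apply, ← op_comp, Iso.inv_hom_id,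
      op_id, CategoryTheory.Functor.map_id]
    rfl
  choose t ht using hpiece
  let F : Sheaf (Spec (CommRingCat.of k)).smallEtaleTopology (Type (u + 1)) := (sheafCompose _ (forget AddCommGrpCat.{u + 1})).obj S.X₂
  obtain ⟨s, hs⟩ := exists_glue F W O
    (fun a b hab => TopologicalSpace.Opens.coe_disjoint.1 (Set.disjoint_singleton.2 hab)) (fun x => ⟨x, rfl⟩) t
  refine ⟨s, ?_⟩
  rw [← sub_eq_zero]
  refine sect_eq_zero_of_locally S.X₃ _ fun x => ⟨openSub W (O x), openIncl W (O x), ⟨⟨x, rfl⟩, rfl⟩, ?_⟩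
  rw [map_sub, sub_eq_zero, ← ht x, ← NatTrans.naturality_apply S.g.hom (openIncl W (O x)).op s]
  exact congrArg (S.g.hom.app _) (hs x)

/-- Direct image from the spectrum of a field is exact on extensions by `G_m`. -/
theorem epi_push_map {X : Scheme.{u}} (f : Spec (CommRingCat.of k) ⟶ X)
    {S : ShortComplex (EtCoh.Ab (Spec (CommRingCat.of k)))} (hS : S.ShortExact)
    (e : S.X₁ ≅ EtCoh.Gm (Spec (CommRingCat.of k))) : Epi ((EtCoh.push f).map S.g) := by
  haveI : Sheaf.IsLocallySurjective ((EtCoh.push f).map S.g) := by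
    refine ⟨fun {U} q => covering_of_points _ fun x => ?_⟩
    obtain ⟨s, hs⟩ := exists_lift_sect k hS e ((EtCoh.bc f).obj U) q
    refine ⟨U, 𝟙 U, x, ⟨s, ?_⟩, rfl⟩
    rw [op_id, CategoryTheory.Functor.map_id]
    exact hs
  exact (Sheaf.isLocallySurjective_iff_epi' AddCommGrpCat.{u + 1} ((EtCoh.push f).map S.g)).1 inferInstance

theorem hofPush_eq {X : Scheme.{u}} (f : Spec (CommRingCat.of k) ⟶ X) [PreservesFiniteLimits (EtCoh.pull f)]
    (G : EtCoh.Ab (Spec (CommRingCat.of k))) (n : ℕ) (x : EtCoh.H X ((EtCoh.push f).obj G) n) :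
    EtLim.HofPush f G n x = (Ext.mk₀ (EtCore.pullConst f ℤ).inv).comp
      (ExtAdj.transpose (EtCoh.pullPushAdj f) (EtCoh.const X ℤ) G n x) (zero_add n) :=
  (Ext.comp_assoc _ _ _ (zero_add n) (add_zero n) (by omega))

theorem H1_push_Gm_eq_zero {X : Scheme.{u}} (f : Spec (CommRingCat.of k) ⟶ X) [PreservesFiniteLimits (EtCoh.pull f)]
    (x : EtCoh.H X ((EtCoh.push f).obj (EtCoh.Gm (Spec (CommRingCat.of k)))) 1) : x = 0 := by
  refine transpose_one_eq_zero (EtCoh.pullPushAdj f) _ _ x ?_
  let y := ExtAdj.transpose (EtCoh.pullPushAdj f) (EtCoh.const X ℤ) (EtCoh.Gm (Spec (CommRingCat.of k))) 1 x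
  have h : (Ext.mk₀ (EtCore.pullConst f ℤ).inv).comp y (zero_add 1) = 0 := H1_Gm_eq_zero k _
  have := congrArg (fun z => (Ext.mk₀ (EtCore.pullConst f ℤ).hom).comp z (zero_add 1)) h
  simpa only [y, Ext.comp_zero, Ext.mk₀_comp_mk₀_assoc, Iso.hom_inv_id, Ext.mk₀_id_comp] using this

theorem H2_push_Gm_injective {X : Scheme.{u}} (f : Spec (CommRingCat.of k) ⟶ X) [PreservesFiniteLimits (EtCoh.pull f)] :
    Function.Injective (EtLim.HofPush f (EtCoh.Gm (Spec (CommRingCat.of k))) 2) := by
  refine (injective_iff_map_eq_zero _).2 fun x hx => ?_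
  refine transpose_two_eq_zero (EtCoh.pullPushAdj f) _ _ (fun S hS ⟨e⟩ => epi_push_map k f hS e) x ?_
  rw [hofPush_eq] at hx
  have := congrArg (fun z => (Ext.mk₀ (EtCore.pullConst f ℤ).hom).comp z (zero_add 2)) hx
  simpa only [Ext.comp_zero, Ext.mk₀_comp_mk₀_assoc, Iso.hom_inv_id, Ext.mk₀_id_comp] using this

end Groth.Agent.EtTraceLib
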