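import Mathlib.CategoryTheory.Limits.Constructions.Filtered
import Mathlib.CategoryTheory.Abelian.GrothendieckAxioms.Colim
import Mathlib.CategoryTheory.Abelian.Basic

/-!
# The map from a coproduct to the product is a monomorphism
-/

set_option autoImplicit false
set_option backward.isDefEq.respectTransparency false
set_option linter.style.haveILetI false

universe v u w

open CategoryTheory CategoryTheory.Limits

noncomputable section

namespace Groth.Agent.EtTraceLib

variable {A : Type u} [Category.{v} A] [Abelian A] {ι : Type w} (S : ι → A) [HasProduct S]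

open Classical in
/-- The insertion of a factor into a product. -/
def prodIns (i : ι) : S i ⟶ ∏ᶜ S :=
  Pi.lift fun i' => if h : i = i' then eqToHom (congrArg S h) else 0

theorem prodIns_π_self (i : ι) : prodIns S i ≫ Pi.π S i = 𝟙 _ := by
  simp [prodIns]

theorem prodIns_π_ne {i i' : ι} (h : i ≠ i') : prodIns S i ≫ Pi.π S i' = 0 := by
  simp [prodIns, h]

/-- The map from a coproduct to the product. -/
def toProd {c : Cofan S} (hc : IsColimit c) : c.pt ⟶ ∏ᶜ S := hc.desc (Cofan.mk _ (prodIns S))

theorem inj_toProd {c : Cofan S} (hc : IsColimit c) (i : ι) : c.inj i ≫ toProd S hc = prodIns S i :=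
  hc.fac _ ⟨i⟩

open CoproductsFromFiniteFiltered in
theorem mono_toProd [HasColimitsOfShape (Finset (Discrete ι)) A]
    [HasExactColimitsOfShape (Finset (Discrete ι)) A]
    {c : Cofan S} (hc : IsColimit c) : Mono (toProd S hc) := by
  classical
  haveI : IsConnected (Finset (Discrete ι)) := IsFiltered.isConnected _
  let G := liftToFinsetObj (Discrete.functor S)
  let φ : G ⟶ (Functor.const _).obj (∏ᶜ S) :=
    { app := fun T => Sigma.desc fun x : T => prodIns S x.1.as
      naturality := fun T T' h => by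
        dsimp [G]
        rw [Category.comp_id]
        exact Sigma.hom_ext _ _ fun x => by simp }
  haveI : ∀ T, Mono (φ.app T) := fun T => by
    let r : ∏ᶜ S ⟶ G.obj T :=
      ∑ x : T, Pi.π S x.1.as ≫ Sigma.ι (fun x : T => (Discrete.functor S).obj x.1) x
    haveI : IsSplitMono (φ.app T) := IsSplitMono.mk' ⟨r, by
      refine Sigma.hom_ext _ _ fun x => ?_
      show Sigma.ι (fun x : T => (Discrete.functor S).obj x.1) x ≫ Sigma.desc (fun x : T => prodIns S x.1.as) ≫ r =
        Sigma.ι (fun x : T => (Discrete.functor S).obj x.1) x ≫ 𝟙 (∐ fun x : T => (Discrete.functor S).obj x.1)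
      rw [Category.comp_id]
      erw [Sigma.ι_desc_assoc]
      show prodIns S x.1.as ≫ r = _
      rw [Preadditive.comp_sum, Finset.sum_eq_single x]
      · rw [← Category.assoc, prodIns_π_self]
        exact Category.id_comp _
      · intro y _ hy
        rw [← Category.assoc, prodIns_π_ne S (fun e => hy (Subtype.ext (Discrete.ext e)).symm), zero_comp]
      · exact fun h => absurd (Finset.mem_univ x) h⟩
    infer_instance
  haveI : Mono φ := NatTrans.mono_of_mono_app φ
  haveI : (colim : (Finset (Discrete ι) ⥤ A) ⥤ A).PreservesMonomorphisms :=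
    preservesMonomorphisms_of_preservesLimitsOfShape _
  let L := liftToFinsetColimitCocone (Discrete.functor S)
  let e := hc.coconePointUniqueUpToIso L.isColimit
  have hm : Mono (e.inv ≫ toProd S hc) := by
    refine colim.map_mono' φ (colimit.isColimit G) (isColimitConstCocone _ _) (e.inv ≫ toProd S hc) fun T => ?_
    refine Sigma.hom_ext _ _ fun ⟨⟨i⟩, hi⟩ => ?_
    have h2 : Sigma.ι (fun x : T => (Discrete.functor S).obj x.1) ⟨⟨i⟩, hi⟩ ≫ colimit.ι G T =
        L.cocone.ι.app ⟨i⟩ := by
      refine Eq.trans ?_ (Eq.refl (L.cocone.ι.app ⟨i⟩))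
      show _ = Sigma.ι (fun x : ({⟨i⟩} : Finset (Discrete ι)) => (Discrete.functor S).obj x) ⟨⟨i⟩, by simp⟩ ≫
        colimit.ι G {⟨i⟩}
      rw [← colimit.w G (homOfLE (Finset.singleton_subset_iff.2 hi) : ({⟨i⟩} : Finset (Discrete ι)) ⟶ T)]
      simp [G]
    show Sigma.ι _ (⟨⟨i⟩, hi⟩ : T) ≫ colimit.ι G T ≫ e.inv ≫ toProd S hc =
      Sigma.ι _ (⟨⟨i⟩, hi⟩ : T) ≫ φ.app T ≫ 𝟙 _
    rw [← Category.assoc, h2, IsColimit.comp_coconePointUniqueUpToIso_inv_assoc, Category.comp_id]
    refine (inj_toProd S hc i).trans ?_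
    exact (Sigma.ι_desc (fun x : T => prodIns S x.1.as) ⟨⟨i⟩, hi⟩).symm
  have h : Mono (e.hom ≫ e.inv ≫ toProd S hc) := mono_comp _ _
  rw [Iso.hom_inv_id_assoc] at h
  exact h

end Groth.Agent.EtTraceLib
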