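import Groth.Agent.EtTraceLib.OrdEt
import Groth.Agent.EtTraceLib.ConstSect
import Groth.Agent.EtTraceLib.SigmaPi

/-!
# The divisor sequence of the multiplicative group
-/

set_option autoImplicit false
set_option backward.isDefEq.respectTransparency false
set_option backward.isDefEq.respectTransparency.types false
set_option linter.style.haveILetI false
set_option maxHeartbeats 1000000

universe u

open CategoryTheory CategoryTheory.Limits AlgebraicGeometry Opposite IsLocalRing

noncomputable section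

namespace Groth.Agent.EtTraceLib

open EtPtsLib RefOne

/-- The skyscraper sheaf `(i_x)_* ℤ`. -/
abbrev Sk (X : Scheme.{u}) (x : X) : EtCoh.Ab X :=
  (EtCoh.push (X.fromSpecResidueField x)).obj (EtCoh.const (Spec (X.residueField x)) ℤ)

variable {X : Scheme.{u}}

/-- The fibre of an étale scheme over a point. -/
abbrev fib (x : X) (V : X.Etale) : (Spec (X.residueField x)).Etale := (EtCoh.bc (X.fromSpecResidueField x)).obj V

/-- The inclusion of the fibre. -/
abbrev fibι (x : X) (V : X.Etale) : (fib x V).left ⟶ V.left := pullback.fst (str V) (X.fromSpecResidueField x)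

theorem str_fibι (x : X) (V : X.Etale) (w : (fib x V).left) : str V (fibι x V w) = x := by
  have h : str V (fibι x V w) ∈ Set.range (X.fromSpecResidueField x) :=
    ⟨(pullback.snd (str V) (X.fromSpecResidueField x)) w,
      (congrArg (fun m : (fib x V).left ⟶ X => m w) pullback.condition).symm⟩
  rw [Scheme.range_fromSpecResidueField] at h
  exact h

theorem exists_fibι_eq (x : X) (V : X.Etale) (z : V.left) (hz : str V z = x) : ∃ w, fibι x V w = z := by
  have h : z ∈ Set.range (fibι x V) := by
    show z ∈ Set.range (pullback.fst (str V) (X.fromSpecResidueField x))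
    rw [Scheme.Pullback.range_fst, Scheme.range_fromSpecResidueField]
    exact hz
  exact h

instance discreteTopology_fib (x : X) (V : X.Etale) : DiscreteTopology (fib x V).left := by
  haveI := Groth.Agent.Unibranch.locallyQuasiFinite_of_etale (str (fib x V))
  have h := (str (fib x V)).isDiscrete_preimage_singleton (IsLocalRing.closedPoint (X.residueField x))
  rw [show (str (fib x V)) ⁻¹' {IsLocalRing.closedPoint (X.residueField x)} = Set.univ from
    Set.eq_univ_of_forall fun _ => Subsingleton.elim (α := ↥(Spec (X.residueField x))) _ _] at h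
  exact isDiscrete_univ_iff.1 h

theorem fibι_map (x : X) {V V' : X.Etale} (g : V' ⟶ V) (w : (fib x V').left) :
    fibι x V (((EtCoh.bc (X.fromSpecResidueField x)).map g).left w) = g.left (fibι x V' w) :=
  congrArg (fun m : (fib x V').left ⟶ V.left => m w) (EtCoh.isPullback_bc_map (X.fromSpecResidueField x) g).w

/-- The constant group `ℤ`, one universe up. -/
abbrev zz : AddCommGrpCat.{u + 1} := AddCommGrpCat.of (ULift.{u + 1} ℤ)

/-- The value of a section of a skyscraper at a point of the fibre. -/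
def skVal (x : X) (V : X.Etale) (t : EtCoh.sect (Sk X x) V) (w : (fib x V).left) : ℤ :=
  (cval (M := zz.{u}) (fib x V) (t : EtCoh.sect (cSh (Spec (X.residueField x)) zz.{u}) (fib x V)) w : ULift.{u + 1} ℤ).down

theorem skVal_ext {x : X} {V : X.Etale} {s t : EtCoh.sect (Sk X x) V} (h : ∀ w, skVal x V s w = skVal x V t w) :
    s = t :=
  cval_ext (M := zz.{u}) (U := fib x V) fun w => ULift.ext _ _ (h w)

theorem skVal_add (x : X) (V : X.Etale) (s t : EtCoh.sect (Sk X x) V) (w : (fib x V).left) :
    skVal x V (s + t) w = skVal x V s w + skVal x V t w :=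
  congrArg ULift.down (cval_add (M := zz.{u}) (fib x V) s t w)

theorem skVal_zero (x : X) (V : X.Etale) (w : (fib x V).left) : skVal x V 0 w = 0 :=
  congrArg ULift.down (cval_zero (M := zz.{u}) (fib x V) w)

theorem skVal_map (x : X) {V V' : X.Etale} (g : V' ⟶ V) (t : EtCoh.sect (Sk X x) V) (w : (fib x V').left) :
    skVal x V' ((Sk X x).obj.map g.op t) w = skVal x V t (((EtCoh.bc (X.fromSpecResidueField x)).map g).left w) :=
  congrArg ULift.down (cval_map (M := zz.{u}) ((EtCoh.bc (X.fromSpecResidueField x)).map g) t w)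

/-- The section with prescribed values. -/
def skMk (x : X) (V : X.Etale) (f : (fib x V).left → ℤ) : EtCoh.sect (Sk X x) V :=
  ((constEquiv zz.{u} (fib x V)).symm ⟨fun w => ULift.up (f w), IsLocallyConstant.of_discrete _⟩ : _)

theorem skVal_skMk (x : X) (V : X.Etale) (f : (fib x V).left → ℤ) (w : (fib x V).left) :
    skVal x V (skMk x V f) w = f w :=
  congrArg ULift.down (LocallyConstant.congr_fun ((constEquiv zz.{u} (fib x V)).apply_symm_apply
    ⟨fun w => ULift.up (f w), IsLocallyConstant.of_discrete _⟩) w)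

variable [IsIntegral X] [IsLocallyNoetherian X]

/-- The codimension one points. -/
abbrev HtOne (X : Scheme.{u}) : Type u := {x : X // ringKrullDim (X.presheaf.stalk x) = 1}

/-- The direct image of the multiplicative group of the function field. -/
abbrev RF (X : Scheme.{u}) [IsIntegral X] : EtCoh.Ab X :=
  (EtCoh.push (jη X)).obj (EtCoh.Gm (Spec (X.presheaf.stalk (genericPoint X))))

variable (hreg : RegularScheme X)

omit [IsLocallyNoetherian X] in
theorem sect_ext_cover {F : EtCoh.Ab X} {V : X.Etale} {s t : EtCoh.sect F V}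
    (h : ∀ z : V.left, ∃ (W : X.Etale) (g : W ⟶ V) (w : W.left), g.left w = z ∧
      F.obj.map g.op s = F.obj.map g.op t) : s = t :=
  sect_eq_of_cover (⟨F.obj ⋙ forget AddCommGrpCat.{u + 1},
    ((sheafCompose X.smallEtaleTopology (forget AddCommGrpCat.{u + 1})).obj F).2⟩ : Sheaf _ (Type (u + 1))) V s t h

/-- The order along a point of codimension one. -/
def dMap (x : HtOne X) : RF X ⟶ Sk X x.1 :=
  ObjectProperty.homMk
    { app := fun V => AddCommGrpCat.ofHom (AddMonoidHom.mk'
        (fun s => skMk x.1 V.unop fun w => ordAt hreg V.unop s (fibι x.1 V.unop w))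
        fun s t => skVal_ext fun w => by rw [skVal_add, skVal_skMk, skVal_skMk, skVal_skMk, ordAt_add])
      naturality := fun V V' g => by
        refine AddCommGrpCat.hom_ext (AddMonoidHom.ext fun s => skVal_ext fun w => ?_)
        show skVal x.1 V'.unop (skMk x.1 V'.unop fun w => ordAt hreg V'.unop (rRes g.unop s) (fibι x.1 V'.unop w)) w =
          skVal x.1 V'.unop ((Sk X x.1).obj.map g.unop.op (skMk x.1 V.unop fun w => ordAt hreg V.unop s (fibι x.1 V.unop w))) w
        rw [skVal_skMk, skVal_map, skVal_skMk, fibι_map]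
        exact ordAt_map hreg g.unop s ((congrArg (fun p => ringKrullDim (X.presheaf.stalk p)) (str_fibι x.1 V'.unop w)).trans x.2) }

theorem skVal_dMap (x : HtOne X) (V : X.Etale) (s : RSect V) (w : (fib x.1 V).left) :
    skVal x.1 V ((dMap hreg x).hom.app (op V) s) w = ordAt hreg V s (fibι x.1 V w) :=
  skVal_skMk x.1 V _ w

/-- The divisor with values in the product. -/
def divP : RF X ⟶ ∏ᶜ fun x : HtOne X => Sk X x.1 := Pi.lift (dMap hreg)

theorem prod_sect_ext {ι : Type u} (S : ι → EtCoh.Ab X) [HasProduct S] {V : X.Etale}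
    {s t : EtCoh.sect (∏ᶜ S) V} (h : ∀ i, (Pi.π S i).hom.app (op V) s = (Pi.π S i).hom.app (op V) t) : s = t := by
  let G := sheafToPresheaf X.smallEtaleTopology AddCommGrpCat.{u + 1} ⋙ (evaluation _ _).obj (op V)
  exact Concrete.isLimit_ext _ (isLimitOfPreserves G (productIsProduct S)) s t fun j => h j.as

theorem π_divP (x : HtOne X) (V : X.Etale) (s : RSect V) :
    (Pi.π (fun x : HtOne X => Sk X x.1) x).hom.app (op V) ((divP hreg).hom.app (op V) s) =
      (dMap hreg x).hom.app (op V) s :=
  ConcreteCategory.congr_hom (congrArg (fun m : RF X ⟶ Sk X x.1 => m.hom.app (op V))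
    (show divP hreg ≫ Pi.π (fun x : HtOne X => Sk X x.1) x = dMap hreg x by simp [divP])) s

omit [IsLocallyNoetherian X] in
theorem π_prodIns_self (x : HtOne X) (V : X.Etale) (t : EtCoh.sect (Sk X x.1) V) :
    (Pi.π (fun x : HtOne X => Sk X x.1) x).hom.app (op V)
      ((prodIns (fun x : HtOne X => Sk X x.1) x).hom.app (op V) t) = t :=
  ConcreteCategory.congr_hom (congrArg (fun m => m.hom.app (op V)) (prodIns_π_self (fun x : HtOne X => Sk X x.1) x)) t

omit [IsLocallyNoetherian X] in
theorem π_prodIns_ne {x x' : HtOne X} (hne : x ≠ x') (V : X.Etale) (t : EtCoh.sect (Sk X x.1) V) :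
    (Pi.π (fun x : HtOne X => Sk X x.1) x').hom.app (op V)
      ((prodIns (fun x : HtOne X => Sk X x.1) x).hom.app (op V) t) = 0 :=
  ConcreteCategory.congr_hom (congrArg (fun m => m.hom.app (op V)) (prodIns_π_ne (fun x : HtOne X => Sk X x.1) hne)) t

theorem GmPush_divP : EtLim.GmPush (jη X) ≫ divP hreg = 0 := by
  refine Pi.hom_ext _ _ fun x => ObjectProperty.hom_ext _ (NatTrans.ext (funext fun V =>
    ConcreteCategory.hom_ext _ _ fun b => ?_))
  show (Pi.π (fun x : HtOne X => Sk X x.1) x).hom.app (op V.unop)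
    ((divP hreg).hom.app (op V.unop) ((EtLim.GmPush (jη X)).hom.app (op V.unop) b)) = _
  rw [π_divP]
  refine skVal_ext fun w => ?_
  rw [skVal_dMap, ordAt_GmPush hreg V.unop b
    ((congrArg (fun p => ringKrullDim (X.presheaf.stalk p)) (str_fibι x.1 V.unop w)).trans x.2)]
  rw [zero_comp]
  exact (skVal_zero x.1 V.unop w).symm

omit [IsLocallyNoetherian X] in
theorem ρval_eq_one {U : X.Etale} [IsIntegral U.left] {s : RSect U} : ρval U s = 1 ↔ s = 0 := by
  have h0 : ρval U (0 : RSect U) = 1 := by
    rw [ρval, map_zero]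
    rfl
  exact ⟨fun h => ρval_injective U (h.trans h0.symm), fun h => h ▸ h0⟩

theorem mono_GmPush (hreg : RegularScheme X) : Mono (EtLim.GmPush (jη X)) := by
  refine mono_of_injective _ fun V => (injective_iff_map_eq_zero _).2 fun b hb => ?_
  refine sect_ext_cover fun z => ?_
  obtain ⟨W, hzW, hW⟩ := exists_intNbhd hreg V z
  haveI := hW
  refine ⟨openSub V W, openIncl V W, (⟨z, hzW⟩ : W.toScheme), rfl, ?_⟩
  rw [map_zero]
  have h1 : ρval (openSub V W) ((EtLim.GmPush (jη X)).hom.app (op (openSub V W))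
      ((EtCoh.Gm X).obj.map (openIncl V W).op b)) = 1 := by
    rw [NatTrans.naturality_apply (EtLim.GmPush (jη X)).hom (openIncl V W).op b, hb, map_zero]
    exact ρval_eq_one.2 rfl
  rw [ρval_GmPush] at h1
  have h2 : (gmVal (openSub V W) ((EtCoh.Gm X).obj.map (openIncl V W).op b) : Γ((openSub V W).left, ⊤)) = 1 :=
    germ_injective_of_isIntegral (openSub V W).left (U := ⊤) _ trivial (h1.trans (map_one _).symm)
  exact ULift.ext _ _ (Additive.toMul.injective (Units.ext h2))

theorem exists_lift_of_exact (V : X.Etale) (t : RSect V) (ht : (divP hreg).hom.app (op V) t = 0) (z : V.left) :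
    ∃ (W : X.Etale) (g : W ⟶ V) (w : W.left), g.left w = z ∧
      ∃ y, (EtLim.GmPush (jη X)).hom.app (op W) y = rRes g t := by
  obtain ⟨W, hzW, hW⟩ := exists_intNbhd hreg V z
  haveI := hW
  let U := openSub V W
  let f := ρval U (rRes (openIncl V W) t)
  have hf : f ≠ 0 := ρval_ne_zero _ _
  have hord : ∀ y : U.left, Order.coheight y = 1 → Scheme.ord f y = 0 := fun y hy => by
    have hx : ringKrullDim (X.presheaf.stalk (str U y)) = 1 := coheight_str.1 hy
    obtain ⟨w, hw⟩ := exists_fibι_eq (str U y) V ((openIncl V W).left y) rfl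
    have h1 := skVal_dMap hreg ⟨str U y, hx⟩ V t w
    rw [← π_divP] at h1
    erw [ht] at h1
    rw [map_zero, skVal_zero, hw, ordAt_eq hreg (openIncl V W) t hy] at h1
    exact h1.symm
  have hn := normal_etale hreg U
  obtain ⟨g₁, hg₁⟩ := exists_global (X := U.left) f fun y =>
    exists_toK_of_codim_one hn f fun y' _ hy' => exists_eq_toK hn hy' (Or.inr (hord y' hy').ge)
  obtain ⟨g₂, hg₂⟩ := exists_global (X := U.left) f⁻¹ fun y =>
    exists_toK_of_codim_one hn (show U.left.functionField from f⁻¹) fun y' _ hy' => exists_eq_toK hn hy'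
      (Or.inr (by rw [scheme_ord_inv hf, hord y' hy', neg_zero]))
  have he₁ : U.left.presheaf.germ ⊤ (genericPoint U.left) trivial g₁ = f :=
    (toK_germ (genericPoint U.left) (U := ⊤) trivial g₁).symm.trans (hg₁ _)
  have he₂ : U.left.presheaf.germ ⊤ (genericPoint U.left) trivial g₂ = (show U.left.functionField from f⁻¹) :=
    (toK_germ (genericPoint U.left) (U := ⊤) trivial g₂).symm.trans (hg₂ _)
  have h12 : g₁ * g₂ = 1 := germ_injective_of_isIntegral U.left (U := ⊤) (genericPoint U.left) trivial (by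
    show U.left.presheaf.germ ⊤ (genericPoint U.left) trivial (g₁ * g₂) = _
    rw [map_mul, map_one, he₁, he₂]
    exact mul_inv_cancel₀ hf)
  refine ⟨U, openIncl V W, (⟨z, hzW⟩ : W.toScheme), rfl,
    (ULift.up (Additive.ofMul (Units.mkOfMulEqOne g₁ g₂ h12)) : ULift.{u + 1} (Additive (Γ(U.left, ⊤) : Type u)ˣ)),
    ρval_injective U ?_⟩
  rw [ρval_GmPush]
  exact he₁

include hreg in
/-- Local principality. -/
theorem exists_div_eq (x : HtOne X) (V : X.Etale) (t : EtCoh.sect (Sk X x.1) V) (z : V.left) :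
    ∃ (W : X.Etale) (g : W ⟶ V) (w : W.left), g.left w = z ∧ ∃ y : RSect W,
      (divP hreg).hom.app (op W) y =
        (prodIns (fun x : HtOne X => Sk X x.1) x).hom.app (op W) ((Sk X x.1).obj.map g.op t) := by
  classical
  obtain ⟨N, hzN, hN⟩ := exists_intNbhd hreg V z
  haveI := hN
  let U := openSub V N
  let z' : U.left := ⟨z, hzN⟩
  let t' := (Sk X x.1).obj.map (openIncl V N).op t
  let Z : U.left → ℤ := fun y => if h : str U y = x.1 then skVal x.1 U t' (exists_fibι_eq x.1 U y h).choose else 0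
  have hZ : ∀ w, Z (fibι x.1 U w) = skVal x.1 U t' w := fun w => by
    have h := str_fibι x.1 U w
    simp only [Z, dif_pos h]
    congr 1
    haveI : IsPreimmersion (fibι x.1 U) := MorphismProperty.pullback_fst _ _ inferInstance
    exact (fibι x.1 U).isEmbedding.injective (exists_fibι_eq x.1 U (fibι x.1 U w) h).choose_spec
  obtain ⟨_, ⟨(A : U.left.Opens), hA, rfl⟩, hzA, -⟩ :=
    U.left.isBasis_affineOpens.exists_subset_of_mem_open (Set.mem_univ z') isOpen_univ
  have hfib : {y : U.left | y ∈ A ∧ str U y = x.1}.Finite := by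
    haveI := Groth.Agent.Unibranch.locallyQuasiFinite_of_etale (str U)
    haveI : CompactSpace A.toScheme := isCompact_iff_compactSpace.1 hA.isCompact
    haveI : QuasiCompact (A.ι ≫ str U) := inferInstance
    haveI : LocallyQuasiFinite (A.ι ≫ str U) := inferInstance
    refine (((A.ι ≫ str U).finite_preimage_singleton x.1).image A.ι).subset ?_
    rintro y ⟨hy, hyx⟩
    exact ⟨⟨y, hy⟩, hyx, rfl⟩
  have hfinA : {y : U.left | y ∈ A ∧ Z y ≠ 0}.Finite := hfib.subset fun y hy => ⟨hy.1, by
    by_contra h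
    exact hy.2 (dif_neg h)⟩
  haveI := regular_etale hreg U z'
  haveI := Groth.Agent.RegLocal.isDomain (U.left.presheaf.stalk z')
  haveI := Groth.Agent.RegLocal.ufd (U.left.presheaf.stalk z')
  obtain ⟨f, hf, hfo⟩ := principal_of_ufd (normal_etale hreg U) z' Z ⟨A, hzA, hfinA⟩
  obtain ⟨s, hs⟩ := exists_ρval_eq U (c := f) hf
  obtain ⟨A', hzA', hfinA'⟩ := exists_finite_nbhd hreg U s z'
  let E : Set U.left := {y | y ∈ A ⊓ A' ∧ ¬ y ⤳ z' ∧ Order.coheight y = 1 ∧ (Z y ≠ 0 ∨ ordAt hreg U s y ≠ 0)}
  have hE : E.Finite := (hfinA.union hfinA').subset fun y hy => by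
    rcases hy.2.2.2 with h | h
    · exact Or.inl ⟨hy.1.1, h⟩
    · exact Or.inr ⟨hy.1.2, hy.2.2.1, h⟩
  let W₁ : U.left.Opens :=
    ⟨(↑(A ⊓ A') : Set U.left) ∩ (⋃ y ∈ E, closure {y})ᶜ,
      (A ⊓ A').2.inter (hE.isClosed_biUnion fun _ _ => isClosed_closure).isOpen_compl⟩
  have hzW₁ : z' ∈ W₁ := ⟨⟨hzA, hzA'⟩, fun h => by
    obtain ⟨y, hy, hyz⟩ := Set.mem_iUnion₂.1 h
    exact hy.2.1 (specializes_iff_mem_closure.2 hyz)⟩
  have hkey : ∀ y ∈ W₁, Order.coheight y = 1 → ordAt hreg U s y = Z y := fun y hy hy1 => by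
    have hord : ordAt hreg U s y = Scheme.ord (ρval U s) y := by
      have h := ordAt_eq hreg (𝟙 U) s (a := y) hy1
      rw [show rRes (𝟙 U) s = s from by
        show ((EtCoh.push (jη X)).obj _).obj.map (𝟙 U).op s = s
        rw [op_id, CategoryTheory.Functor.map_id]
        rfl] at h
      exact h
    by_cases hsp : y ⤳ z'
    · rw [hord, hs]
      exact hfo y hsp hy1
    · by_contra hne
      refine hy.2 (Set.mem_iUnion₂.2 ⟨y, ⟨hy.1, hsp, hy1, ?_⟩, subset_closure rfl⟩)
      by_contra h
      simp only [not_or, not_not] at h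
      exact hne (h.2.trans h.1.symm)
  refine ⟨openSub U W₁, openIncl U W₁ ≫ openIncl V N, (⟨z', hzW₁⟩ : W₁.toScheme), rfl,
    rRes (openIncl U W₁) s, prod_sect_ext _ fun x' => ?_⟩
  have ht : (Sk X x.1).obj.map (openIncl U W₁ ≫ openIncl V N).op t = (Sk X x.1).obj.map (openIncl U W₁).op t' := by
    rw [op_comp, Functor.map_comp_apply]
  rw [ht, π_divP]
  have hy1 : ∀ w, Order.coheight ((openIncl U W₁).left (fibι x'.1 (openSub U W₁) w)) = 1 := fun w => by
    rw [coheight_str]
    exact (congrArg (fun p => ringKrullDim (X.presheaf.stalk p)) (str_fibι x'.1 (openSub U W₁) w)).trans x'.2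
  have hval : ∀ w, skVal x'.1 (openSub U W₁) ((dMap hreg x').hom.app (op (openSub U W₁)) (rRes (openIncl U W₁) s)) w =
      Z ((openIncl U W₁).left (fibι x'.1 (openSub U W₁) w)) := fun w => by
    rw [skVal_dMap, ordAt_map hreg (openIncl U W₁) s
      ((congrArg (fun p => ringKrullDim (X.presheaf.stalk p)) (str_fibι x'.1 (openSub U W₁) w)).trans x'.2)]
    exact hkey _ (fibι x'.1 (openSub U W₁) w).2 (hy1 w)
  by_cases hx : x = x'
  · subst hx
    rw [π_prodIns_self]
    refine skVal_ext fun w => ?_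
    rw [hval, skVal_map, ← hZ, fibι_map]
  · rw [π_prodIns_ne hx]
    refine skVal_ext fun w => ?_
    rw [hval, skVal_zero]
    refine dif_neg fun h => hx (Subtype.ext (h.symm.trans ?_))
    exact str_fibι x'.1 (openSub U W₁) w

/-- Locally the divisor is a finite combination. -/
theorem divP_locally_finite {c : Cofan fun x : HtOne X => Sk X x.1} (hc : IsColimit c) (V : X.Etale) (s : RSect V)
    (z : V.left) : ∃ (W : X.Etale) (g : W ⟶ V) (w : W.left), g.left w = z ∧ ∃ y,
      (toProd (fun x : HtOne X => Sk X x.1) hc).hom.app (op W) y =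
        (∏ᶜ fun x : HtOne X => Sk X x.1).obj.map g.op ((divP hreg).hom.app (op V) s) := by
  classical
  obtain ⟨W, hzW, hfin⟩ := exists_finite_nbhd hreg V s z
  let U := openSub V W
  let T : Set (HtOne X) := {x | ∃ v : V.left, v ∈ W ∧ str V v = x.1 ∧ Order.coheight v = 1 ∧ ordAt hreg V s v ≠ 0}
  have hT : T.Finite := by
    have h : (Subtype.val '' T).Finite := (hfin.image (str V)).subset (by
      rintro _ ⟨x, ⟨v, hv, hvx, h1, h2⟩, rfl⟩
      exact ⟨v, ⟨hv, h1, h2⟩, hvx⟩)
    exact h.of_finite_image Subtype.val_injective.injOn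
  let s' := rRes (openIncl V W) s
  refine ⟨U, openIncl V W, (⟨z, hzW⟩ : W.toScheme), rfl,
    ∑ x ∈ hT.toFinset, (c.inj x).hom.app (op U) ((dMap hreg x).hom.app (op U) s'), ?_⟩
  rw [← NatTrans.naturality_apply]
  refine prod_sect_ext _ fun x' => ?_
  rw [map_sum, map_sum]
  have e : ∀ x : HtOne X, (toProd (fun x : HtOne X => Sk X x.1) hc).hom.app (op U)
      ((c.inj x).hom.app (op U) ((dMap hreg x).hom.app (op U) s')) =
      (prodIns (fun x : HtOne X => Sk X x.1) x).hom.app (op U) ((dMap hreg x).hom.app (op U) s') := fun x =>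
    ConcreteCategory.congr_hom (congrArg (fun m => m.hom.app (op U)) (inj_toProd (fun x : HtOne X => Sk X x.1) hc x)) _
  rw [Finset.sum_eq_single x' (fun x _ hne => by rw [e, π_prodIns_ne hne]) (fun hx' => ?_)]
  · rw [e, π_prodIns_self]
    exact (π_divP hreg x' U s').symm
  · rw [e, π_prodIns_self]
    refine skVal_ext fun w => ?_
    rw [skVal_dMap, skVal_zero]
    by_contra hne
    apply hx'
    rw [Set.Finite.mem_toFinset]
    have hd : ringKrullDim (X.presheaf.stalk (str U (fibι x'.1 U w))) = 1 :=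
      (congrArg (fun p => ringKrullDim (X.presheaf.stalk p)) (str_fibι x'.1 U w)).trans x'.2
    rw [ordAt_map hreg (openIncl V W) s hd] at hne
    exact ⟨(openIncl V W).left (fibι x'.1 U w), (fibι x'.1 U w).2, str_fibι x'.1 U w, coheight_str.2 hd, hne⟩

theorem hasExact_finset (ι : Type u) : HasExactColimitsOfShape (Finset (Discrete ι)) (EtCoh.Ab X) := by
  haveI : IsGrothendieckAbelian.{u + 1} (EtCoh.Ab X) := inferInstance
  haveI := AB5OfSize_shrink.{u, u, u + 1, u + 1} (EtCoh.Ab X)
  infer_instance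

/-- The divisor sequence. -/
theorem exists_div_sequence (hreg : RegularScheme X) {c : Cofan fun x : HtOne X => Sk X x.1} (hc : IsColimit c) :
    Mono (EtLim.GmPush (jη X)) ∧ ∃ (D : RF X ⟶ c.pt) (h : EtLim.GmPush (jη X) ≫ D = 0),
      (ShortComplex.mk _ _ h).ShortExact := by
  haveI := mono_GmPush hreg
  haveI := hasExact_finset (X := X) (HtOne X)
  haveI hσ : Mono (toProd (fun x : HtOne X => Sk X x.1) hc) := mono_toProd _ hc
  let σ := toProd (fun x : HtOne X => Sk X x.1) hc
  have hzero : divP hreg ≫ cokernel.π σ = 0 := by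
    refine ObjectProperty.hom_ext _ (NatTrans.ext (funext fun V => ConcreteCategory.hom_ext _ _ fun s => ?_))
    show (cokernel.π σ).hom.app (op V.unop) ((divP hreg).hom.app (op V.unop) s) = 0
    refine sect_ext_cover fun z => ?_
    obtain ⟨W, g, w, hw, y, hy⟩ := divP_locally_finite hreg hc V.unop s z
    refine ⟨W, g, w, hw, ?_⟩
    rw [map_zero, ← NatTrans.naturality_apply (cokernel.π σ).hom g.op, ← hy]
    exact ConcreteCategory.congr_hom (congrArg (fun m => m.hom.app (op W)) (cokernel.condition σ)) y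
  let D : RF X ⟶ c.pt := Abelian.monoLift σ (divP hreg) hzero
  have hD : D ≫ σ = divP hreg := Abelian.monoLift_comp σ _ hzero
  have h : EtLim.GmPush (jη X) ≫ D = 0 := by
    rw [← cancel_mono σ, zero_comp, Category.assoc, hD, GmPush_divP]
  haveI : Epi D := by
    refine Preadditive.epi_of_cancel_zero _ fun {Q} q hq => Cofan.IsColimit.hom_ext hc _ _ fun x => ?_
    refine ObjectProperty.hom_ext _ (NatTrans.ext (funext fun V => ConcreteCategory.hom_ext _ _ fun t => ?_))
    show q.hom.app (op V.unop) ((c.inj x).hom.app (op V.unop) t) = _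
    rw [comp_zero]
    refine sect_ext_cover fun z => ?_
    obtain ⟨W, g, w, hw, y, hy⟩ := exists_div_eq hreg x V.unop t z
    refine ⟨W, g, w, hw, ?_⟩
    have hDy : D.hom.app (op W) y = (c.inj x).hom.app (op W) ((Sk X x.1).obj.map g.op t) := by
      refine injective_app σ W ?_
      refine (ConcreteCategory.congr_hom (congrArg
        (fun m : RF X ⟶ ∏ᶜ fun x : HtOne X => Sk X x.1 => m.hom.app (op W)) hD) y).trans (hy.trans ?_)
      exact (ConcreteCategory.congr_hom (congrArg (fun m => m.hom.app (op W))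
        (inj_toProd (fun x : HtOne X => Sk X x.1) hc x)) _).symm
    refine Eq.trans ?_ (map_zero (Q.obj.map g.op).hom).symm
    rw [← NatTrans.naturality_apply q.hom g.op, ← NatTrans.naturality_apply (c.inj x).hom g.op, ← hDy]
    exact ConcreteCategory.congr_hom (congrArg (fun m : RF X ⟶ Q => m.hom.app (op W)) hq) y
  refine ⟨inferInstance, D, h, ShortComplex.ShortExact.mk' ?_ inferInstance inferInstance⟩
  refine exact_of_locally _ fun V t ht z => ?_
  refine exists_lift_of_exact hreg V t ?_ z
  refine (ConcreteCategory.congr_hom (congrArg (fun m => m.hom.app (op V)) hD.symm) t).trans ?_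
  show σ.hom.app (op V) (D.hom.app (op V) t) = 0
  rw [show D.hom.app (op V) t = 0 from ht, map_zero]

/-- The cokernel of `G_m ⟶ j_* G_m` is the sum of skyscrapers. -/
theorem nonempty_cokernel_iso (hreg : RegularScheme X) {c : Cofan fun x : HtOne X => Sk X x.1} (hc : IsColimit c) :
    Mono (EtLim.GmPush (jη X)) ∧ Nonempty (cokernel (EtLim.GmPush (jη X)) ≅ c.pt) := by
  obtain ⟨hm, D, h, hS⟩ := exists_div_sequence hreg hc
  exact ⟨hm, ⟨(cokernelIsCokernel (EtLim.GmPush (jη X))).coconePointUniqueUpToIso hS.gIsCokernel⟩⟩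

end Groth.Agent.EtTraceLib
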