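import Groth.Agent.EtTraceLib.H90Push
import Groth.Agent.FLCLib.Ops
import Groth.Agent.S0108

/-!
# Kummer theory at finite level and constant torsion free coefficients
-/

set_option autoImplicit false
set_option backward.isDefEq.respectTransparency false
set_option backward.isDefEq.respectTransparency.types false
set_option linter.style.haveILetI false
set_option maxHeartbeats 1000000

universe u

open CategoryTheory CategoryTheory.Limits AlgebraicGeometry Opposite CategoryTheory.Abelian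

noncomputable section

namespace Groth.Agent.EtTraceLib

variable {X : Scheme.{u}}

theorem isUnit_natCast_of_invertibleOn (n : ℕ) (h : Dix.InvertibleOn X n) : IsUnit (n : Γ(X, ⊤)) := by
  refine X.toLocallyRingedSpace.toRingedSpace.isUnit_of_isUnit_germ ⊤ _ fun x hx => ?_
  rw [map_natCast]
  by_contra hu
  apply h x
  show ((n : ℕ) : IsLocalRing.ResidueField (X.presheaf.stalk x)) = 0
  rw [← map_natCast (IsLocalRing.residue (X.presheaf.stalk x)), IsLocalRing.residue_eq_zero_iff]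
  exact hu

theorem range_map_mu (n : ℕ) (h : Epi (EtCoh.powMap X n)) (i : ℕ) :
    Set.range ⇑((EtCoh.HF X i).map (EtCoh.muι X n)) = {ξ : (EtCoh.HF X i).obj (EtCoh.Gm X) | n • ξ = 0} := by
  have hS := EtSix.kummerShortExact (X := X) (n := n) h
  ext (x : EtCoh.H X (EtCoh.Gm X) i)
  constructor
  · rintro ⟨(y : EtCoh.H X (EtCoh.mu X n) i), hy⟩
    show n • x = 0
    obtain rfl : y.comp (Ext.mk₀ (EtSix.kummerSC X n).f) (add_zero i) = x := hy
    refine (comp_mk₀_nsmul_id n _).symm.trans ((Ext.comp_assoc_of_second_deg_zero _ _ _ _).trans ?_)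
    refine (congrArg (fun z => y.comp z (add_zero i)) (Ext.mk₀_comp_mk₀ (EtSix.kummerSC X n).f (EtSix.kummerSC X n).g)).trans ?_
    rw [(EtSix.kummerSC X n).zero, Ext.mk₀_zero, Ext.comp_zero]
  · intro (hx : n • x = 0)
    obtain ⟨y, hy⟩ := Ext.covariant_sequence_exact₂ _ hS x ((comp_mk₀_nsmul_id n x).trans hx)
    exact ⟨y, hy⟩

/-- Vanishing for sheaves killed by `N` bounds the `N`-torsion cohomology of all sheaves. -/
theorem eq_zero_of_killed_vanishing (N n : ℕ) {c : EtCoh.Ab X}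
    (h : ∀ (A : EtCoh.Ab X), N • 𝟙 A = 0 → ∀ s, n < s → ∀ z : Ext c A s, z = 0)
    (F : EtCoh.Ab X) (q : ℕ) (hq : n + 1 < q) (x : Ext c F q) (hx : N • x = 0) : x = 0 := by
  obtain ⟨r, rfl⟩ : ∃ r, q = r + 1 := ⟨q - 1, by omega⟩
  let φ : F ⟶ F := N • 𝟙 F
  let S₁ : ShortComplex (EtCoh.Ab X) :=
    ShortComplex.mk (kernel.ι φ) (cokernel.π (kernel.ι φ)) (cokernel.condition _)
  have hS₁ : S₁.ShortExact := { exact := S₁.exact_of_g_is_cokernel (cokernelIsCokernel _) }
  let j := Abelian.factorThruCoimage φ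
  let S₂ : ShortComplex (EtCoh.Ab X) := ShortComplex.mk j (cokernel.π j) (cokernel.condition _)
  have hS₂ : S₂.ShortExact := { exact := S₂.exact_of_g_is_cokernel (cokernelIsCokernel _) }
  have hfac : S₁.g ≫ j = φ := Abelian.coimage.fac φ
  have hK : N • 𝟙 S₁.X₁ = 0 := by
    refine (cancel_mono (kernel.ι φ)).1 ?_
    rw [zero_comp, Preadditive.nsmul_comp, Category.id_comp, ← Category.comp_id (kernel.ι φ), ← Preadditive.comp_nsmul]
    exact kernel.condition φ
  have hC : N • 𝟙 S₂.X₃ = 0 := by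
    refine (cancel_epi (cokernel.π j)).1 ?_
    rw [comp_zero, Preadditive.comp_nsmul, Category.comp_id, ← Category.id_comp (cokernel.π j), ← Preadditive.nsmul_comp]
    show φ ≫ cokernel.π j = 0
    exact ((congrArg (· ≫ cokernel.π j) hfac).symm.trans (Category.assoc _ _ _)).trans
      ((congrArg (S₁.g ≫ ·) (cokernel.condition j)).trans comp_zero)
  let y := x.comp (Ext.mk₀ S₁.g) (add_zero (r + 1))
  have hy : y.comp (Ext.mk₀ S₂.f) (add_zero (r + 1)) = 0 := by
    rw [Ext.comp_assoc_of_second_deg_zero, Ext.mk₀_comp_mk₀]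
    exact (congrArg (fun w => x.comp (Ext.mk₀ w) (add_zero (r + 1))) hfac).trans ((comp_mk₀_nsmul_id N x).trans hx)
  obtain ⟨z, hz⟩ := Ext.covariant_sequence_exact₁ _ hS₂ y hy rfl
  have hy0 : y = 0 := by rw [← hz, h _ hC r (by omega) z, Ext.zero_comp]
  obtain ⟨w, rfl⟩ := Ext.covariant_sequence_exact₂ _ hS₁ x hy0
  rw [h _ hK (r + 1) (by omega) w, Ext.zero_comp]

theorem eq_zero_of_cohDimLEAt (ℓ : ℕ) (n : ℕ) (hcd : Dix.CohDimLEAt X ℓ n) (k : ℕ) (A : EtCoh.Ab X)
    (hA : ℓ ^ k • 𝟙 A = 0) (s : ℕ) (hs : n < s) (z : EtCoh.H X A s) : z = 0 :=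
  (hcd A (fun U t x => ⟨U, 𝟙 U, ⟨x, rfl⟩, k, by
    rw [op_id, CategoryTheory.Functor.map_id]
    exact ConcreteCategory.congr_hom (congrArg (fun m => m.hom.app (op U)) hA) t⟩) s hs).elim _ _

theorem primary_torsion_H_Gm (ℓ : ℕ) (hℓ : ℓ.Prime) (n : ℕ) (hcd : Dix.CohDimLEAt X ℓ n) :
    (∀ i : ℕ, n + 1 < i → ∀ ξ : EtCoh.H X (EtCoh.Gm X) i, (∃ k : ℕ, ℓ ^ k • ξ = 0) → ξ = 0) ∧
      (Dix.InvertibleOn X ℓ → ∀ i : ℕ, n < i → ∀ ξ : EtCoh.H X (EtCoh.Gm X) i, (∃ k : ℕ, ℓ ^ k • ξ = 0) → ξ = 0) := by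
  refine ⟨fun i hi ξ ⟨k, hk⟩ => eq_zero_of_killed_vanishing (ℓ ^ k) n
    (fun A hA s hs z => eq_zero_of_cohDimLEAt ℓ n hcd k A hA s hs z) _ i hi ξ hk, fun hinv i hi ξ ⟨k, hk⟩ => ?_⟩
  have hE : Epi (EtCoh.powMap X (ℓ ^ k)) := S0108.result X (ℓ ^ k) (by
    rw [Nat.cast_pow]
    exact (isUnit_natCast_of_invertibleOn ℓ hinv).pow k)
  obtain ⟨(y : EtCoh.H X (EtCoh.mu X (ℓ ^ k)) i), hy⟩ :
      ξ ∈ Set.range ⇑((EtCoh.HF X i).map (EtCoh.muι X (ℓ ^ k))) := by rw [range_map_mu _ hE]; exact hk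
  have hμ : ℓ ^ k • 𝟙 (EtCoh.mu X (ℓ ^ k)) = 0 := by
    haveI : Mono (EtCoh.muι X (ℓ ^ k)) := inferInstanceAs (Mono (kernel.ι (EtCoh.powMap X (ℓ ^ k))))
    refine (cancel_mono (EtCoh.muι X (ℓ ^ k))).1 ?_
    rw [zero_comp, Preadditive.nsmul_comp, Category.id_comp, ← Category.comp_id (EtCoh.muι X (ℓ ^ k)),
      ← Preadditive.comp_nsmul]
    exact kernel.condition _
  rw [eq_zero_of_cohDimLEAt ℓ n hcd k _ hμ i hi y] at hy
  exact hy.symm.trans (map_zero _)


/-- The constant sheaf functor. -/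
abbrev constSh (X : Scheme.{u}) : AddCommGrpCat.{u + 1} ⥤ EtCoh.Ab X :=
  constantSheaf X.smallEtaleTopology AddCommGrpCat.{u + 1}

/-- A natural set-theoretic section of a surjection of constant sheaves. -/
theorem exists_natural_section {B D : AddCommGrpCat.{u + 1}} (g : B ⟶ D) (hg : Function.Surjective g) :
    ∃ t : ∀ V : X.Etale, ((constSh X).obj D).obj.obj (op V) → ((constSh X).obj B).obj.obj (op V),
      (∀ V y, ((constSh X).map g).hom.app (op V) (t V y) = y) ∧
      ∀ {V W : X.Etale} (f : W ⟶ V) y, ((constSh X).obj B).obj.map f.op (t V y) =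
        t W (((constSh X).obj D).obj.map f.op y) := by
  let Fg := forget AddCommGrpCat.{u + 1}
  let e := constantCommuteCompose X.smallEtaleTopology Fg
  let σ : Fg.obj D ⟶ Fg.obj B := ↾(Function.surjInv hg)
  have hσ : σ ≫ Fg.map g = 𝟙 _ := by
    ext y
    exact Function.surjInv_eq hg y
  let τ : (sheafCompose X.smallEtaleTopology Fg).obj ((constSh X).obj D) ⟶ (sheafCompose X.smallEtaleTopology Fg).obj ((constSh X).obj B) :=
    e.hom.app D ≫ (constantSheaf X.smallEtaleTopology (Type (u + 1))).map σ ≫ e.inv.app B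
  have hn := e.inv.naturality g
  have hτ : τ ≫ (sheafCompose X.smallEtaleTopology Fg).map ((constSh X).map g) = 𝟙 _ := by
    show τ ≫ (constantSheaf X.smallEtaleTopology AddCommGrpCat.{u + 1} ⋙ sheafCompose X.smallEtaleTopology Fg).map g = 𝟙 _
    simp only [τ, Category.assoc, ← hn]
    dsimp
    rw [← Functor.map_comp_assoc, hσ, CategoryTheory.Functor.map_id, Category.id_comp]
    exact e.hom_inv_id_app D
  refine ⟨fun V y => τ.hom.app (op V) y, fun V y => ?_, fun {V W} f y => ?_⟩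
  · exact congrArg (fun t => t.hom.app (op V) y) hτ
  · exact (congr($(τ.hom.naturality f.op) y)).symm

theorem exists_lift {B D : AddCommGrpCat.{u + 1}} (g : B ⟶ D) (hg : Function.Surjective g)
    (φ : (constSh X).obj (AddCommGrpCat.of (ULift.{u + 1} ℤ)) ⟶ (constSh X).obj D) :
    ∃ ψ : (constSh X).obj (AddCommGrpCat.of (ULift.{u + 1} ℤ)) ⟶ (constSh X).obj B,
      ψ ≫ (constSh X).map g = φ := by
  obtain ⟨t, ht, ht'⟩ := exists_natural_section g hg
  let adj := sheafificationAdjunction X.smallEtaleTopology AddCommGrpCat.{u + 1}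
  let P : X.Etaleᵒᵖ ⥤ AddCommGrpCat.{u + 1} := (Functor.const X.Etaleᵒᵖ).obj (AddCommGrpCat.of (ULift.{u + 1} ℤ))
  let φ' : P ⟶ ((constSh X).obj D).obj := adj.homEquiv P _ φ
  let ψ' : P ⟶ ((constSh X).obj B).obj :=
    { app := fun V => (AddCommGrpCat.uliftZMultiplesAddEquiv _).symm
        (t V.unop (φ'.app V (ULift.up 1)))
      naturality := fun V W f => by
        apply (AddCommGrpCat.uliftZMultiplesAddEquiv _).injective
        show (AddCommGrpCat.uliftZMultiplesAddEquiv _).symm (t W.unop (φ'.app W (ULift.up 1)))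
            (ULift.up 1) = ((constSh X).obj B).obj.map f
            ((AddCommGrpCat.uliftZMultiplesAddEquiv _).symm (t V.unop (φ'.app V (ULift.up 1)))
              (ULift.up 1))
        have e1 : ∀ (X : AddCommGrpCat.{u + 1}) (x : X),
            (AddCommGrpCat.uliftZMultiplesAddEquiv X).symm x (ULift.up 1) = x := fun X x =>
          (AddCommGrpCat.uliftZMultiplesAddEquiv X).apply_symm_apply x
        rw [e1, e1]
        refine Eq.trans ?_ (ht' f.unop _).symm
        exact congrArg (t W.unop) (congr($(φ'.naturality f) (ULift.up (1 : ℤ)))) }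
  refine ⟨(adj.homEquiv P _).symm ψ', (adj.homEquiv P _).injective ?_⟩
  refine (adj.homEquiv_naturality_right _ _).trans ?_
  rw [Equiv.apply_symm_apply]
  refine NatTrans.ext (funext fun V => ?_)
  apply (AddCommGrpCat.uliftZMultiplesAddEquiv _).injective
  show ((constSh X).map g).hom.app V
    ((AddCommGrpCat.uliftZMultiplesAddEquiv _).symm (t V.unop (φ'.app V (ULift.up 1))) (ULift.up 1)) =
      φ'.app V (ULift.up 1)
  have e1 : ∀ (X : AddCommGrpCat.{u + 1}) (x : X),
      (AddCommGrpCat.uliftZMultiplesAddEquiv X).symm x (ULift.up 1) = x := fun X x =>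
    (AddCommGrpCat.uliftZMultiplesAddEquiv X).apply_symm_apply x
  rw [e1]
  exact ht V.unop _


instance : PreservesFiniteLimits (constSh X) := by
  unfold constSh constantSheaf
  infer_instance

instance : PreservesFiniteColimits (constSh X) := by
  unfold constSh constantSheaf
  infer_instance

instance : (constSh X).Additive := Functor.additive_of_preserves_binary_products _

/-- The first cohomology of a field with torsion free constant coefficients vanishes. -/
theorem H1_const_torsionFree_eq_zero (k : Type u) [Field k] (M : Type) [AddCommGroup M] [IsAddTorsionFree M]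
    (x : EtCoh.H (Spec (CommRingCat.of k)) (EtCoh.const (Spec (CommRingCat.of k)) M) 1) : x = 0 := by
  obtain ⟨m, hm, hx⟩ := isOfFinAddOrder_iff_nsmul_eq_zero.1 (isOfFinAddOrder k _ 0 x)
  let A := AddCommGrpCat.of (ULift.{u + 1} M)
  let T : ShortComplex AddCommGrpCat.{u + 1} := ShortComplex.mk (m • 𝟙 A) (cokernel.π (m • 𝟙 A)) (cokernel.condition _)
  haveI : Mono (m • 𝟙 A) := (AddCommGrpCat.mono_iff_injective _).2 fun a b hab => by
    refine ULift.ext _ _ (IsAddTorsionFree.nsmul_right_injective hm.ne' ?_)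
    exact congrArg ULift.down (show m • a = m • b from hab)
  have hT : T.ShortExact := { exact := T.exact_of_g_is_cokernel (cokernelIsCokernel _) }
  have hS := hT.map_of_exact (constSh (Spec (CommRingCat.of k)))
  have hx' : x.comp (Ext.mk₀ (T.map (constSh (Spec (CommRingCat.of k)))).f) (add_zero 1) = 0 := by
    have e : (constSh (Spec (CommRingCat.of k))).map (m • 𝟙 A) = m • 𝟙 _ := by
      rw [Functor.map_nsmul, CategoryTheory.Functor.map_id]
    exact (congrArg (fun f => x.comp (Ext.mk₀ f) (add_zero 1)) e).trans ((comp_mk₀_nsmul_id m x).trans hx)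
  obtain ⟨y, rfl⟩ := Ext.covariant_sequence_exact₁ _ hS x hx' (zero_add 1)
  obtain ⟨φ, rfl⟩ := (Ext.mk₀_bijective _ _).2 y
  obtain ⟨ψ, hψ⟩ := exists_lift T.g ((AddCommGrpCat.epi_iff_surjective _).1 hT.epi_g) φ
  let S := T.map (constSh (Spec (CommRingCat.of k)))
  refine (congrArg (fun f => (Ext.mk₀ f).comp hS.extClass (zero_add 1))
    (hψ.symm : φ = (show _ ⟶ S.X₂ from ψ) ≫ S.g)).trans ?_
  refine (congrArg (fun z => Ext.comp z hS.extClass (zero_add 1))
    (Ext.mk₀_comp_mk₀ (show _ ⟶ S.X₂ from ψ) S.g).symm).trans ?_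
  refine (Ext.comp_assoc_of_second_deg_zero _ _ _ _).trans ?_
  exact (congrArg ((Ext.mk₀ (show _ ⟶ S.X₂ from ψ)).comp · (zero_add 1)) hS.comp_extClass).trans
    (Ext.comp_zero _ _ _ _ _)

/-- The first cohomology of the direct image from a point of torsion free constant coefficients vanishes. -/
theorem H1_push_const_torsionFree (k : Type u) [Field k] (f : Spec (CommRingCat.of k) ⟶ X) (M : Type) [AddCommGroup M]
    [IsAddTorsionFree M] (x : EtCoh.H X ((EtCoh.push f).obj (EtCoh.const (Spec (CommRingCat.of k)) M)) 1) : x = 0 := by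
  refine transpose_one_eq_zero (EtCoh.pullPushAdj f) _ _ x ?_
  let y := ExtAdj.transpose (EtCoh.pullPushAdj f) (EtCoh.const X ℤ) (EtCoh.const (Spec (CommRingCat.of k)) M) 1 x
  have h : (Ext.mk₀ (EtCore.pullConst f ℤ).inv).comp y (zero_add 1) = 0 := H1_const_torsionFree_eq_zero k M _
  have := congrArg (fun z => (Ext.mk₀ (EtCore.pullConst f ℤ).hom).comp z (zero_add 1)) h
  simpa only [y, Ext.comp_zero, Ext.mk₀_comp_mk₀_assoc, Iso.hom_inv_id, Ext.mk₀_id_comp] using this

end Groth.Agent.EtTraceLib
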