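import Groth.Prelude.Def_EtLim
import Groth.Agent.ASp.ChartDim
import Groth.Agent.ASp.RedSub
import Groth.Agent.EtTraceLib.CyclicSeq

/-!
# The generic fibre of an integral étale scheme over an integral scheme
-/

set_option autoImplicit false
set_option backward.isDefEq.respectTransparency false
set_option backward.isDefEq.respectTransparency.types false
set_option linter.style.haveILetI false
set_option maxHeartbeats 1000000

universe u

open CategoryTheory CategoryTheory.Limits AlgebraicGeometry Opposite

noncomputable section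

namespace Groth.Agent.EtTraceLib

open EtPtsLib

section Integral

variable {A B C : Scheme.{u}} [IsIntegral A] [IsIntegral B] [IsIntegral C]

theorem map_genericPoint_of_etale (g : A ⟶ B) [AlgebraicGeometry.Etale g] :
    g (genericPoint A) = genericPoint B := by
  obtain ⟨z, hz⟩ : genericPoint B ∈ Set.range g :=
    ((genericPoint_spec B).mem_open_set_iff g.isOpenMap.isOpen_range).2
      ⟨g (genericPoint A), Set.mem_univ _, ⟨_, rfl⟩⟩
  have h : g (genericPoint A) ⤳ genericPoint B :=
    hz ▸ (genericPoint_specializes z).map g.continuous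
  exact (h.antisymm (genericPoint_specializes _)).eq

/-- The extension of function fields along an étale morphism of integral schemes. -/
def ffEt (g : A ⟶ B) [AlgebraicGeometry.Etale g] : B.functionField ⟶ A.functionField :=
  B.presheaf.stalkSpecializes (Inseparable.of_eq (map_genericPoint_of_etale g)).specializes ≫
    g.stalkMap (genericPoint A)

theorem ffEt_germ (g : A ⟶ B) [AlgebraicGeometry.Etale g] {U : B.Opens} (hU : genericPoint B ∈ U) (b : Γ(B, U)) :
    ffEt g (B.presheaf.germ U _ hU b) = A.presheaf.germ (g ⁻¹ᵁ U) (genericPoint A)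
      (show g (genericPoint A) ∈ U from (map_genericPoint_of_etale g).symm ▸ hU) (g.app U b) := by
  rw [ffEt, CommRingCat.comp_apply]
  erw [B.presheaf.germ_stalkSpecializes_apply hU (Inseparable.of_eq (map_genericPoint_of_etale g)).specializes b]
  exact Scheme.Hom.germ_stalkMap_apply g U (genericPoint A) _ b

theorem ffEt_comp (g : A ⟶ B) (h : B ⟶ C) (k : A ⟶ C) [AlgebraicGeometry.Etale g] [AlgebraicGeometry.Etale h]
    [AlgebraicGeometry.Etale k] (e : g ≫ h = k) : ffEt k = ffEt h ≫ ffEt g := by
  subst e
  refine CommRingCat.hom_ext (RingHom.ext fun a => ?_)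
  obtain ⟨O, hO, b, rfl⟩ := C.presheaf.exists_germ_eq a
  show ffEt (g ≫ h) (C.presheaf.germ O _ hO b) = ffEt g (ffEt h (C.presheaf.germ O _ hO b))
  rw [ffEt_germ, ffEt_germ, ffEt_germ]
  rfl

theorem SpecMap_ffEt (g : A ⟶ B) [AlgebraicGeometry.Etale g] :
    Spec.map (ffEt g) ≫ B.fromSpecStalk (genericPoint B) = A.fromSpecStalk (genericPoint A) ≫ g := by
  refine ((congrArg (fun m => m ≫ B.fromSpecStalk (genericPoint B)) (Spec.map_comp _ _)).trans
    (Category.assoc _ _ _)).trans ?_
  rw [Scheme.SpecMap_stalkSpecializes_fromSpecStalk, Scheme.SpecMap_stalkMap_fromSpecStalk]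

end Integral

/-- The morphism from the spectrum of the function field to the base. -/
abbrev jη (X : Scheme.{u}) [IsIntegral X] : Spec (X.presheaf.stalk (genericPoint X)) ⟶ X :=
  X.fromSpecStalk (genericPoint X)

variable {X : Scheme.{u}} [IsIntegral X]

/-- The structure morphism. -/
abbrev str {X : Scheme.{u}} (U : X.Etale) : U.left ⟶ X := U.hom

instance etale_str (U : X.Etale) : AlgebraicGeometry.Etale (str U) := U.prop

variable (U : X.Etale) [IsIntegral U.left]

/-- The generic point of the generic fibre. -/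
def genLift : Spec U.left.functionField ⟶ ((EtCoh.bc (jη X)).obj U).left :=
  pullback.lift (U.left.fromSpecStalk (genericPoint U.left)) (Spec.map (ffEt (str U))) (SpecMap_ffEt (str U)).symm

theorem genLift_fst : genLift U ≫ (pullback.fst (str U) (jη X) : ((EtCoh.bc (jη X)).obj U).left ⟶ U.left) =
    U.left.fromSpecStalk (genericPoint U.left) :=
  pullback.lift_fst _ _ _

theorem genLift_snd : genLift U ≫ (pullback.snd (str U) (jη X) : ((EtCoh.bc (jη X)).obj U).left ⟶ _) =
    Spec.map (ffEt (str U)) :=
  pullback.lift_snd _ _ _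

theorem genLift_map {V : X.Etale} [IsIntegral V.left] (g : V ⟶ U) :
    haveI := etale_left g
    genLift V ≫ ((EtCoh.bc (jη X)).map g).left = Spec.map (ffEt g.left) ≫ genLift U := by
  haveI := etale_left g
  have hw : g.left ≫ str U = str V := Over.w g.hom
  have e1 : ((EtCoh.bc (jη X)).map g).left ≫ pullback.fst (str U) (jη X) =
      (pullback.fst (str V) (jη X) : ((EtCoh.bc (jη X)).obj V).left ⟶ V.left) ≫ g.left :=
    (EtCoh.isPullback_bc_map (jη X) g).w
  have e2 : ((EtCoh.bc (jη X)).map g).left ≫ pullback.snd (str U) (jη X) =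
      (pullback.snd (str V) (jη X) : ((EtCoh.bc (jη X)).obj V).left ⟶ _) := by
    dsimp [EtCoh.bc]
    exact pullback.lift_snd _ _ _
  have hcomp : ffEt (str V) = ffEt (str U) ≫ ffEt g.left := ffEt_comp g.left (str U) (str V) hw
  refine pullback.hom_ext ?_ ?_
  · refine ((Category.assoc _ _ _).trans ((congrArg (genLift V ≫ ·) e1).trans
      ((Category.assoc _ _ _).symm.trans (congrArg (· ≫ g.left) (genLift_fst V))))).trans ?_
    exact ((Category.assoc _ _ _).trans ((congrArg (Spec.map (ffEt g.left) ≫ ·) (genLift_fst U)).trans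
      (SpecMap_ffEt g.left))).symm
  · refine ((Category.assoc _ _ _).trans ((congrArg (genLift V ≫ ·) e2).trans (genLift_snd V))).trans ?_
    exact ((Category.assoc _ _ _).trans ((congrArg (Spec.map (ffEt g.left) ≫ ·) (genLift_snd U)).trans
      ((Spec.map_comp _ _).symm.trans (congrArg Spec.map hcomp.symm)))).symm

/-- Functions on the generic fibre, evaluated at the generic point. -/
def ρR : Γ(((EtCoh.bc (jη X)).obj U).left, ⊤) →+* U.left.functionField :=
  ((genLift U).appTop ≫ (Scheme.ΓSpecIso U.left.functionField).hom).hom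

theorem ρR_map {V : X.Etale} [IsIntegral V.left] (g : V ⟶ U) (s : Γ(((EtCoh.bc (jη X)).obj U).left, ⊤)) :
    haveI := etale_left g
    ρR V (((EtCoh.bc (jη X)).map g).left.appTop s) = ffEt g.left (ρR U s) := by
  haveI := etale_left g
  have h := congrArg (fun m => (Scheme.Hom.appTop m ≫ (Scheme.ΓSpecIso V.left.functionField).hom)) (genLift_map U g)
  simp only [Scheme.Hom.comp_appTop, Category.assoc, Scheme.ΓSpecIso_naturality] at h
  exact ConcreteCategory.congr_hom h s

theorem fromSpecStalk_appTop (x : U.left) (a : Γ(U.left, ⊤)) :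
    (Scheme.ΓSpecIso (U.left.presheaf.stalk x)).hom ((U.left.fromSpecStalk x).appTop a) =
      U.left.presheaf.germ ⊤ x trivial a := by
  have h : (U.left.fromSpecStalk x).appTop ≫ (Scheme.ΓSpecIso (U.left.presheaf.stalk x)).hom =
      U.left.presheaf.germ ⊤ x trivial := by
    rw [Scheme.fromSpecStalk_appTop]
    simp
  exact ConcreteCategory.congr_hom h a

theorem ρR_fst (a : Γ(U.left, ⊤)) :
    ρR U ((pullback.fst (str U) (jη X) : ((EtCoh.bc (jη X)).obj U).left ⟶ U.left).appTop a) =
      U.left.presheaf.germ ⊤ (genericPoint U.left) trivial a := by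
  refine Eq.trans ?_ (fromSpecStalk_appTop U (genericPoint U.left) a)
  show (Scheme.ΓSpecIso U.left.functionField).hom ((genLift U).appTop
    ((pullback.fst (str U) (jη X) : ((EtCoh.bc (jη X)).obj U).left ⟶ U.left).appTop a)) = _
  rw [← genLift_fst U, Scheme.Hom.comp_appTop]
  rfl

theorem fst_eq_genericPoint (w : ((EtCoh.bc (jη X)).obj U).left) :
    (pullback.fst (str U) (jη X) : ((EtCoh.bc (jη X)).obj U).left ⟶ U.left) w = genericPoint U.left := by
  set p := (pullback.fst (str U) (jη X) : ((EtCoh.bc (jη X)).obj U).left ⟶ U.left) w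
  have h1 : str U p ⤳ genericPoint X := by
    have h2 : str U p = jη X ((pullback.snd (str U) (jη X) : ((EtCoh.bc (jη X)).obj U).left ⟶ _) w) := by
      exact congrArg (fun m : ((EtCoh.bc (jη X)).obj U).left ⟶ X => m w) pullback.condition
    have hr : str U p ∈ Set.range (jη X) := ⟨_, h2.symm⟩
    rw [Scheme.range_fromSpecStalk] at hr
    exact hr
  refine (ASp.isGenLift_of_etale (str U)).eq_of_specializes ?_ (genericPoint_specializes p)
  rw [map_genericPoint_of_etale]
  exact (h1.antisymm (genericPoint_specializes _)).eq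

theorem genLift_surjective : Function.Surjective (genLift U) := by
  intro w
  refine ⟨IsLocalRing.closedPoint _, ?_⟩
  haveI : IsPreimmersion (jη X) := inferInstanceAs (IsPreimmersion (X.fromSpecStalk _))
  haveI : IsPreimmersion (pullback.fst (str U) (jη X)) := MorphismProperty.pullback_fst _ _ inferInstance
  apply (pullback.fst (str U) (jη X) : ((EtCoh.bc (jη X)).obj U).left ⟶ U.left).isEmbedding.injective
  rw [fst_eq_genericPoint U w, fst_eq_genericPoint U]

theorem ρR_injective : Function.Injective (ρR U) := by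
  haveI : IsReduced (Spec (X.presheaf.stalk (genericPoint X))) := inferInstanceAs (IsReduced (Spec X.functionField))
  haveI : IsReduced ((EtCoh.bc (jη X)).obj U).left :=
    ASp.isReduced_of_etale (str ((EtCoh.bc (jη X)).obj U))
  refine (injective_iff_map_eq_zero (ρR U)).2 fun f hf => ?_
  rw [← basicOpen_eq_bot_iff]
  have h0 : (genLift U).appTop f = 0 := by
    refine (Scheme.ΓSpecIso U.left.functionField).commRingCatIsoToRingEquiv.injective ?_
    rw [map_zero]
    exact hf
  have h1 : (genLift U) ⁻¹ᵁ ((EtCoh.bc (jη X)).obj U).left.basicOpen f = ⊥ := by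
    rw [Scheme.preimage_basicOpen_top, h0, Scheme.basicOpen_zero]
  refine eq_bot_iff.2 fun w hw => ?_
  obtain ⟨z, rfl⟩ := genLift_surjective U w
  have hz : z ∈ (genLift U) ⁻¹ᵁ ((EtCoh.bc (jη X)).obj U).left.basicOpen f := hw
  rw [h1] at hz
  exact hz

theorem ρR_surjective : Function.Surjective (ρR U) := by
  intro c
  obtain ⟨O', hO, a, rfl⟩ := U.left.presheaf.exists_germ_eq c
  let O : U.left.Opens := O'
  let p : ((EtCoh.bc (jη X)).obj U).left ⟶ U.left := pullback.fst (str U) (jη X)
  have hp : Set.range p ⊆ Set.range O.ι := by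
    rintro _ ⟨w, rfl⟩
    rw [Scheme.Opens.range_ι, show p w = genericPoint U.left from fst_eq_genericPoint U w]
    exact hO
  let q : ((EtCoh.bc (jη X)).obj U).left ⟶ O.toScheme := IsOpenImmersion.lift O.ι p hp
  have hq : q ≫ O.ι = p := IsOpenImmersion.lift_fac _ _ hp
  refine ⟨q.appTop (O.topIso.inv a), ?_⟩
  let gO : O.toScheme := ⟨genericPoint U.left, hO⟩
  have hgl : genLift U ≫ q = Spec.map (O.stalkIso gO).hom ≫ O.toScheme.fromSpecStalk gO := by
    rw [← cancel_mono O.ι, Category.assoc, hq, genLift_fst, Category.assoc]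
    have h2 : Spec.map (O.ι.stalkMap gO) ≫ U.left.fromSpecStalk (genericPoint U.left) =
        O.toScheme.fromSpecStalk gO ≫ O.ι := Scheme.SpecMap_stalkMap_fromSpecStalk O.ι (x := gO)
    rw [← h2, ← Category.assoc, ← Spec.map_comp, ← Scheme.Opens.stalkIso_inv]
    simp
    exact (Category.id_comp _).symm
  show (Scheme.ΓSpecIso U.left.functionField).hom ((genLift U).appTop (q.appTop (O.topIso.inv a))) = _
  have h3 := ConcreteCategory.congr_hom (congrArg
    (fun m : Spec U.left.functionField ⟶ O.toScheme => m.appTop ≫ (Scheme.ΓSpecIso U.left.functionField).hom) hgl)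
    (O.topIso.inv a)
  simp only [Scheme.Hom.comp_appTop, Category.assoc, Scheme.ΓSpecIso_naturality, Scheme.fromSpecStalk_appTop] at h3
  refine h3.trans ?_
  simp [← CommRingCat.comp_apply]
  rfl

theorem ρR_bijective : Function.Bijective (ρR U) := ⟨ρR_injective U, ρR_surjective U⟩

/-- The global function underlying a section of `G_m`. -/
def gmVal {Y : Scheme.{u}} (V : Y.Etale) (a : EtCoh.sect (EtCoh.Gm Y) V) : (Γ(V.left, ⊤) : Type u)ˣ :=
  Additive.toMul (a : ULift.{u + 1} (Additive (Γ(V.left, ⊤) : Type u)ˣ)).down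

/-- A section of `j_* G_m` as a nonzero rational function. -/
def ρ : EtCoh.sect ((EtCoh.push (jη X)).obj (EtCoh.Gm (Spec (X.presheaf.stalk (genericPoint X))))) U →+
    Additive (U.left.functionField)ˣ :=
  AddMonoidHom.mk' (fun s => Additive.ofMul (Units.map (ρR U).toMonoidHom (Additive.toMul
    (s : ULift.{u + 1} (Additive (Γ(((EtCoh.bc (jη X)).obj U).left, ⊤) : Type u)ˣ)).down))) fun s t => by
      rw [← ofMul_mul, ← map_mul]
      rfl

theorem ρ_injective : Function.Injective (ρ U) := fun s t h => by
  have h1 := Units.map_injective (f := (ρR U).toMonoidHom) (ρR_injective U) (Additive.ofMul.injective h)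
  exact ULift.ext _ _ (Additive.toMul.injective h1)

theorem ρ_surjective : Function.Surjective (ρ U) := fun c =>
  ⟨(ULift.up (Additive.ofMul ((Units.mapEquiv (RingEquiv.ofBijective (ρR U) (ρR_bijective U)).toMulEquiv).symm
      (Additive.toMul c))) : ULift.{u + 1} (Additive (Γ(((EtCoh.bc (jη X)).obj U).left, ⊤) : Type u)ˣ)),
    congrArg Additive.ofMul ((Units.mapEquiv (RingEquiv.ofBijective (ρR U) (ρR_bijective U)).toMulEquiv).apply_symm_apply
      (Additive.toMul c))⟩

/-- The rational function of a section of `j_* G_m`. -/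
def ρval (s : EtCoh.sect ((EtCoh.push (jη X)).obj (EtCoh.Gm (Spec (X.presheaf.stalk (genericPoint X))))) U) :
    U.left.functionField :=
  ((Additive.toMul (ρ U s) : (U.left.functionField : Type u)ˣ) : U.left.functionField)

theorem ρval_ne_zero (s : EtCoh.sect ((EtCoh.push (jη X)).obj (EtCoh.Gm (Spec (X.presheaf.stalk (genericPoint X))))) U) :
    ρval U s ≠ 0 := Units.ne_zero _

theorem ρval_add (s t : EtCoh.sect ((EtCoh.push (jη X)).obj (EtCoh.Gm (Spec (X.presheaf.stalk (genericPoint X))))) U) :
    ρval U (s + t) = ρval U s * ρval U t := by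
  rw [ρval, map_add]
  rfl

theorem ρval_injective : Function.Injective (ρval U) := fun _ _ h =>
  ρ_injective U (Additive.toMul.injective (Units.ext h))

theorem exists_ρval_eq {c : U.left.functionField} (hc : c ≠ 0) : ∃ s, ρval U s = c := by
  obtain ⟨s, hs⟩ := ρ_surjective U (Additive.ofMul (Units.mk0 c hc))
  exact ⟨s, by rw [ρval, hs]; rfl⟩

theorem ρval_map {V : X.Etale} [IsIntegral V.left] (g : V ⟶ U)
    (s : EtCoh.sect ((EtCoh.push (jη X)).obj (EtCoh.Gm (Spec (X.presheaf.stalk (genericPoint X))))) U) :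
    haveI := etale_left g
    ρval V (((EtCoh.push (jη X)).obj (EtCoh.Gm _)).obj.map g.op s) = ffEt g.left (ρval U s) :=
  ρR_map U g _

theorem ρval_GmPush (a : EtCoh.sect (EtCoh.Gm X) U) :
    ρval U ((EtLim.GmPush (jη X)).hom.app (op U) a) =
      U.left.presheaf.germ ⊤ (genericPoint U.left) trivial (gmVal U a : Γ(U.left, ⊤)) :=
  ρR_fst U _

end Groth.Agent.EtTraceLib
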