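import Groth.Agent.EtTraceLib.Hilbert90
import Groth.Agent.FLCLib.Ops
import Mathlib.RingTheory.Flat.Basic
import Mathlib.RingTheory.Localization.Away.Basic

/-!
# Classes in `H^1(X, G_m)` are Zariski locally trivial
-/

set_option autoImplicit false
set_option backward.isDefEq.respectTransparency false
set_option backward.isDefEq.respectTransparency.types false
set_option linter.style.haveILetI false
set_option maxHeartbeats 1000000

universe u

open CategoryTheory CategoryTheory.Limits AlgebraicGeometry Opposite CategoryTheory.Abelian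
open scoped TensorProduct

noncomputable section

namespace Groth.Agent.EtTraceLib

open EtPtsLib

section Ring

variable (A B : Type u) [CommRing A] [CommRing B] [Algebra A B] [Module.Flat A B]

/-- The projections of `B ⊗ B` to `B ⊗ B ⊗ B`. -/
def p12 : B ⊗[A] B →ₐ[A] B ⊗[A] (B ⊗[A] B) :=
  Algebra.TensorProduct.lift Algebra.TensorProduct.includeLeft
    (Algebra.TensorProduct.includeRight.comp Algebra.TensorProduct.includeLeft) fun _ _ => Commute.all _ _

/-- The projections of `B ⊗ B` to `B ⊗ B ⊗ B`. -/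
def p13 : B ⊗[A] B →ₐ[A] B ⊗[A] (B ⊗[A] B) :=
  Algebra.TensorProduct.lift Algebra.TensorProduct.includeLeft
    (Algebra.TensorProduct.includeRight.comp Algebra.TensorProduct.includeRight) fun _ _ => Commute.all _ _

/-- The projections of `B ⊗ B` to `B ⊗ B ⊗ B`. -/
def p23 : B ⊗[A] B →ₐ[A] B ⊗[A] (B ⊗[A] B) :=
  Algebra.TensorProduct.includeRight

/-- A unit cocycle is a coboundary near a point. -/
theorem exists_trivializing (c : B ⊗[A] B) (hc : p23 A B c * p12 A B c = p13 A B c)
    (h1 : Algebra.TensorProduct.lmul' A (S := B) c = 1) (q : Ideal B) (hq : q ≠ ⊤) :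
    ∃ m : B, m ∉ q ∧ c * (m ⊗ₜ[A] (1 : B)) = (1 : B) ⊗ₜ[A] m := by
  let δ : B →ₗ[A] B ⊗[A] B :=
    (LinearMap.mulLeft A c).comp (Algebra.TensorProduct.includeLeft : B →ₐ[A] B ⊗[A] B).toLinearMap -
      (Algebra.TensorProduct.includeRight : B →ₐ[A] B ⊗[A] B).toLinearMap
  have hδ : ∀ z : B ⊗[A] B, LinearMap.lTensor B δ z = p23 A B c * p12 A B z - p13 A B z := by
    intro z
    induction z using TensorProduct.induction_on with
    | zero => simp
    | tmul b y =>
      rw [LinearMap.lTensor_tmul]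
      simp [δ, p12, p13, p23, TensorProduct.tmul_sub, Algebra.TensorProduct.tmul_mul_tmul]
    | add x y hx hy => rw [map_add, hx, hy, map_add, map_add, mul_add]; abel
  have hex : Function.Exact (LinearMap.lTensor B δ.ker.subtype) (LinearMap.lTensor B δ) :=
    Module.Flat.lTensor_exact B δ.exact_subtype_ker_map
  obtain ⟨w, hw⟩ := (hex c).1 (by rw [hδ, hc, sub_self])
  by_contra hall
  simp only [not_exists, not_and] at hall
  have hker : ∀ m : δ.ker, (m : B) ∈ q := fun m => by
    by_contra hm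
    exact hall m hm (sub_eq_zero.1 (LinearMap.mem_ker.1 m.2))
  have hμ : ∀ w : B ⊗[A] δ.ker, Algebra.TensorProduct.lmul' A (S := B) (LinearMap.lTensor B δ.ker.subtype w) ∈ q := by
    intro w
    induction w using TensorProduct.induction_on with
    | zero => simp
    | tmul b m =>
      rw [LinearMap.lTensor_tmul, Algebra.TensorProduct.lmul'_apply_tmul]
      exact q.mul_mem_left b (hker m)
    | add x y hx hy => rw [map_add, map_add]; exact q.add_mem hx hy
  have := hμ w
  rw [hw, h1] at this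
  exact hq ((Ideal.eq_top_iff_one _).2 this)

end Ring

variable {X : Scheme.{u}} {A : Type u} [CommRing A] (j : Spec (CommRingCat.of A) ⟶ X) [IsOpenImmersion j]

/-- An étale algebra over an affine open as an object of the small étale site. -/
def spObj (R : Type u) [CommRing R] [Algebra A R] [Algebra.Etale A R] : X.Etale :=
  haveI : AlgebraicGeometry.Etale (Spec.map (CommRingCat.ofHom (algebraMap A R))) := by
    rw [HasRingHomProperty.Spec_iff (P := @AlgebraicGeometry.Etale)]
    exact RingHom.etale_algebraMap.2 inferInstance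
  Scheme.Etale.mk (Spec.map (CommRingCat.ofHom (algebraMap A R)) ≫ j)

variable {R S T : Type u} [CommRing R] [Algebra A R] [Algebra.Etale A R] [CommRing S] [Algebra A S] [Algebra.Etale A S]
  [CommRing T] [Algebra A T] [Algebra.Etale A T]

/-- The morphism attached to an algebra map. -/
def spMap (φ : R →ₐ[A] S) : spObj j S ⟶ spObj j R :=
  MorphismProperty.Over.homMk (Spec.map (CommRingCat.ofHom φ.toRingHom)) (by
    show Spec.map _ ≫ (Spec.map _ ≫ j) = Spec.map _ ≫ j
    rw [← Category.assoc, ← Spec.map_comp]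
    exact congrArg (fun m => Spec.map m ≫ j) (CommRingCat.hom_ext (RingHom.ext fun a => φ.commutes a)))

theorem spMap_comp (φ : R →ₐ[A] S) (ψ : S →ₐ[A] T) : spMap j (ψ.comp φ) = spMap j ψ ≫ spMap j φ :=
  MorphismProperty.Over.Hom.ext (Spec.map_comp (CommRingCat.ofHom φ.toRingHom) (CommRingCat.ofHom ψ.toRingHom))

/-- A unit as a section of `G_m`. -/
def uSect (a : Rˣ) : EtCoh.sect (EtCoh.Gm X) (spObj j R) :=
  (ULift.up (Additive.ofMul (Units.map (Scheme.ΓSpecIso (CommRingCat.of R)).inv.hom.toMonoidHom a)) :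
    ULift.{u + 1} (Additive ((Γ(Spec (CommRingCat.of R), ⊤) : Type u)ˣ)))

theorem uSect_mul (a b : Rˣ) : uSect j (a * b) = uSect j a + uSect j b := by
  show (ULift.up _ : ULift.{u + 1} (Additive ((Γ(Spec (CommRingCat.of R), ⊤) : Type u)ˣ))) = _
  rw [map_mul]
  rfl

theorem uSect_bijective : Function.Bijective (uSect j (R := R)) := by
  refine (ULift.up_bijective.comp Additive.ofMul.bijective).comp ?_
  exact (Units.mapEquiv (Scheme.ΓSpecIso (CommRingCat.of R)).symm.commRingCatIsoToRingEquiv.toMulEquiv).bijective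

theorem map_spMap_uSect (φ : R →ₐ[A] S) (a : Rˣ) :
    (EtCoh.Gm X).obj.map (spMap j φ).op (uSect j a) = uSect j (Units.map φ.toRingHom.toMonoidHom a) := by
  show (ULift.up (Additive.ofMul (Units.map (Spec.map (CommRingCat.ofHom φ.toRingHom)).appTop.hom.toMonoidHom
      (Units.map (Scheme.ΓSpecIso (CommRingCat.of R)).inv.hom.toMonoidHom a))) :
    ULift.{u + 1} (Additive ((Γ(Spec (CommRingCat.of S), ⊤) : Type u)ˣ))) = _
  refine congrArg (fun z => ULift.up (Additive.ofMul z)) (Units.ext ?_)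
  exact (ConcreteCategory.congr_hom (Scheme.ΓSpecIso_inv_naturality (CommRingCat.ofHom φ.toRingHom)) (a : R)).symm

variable {B : Type u} [CommRing B] [Algebra A B] [Algebra.Etale A B]

/-- A lift over an affine étale covering can be corrected to a lift over an open neighbourhood. -/
theorem exists_lift_open {C : ShortComplex (EtCoh.Ab X)} (hC : C.ShortExact) (e : C.X₁ ≅ EtCoh.Gm X)
    (Q : EtCoh.sect C.X₃ (EtCoh.top X)) (t : EtCoh.sect C.X₂ (spObj j B))
    (ht : C.g.hom.app (op (spObj j B)) t = C.X₃.obj.map ((EtCore.topIsTerminal X).from (spObj j B)).op Q)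
    (p : PrimeSpectrum B) :
    ∃ U : X.Opens, (spObj j B).hom p ∈ U ∧ ∃ s : EtCoh.sect C.X₂ (openSub (EtCoh.top X) U),
      C.g.hom.app _ s = C.X₃.obj.map ((EtCore.topIsTerminal X).from (openSub (EtCoh.top X) U)).op Q := by
  haveI : Module.Flat A B := inferInstance
  haveI : Algebra.Etale A (B ⊗[A] B) := Algebra.Etale.comp A B (B ⊗[A] B)
  haveI : Algebra.Etale A (B ⊗[A] (B ⊗[A] B)) := Algebra.Etale.comp A B (B ⊗[A] (B ⊗[A] B))
  haveI := hC.mono_f
  let f' : EtCoh.Gm X ⟶ C.X₂ := e.inv ≫ C.f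
  haveI : Mono f' := mono_comp _ _
  have hinj : ∀ (W : X.Etale), Function.Injective (f'.hom.app (op W)) := fun W => by
    haveI : Mono (f'.hom.app (op W)) := inferInstanceAs (Mono
      ((sheafToPresheaf X.smallEtaleTopology AddCommGrpCat.{u + 1} ⋙ (evaluation _ _).obj (op W)).map f'))
    exact (AddCommGrpCat.mono_iff_injective _).1 inferInstance
  let iL : B →ₐ[A] B ⊗[A] B := Algebra.TensorProduct.includeLeft
  let iR : B →ₐ[A] B ⊗[A] B := Algebra.TensorProduct.includeRight
  let d := C.X₂.obj.map (spMap j iL).op t - C.X₂.obj.map (spMap j iR).op t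
  have hd : C.g.hom.app _ d = 0 := by
    rw [map_sub, sub_eq_zero, NatTrans.naturality_apply C.g.hom (spMap j iL).op t,
      NatTrans.naturality_apply C.g.hom (spMap j iR).op t, ht, ← Functor.map_comp_apply, ← Functor.map_comp_apply,
      ← op_comp, ← op_comp]
    exact congrArg (fun m => C.X₃.obj.map (Quiver.Hom.op m) Q) ((EtCore.topIsTerminal X).hom_ext _ _)
  obtain ⟨d₁, hd₁⟩ := exists_sect_preimage hC d hd
  obtain ⟨c, hc⟩ := (uSect_bijective j (R := B ⊗[A] B)).2 (e.hom.hom.app _ d₁)
  have hfc : f'.hom.app _ (uSect j c) = d := by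
    rw [hc, ← hd₁]
    exact ConcreteCategory.congr_hom (congrArg (fun m => m.hom.app (op (spObj j (B ⊗[A] B)))) (e.hom_inv_id_assoc C.f)) d₁
  have hnat : ∀ {R S : Type u} [CommRing R] [Algebra A R] [Algebra.Etale A R] [CommRing S] [Algebra A S] [Algebra.Etale A S]
      (φ : R →ₐ[A] S) (a : Rˣ), C.X₂.obj.map (spMap j φ).op (f'.hom.app _ (uSect j a)) =
        f'.hom.app _ (uSect j (Units.map φ.toRingHom.toMonoidHom a)) := fun {R S} _ _ _ _ _ _ φ a => by
    rw [← map_spMap_uSect]
    exact (NatTrans.naturality_apply f'.hom (spMap j φ).op (uSect j a)).symm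
  have hpull : ∀ {S : Type u} [CommRing S] [Algebra A S] [Algebra.Etale A S] (φ : B ⊗[A] B →ₐ[A] S),
      f'.hom.app _ (uSect j (Units.map φ.toRingHom.toMonoidHom c)) =
        C.X₂.obj.map (spMap j (φ.comp iL)).op t - C.X₂.obj.map (spMap j (φ.comp iR)).op t := fun {S} _ _ _ φ => by
    rw [← hnat φ c, hfc, map_sub, spMap_comp, spMap_comp, op_comp, op_comp, Functor.map_comp_apply,
      Functor.map_comp_apply]
  have hcoc : p23 A B (c : B ⊗[A] B) * p12 A B (c : B ⊗[A] B) = p13 A B (c : B ⊗[A] B) := by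
    have h : Units.map (p23 A B).toRingHom.toMonoidHom c * Units.map (p12 A B).toRingHom.toMonoidHom c =
        Units.map (p13 A B).toRingHom.toMonoidHom c := by
      refine (uSect_bijective j).1 (hinj _ ?_)
      rw [uSect_mul, map_add, hpull, hpull, hpull]
      have e1 : (p23 A B).comp iL = (p12 A B).comp iR := AlgHom.ext fun b => by simp [p12, p23, iL, iR]
      have e2 : (p13 A B).comp iL = (p12 A B).comp iL := AlgHom.ext fun b => by simp [p12, p13, iL]
      have e3 : (p13 A B).comp iR = (p23 A B).comp iR := AlgHom.ext fun b => by simp [p23, p13, iR]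
      rw [e1, e2, e3]
      abel
    exact congrArg Units.val h
  have h1 : Algebra.TensorProduct.lmul' A (S := B) (c : B ⊗[A] B) = 1 := by
    have h : Units.map (Algebra.TensorProduct.lmul' A (S := B)).toRingHom.toMonoidHom c = 1 := by
      refine (uSect_bijective j).1 (hinj _ ?_)
      rw [hpull]
      have e1 : (Algebra.TensorProduct.lmul' A (S := B)).comp iL = (Algebra.TensorProduct.lmul' A (S := B)).comp iR :=
        AlgHom.ext fun b => by simp [iL, iR]
      have h0 : uSect j (1 : Bˣ) = 0 := by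
        have := uSect_mul j (1 : Bˣ) 1
        rwa [one_mul, left_eq_add] at this
      rw [e1, sub_self, h0, map_zero]
    exact congrArg Units.val h
  obtain ⟨m, hm, hcm⟩ := exists_trivializing A B (c : B ⊗[A] B) hcoc h1 p.asIdeal p.isPrime.ne_top
  let B' := Localization.Away m
  let loc : B →ₐ[A] B' := IsScalarTower.toAlgHom A B B'
  haveI : Algebra.Etale A (B' ⊗[A] B') := Algebra.Etale.comp A B' (B' ⊗[A] B')
  let β : B'ˣ := (IsLocalization.map_units B' (⟨m, Submonoid.mem_powers m⟩ : Submonoid.powers m)).unit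
  let L : B' →ₐ[A] B' ⊗[A] B' := Algebra.TensorProduct.includeLeft
  let R' : B' →ₐ[A] B' ⊗[A] B' := Algebra.TensorProduct.includeRight
  let ll : B ⊗[A] B →ₐ[A] B' ⊗[A] B' := Algebra.TensorProduct.map loc loc
  have hllL : ll.comp iL = L.comp loc := AlgHom.ext fun b => by simp [ll, iL, L]
  have hllR : ll.comp iR = R'.comp loc := AlgHom.ext fun b => by simp [ll, iR, R']
  have hu : Units.map ll.toRingHom.toMonoidHom c * Units.map L.toRingHom.toMonoidHom β =
      Units.map R'.toRingHom.toMonoidHom β := by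
    refine Units.ext ?_
    show ll c * L (algebraMap B B' m) = R' (algebraMap B B' m)
    rw [show L (algebraMap B B' m) = ll (m ⊗ₜ[A] (1 : B)) by simp [ll, L, loc],
      show R' (algebraMap B B' m) = ll ((1 : B) ⊗ₜ[A] m) by simp [ll, R', loc], ← map_mul, hcm]
  let t' := C.X₂.obj.map (spMap j loc).op t + f'.hom.app _ (uSect j β)
  have hsym : C.X₂.obj.map (spMap j L).op t' = C.X₂.obj.map (spMap j R').op t' := by
    simp only [t', map_add, hnat]
    rw [← hu, uSect_mul, map_add, hpull, hllL, hllR, spMap_comp, spMap_comp, op_comp, op_comp,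
      Functor.map_comp_apply, Functor.map_comp_apply]
    abel
  let V := spObj j B'
  haveI : AlgebraicGeometry.Etale V.hom := V.prop
  let O : X.Opens := ⟨Set.range V.hom, V.hom.isOpenMap.isOpen_range⟩
  refine ⟨O, ?_, ?_⟩
  · obtain ⟨p', hp'⟩ : ∃ p' : PrimeSpectrum B', PrimeSpectrum.comap (algebraMap B B') p' = p := by
      have : p ∈ Set.range (PrimeSpectrum.comap (algebraMap B B')) := by
        rw [PrimeSpectrum.localization_away_comap_range B' m]
        exact hm
      exact this
    refine ⟨p', ?_⟩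
    rw [← MorphismProperty.Over.w (spMap j loc), Scheme.Hom.comp_apply]
    exact congrArg (spObj j B).hom hp'
  let U := openSub (EtCoh.top X) O
  haveI hO : IsOpenImmersion O.ι := inferInstance
  have hr : Set.range V.hom ⊆ Set.range O.ι := by
    rintro _ ⟨v, rfl⟩
    exact ⟨⟨V.hom v, v, rfl⟩, rfl⟩
  let g : V ⟶ U := MorphismProperty.Over.homMk (IsOpenImmersion.lift O.ι V.hom hr) (by
    show IsOpenImmersion.lift O.ι V.hom hr ≫ O.ι ≫ 𝟙 X = V.hom
    rw [Category.comp_id, IsOpenImmersion.lift_fac])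
  have hcov : Sieve.generate (Presieve.singleton g) ∈ X.smallEtaleTopology U :=
    covering_of_points _ fun x => by
      obtain ⟨v, hv⟩ := x.2
      refine ⟨V, g, v, Sieve.le_generate _ _ _ ⟨⟩, O.ι.isOpenEmbedding.injective ?_⟩
      show O.ι (IsOpenImmersion.lift O.ι V.hom hr v) = x.1
      rw [← Scheme.Hom.comp_apply, IsOpenImmersion.lift_fac]
      exact hv
  have hs := (isSheaf_iff_isSheaf_of_type _ _).1
    ((Presheaf.isSheaf_iff_isSheaf_forget X.smallEtaleTopology C.X₂.obj (forget AddCommGrpCat.{u + 1})).1 C.X₂.property) _ hcov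
  rw [← Presieve.isSheafFor_iff_generate, Presieve.isSheafFor_singleton] at hs
  obtain ⟨s, hs', -⟩ := hs t' (fun {Z} a b _ => by
    let φ := Spec.map (CommRingCat.ofHom (algebraMap A B'))
    have hab : a.left ≫ φ = b.left ≫ φ := by
      rw [← cancel_mono j, Category.assoc, Category.assoc]
      exact (MorphismProperty.Over.w a).trans (MorphismProperty.Over.w b).symm
    let z : Z.left ⟶ Spec (CommRingCat.of (B' ⊗[A] B')) :=
      pullback.lift a.left b.left hab ≫ (pullbackSpecIso A B' B').hom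
    have hza : z ≫ Spec.map (CommRingCat.ofHom L.toRingHom) = a.left := by
      rw [Category.assoc]
      exact (congrArg (pullback.lift a.left b.left hab ≫ ·) (pullbackSpecIso_hom_fst A B' B')).trans (pullback.lift_fst _ _ _)
    have hzb : z ≫ Spec.map (CommRingCat.ofHom R'.toRingHom) = b.left := by
      rw [Category.assoc]
      exact (congrArg (pullback.lift a.left b.left hab ≫ ·) (pullbackSpecIso_hom_snd A B' B')).trans (pullback.lift_snd _ _ _)
    let zz : Z ⟶ spObj j (B' ⊗[A] B') := MorphismProperty.Over.homMk z (by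
      rw [← MorphismProperty.Over.w (spMap j L), ← Category.assoc]
      exact (congrArg (· ≫ V.hom) hza).trans (MorphismProperty.Over.w a))
    have ea : a = zz ≫ spMap j L := MorphismProperty.Over.Hom.ext hza.symm
    have eb : b = zz ≫ spMap j R' := MorphismProperty.Over.Hom.ext hzb.symm
    show C.X₂.obj.map a.op t' = C.X₂.obj.map b.op t'
    rw [ea, eb, op_comp, op_comp, Functor.map_comp_apply, Functor.map_comp_apply, hsym])
  refine ⟨s, ?_⟩
  refine hs_sep g hcov C.X₃ _ _ ?_
  rw [← NatTrans.naturality_apply C.g.hom g.op s, ← Functor.map_comp_apply, ← op_comp]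
  refine (congrArg (C.g.hom.app (op V)) hs').trans ?_
  rw [map_add, NatTrans.naturality_apply C.g.hom (spMap j loc).op t, ht, ← Functor.map_comp_apply, ← op_comp]
  have h0 : C.g.hom.app (op V) (f'.hom.app (op V) (uSect j β)) = 0 :=
    ConcreteCategory.congr_hom (congrArg (fun m => m.hom.app (op V))
      (show f' ≫ C.g = 0 by rw [Category.assoc, C.zero, comp_zero])) (uSect j β)
  rw [h0, add_zero]
  exact congrArg (fun m => C.X₃.obj.map (Quiver.Hom.op m) Q) ((EtCore.topIsTerminal X).hom_ext _ _)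
where
  hs_sep {U V : X.Etale} (g : V ⟶ U) (hcov : Sieve.generate (Presieve.singleton g) ∈ X.smallEtaleTopology U)
      (F : EtCoh.Ab X) (a b : EtCoh.sect F U) (h : F.obj.map g.op a = F.obj.map g.op b) : a = b := by
    have hs := (isSheaf_iff_isSheaf_of_type _ _).1
      ((Presheaf.isSheaf_iff_isSheaf_forget X.smallEtaleTopology F.obj (forget AddCommGrpCat.{u + 1})).1 F.property) _ hcov
    rw [← Presieve.isSheafFor_iff_generate] at hs
    exact hs.isSeparatedFor.ext fun {Y} k hk => by cases hk; exact h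

/-- Classes in `H^1(X, G_m)` die on a Zariski neighbourhood of every point. -/
theorem H1_Gm_locally_trivial (α : EtCoh.H X (EtCoh.Gm X) 1) (x : X) :
    ∃ U : X.Opens, x ∈ U ∧ ∀ [PreservesFiniteLimits (EtCoh.pull U.ι)], EtCore.Hpull U.ι (EtCoh.Gm X) 1 α = 0 := by
  let S : ShortComplex (EtCoh.Ab X) :=
    ShortComplex.mk (Injective.ι (EtCoh.Gm X)) (cokernel.π (Injective.ι (EtCoh.Gm X))) (cokernel.condition _)
  have hS : S.ShortExact := { exact := S.exact_of_g_is_cokernel (cokernelIsCokernel _) }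
  obtain ⟨y, rfl⟩ : ∃ y : Ext (EtCoh.const X ℤ) S.X₃ 0, y.comp hS.extClass rfl = α :=
    Ext.covariant_sequence_exact₁ _ hS α (Ext.eq_zero_of_injective (I := S.X₂) _) rfl
  obtain ⟨b, rfl⟩ := (Ext.mk₀_bijective _ _).2 y
  let hT := EtCore.topIsTerminal X
  let Q := (constantSheafAdj X.smallEtaleTopology AddCommGrpCat.{u + 1} hT).homEquiv _ _ b (ULift.up.{u + 1} (1 : ℤ))
  haveI := hS.epi_g
  haveI : Sheaf.IsLocallySurjective S.g :=
    (Sheaf.isLocallySurjective_iff_epi' AddCommGrpCat.{u + 1} S.g).2 inferInstance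
  obtain ⟨U0, hU0, hxU, -⟩ := exists_isAffineOpen_mem_and_subset (X := X) (x := x) (U := ⊤) trivial
  let T := openSub (EtCoh.top X) U0
  obtain ⟨V, g, v, ⟨t, ht⟩, hv⟩ := exists_mem_of_covering
    (Presheaf.imageSieve_mem X.smallEtaleTopology S.g.hom (U := op T) (S.X₃.obj.map (hT.from T).op Q)) (⟨x, hxU⟩ : T.left)
  haveI := etale_left g
  obtain ⟨W0, hW0, hvW, -⟩ := exists_isAffineOpen_mem_and_subset (X := V.left) (x := v) (U := ⊤) trivial
  let A := Γ(X, U0)
  let j : Spec (CommRingCat.of A) ⟶ X := hU0.fromSpec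
  let q : Spec Γ(V.left, W0) ⟶ Spec Γ(X, U0) := hW0.fromSpec ≫ g.left ≫ hU0.isoSpec.hom
  obtain ⟨φ, hφ⟩ : ∃ φ : Γ(X, U0) ⟶ Γ(V.left, W0), Spec.map φ = q := ⟨_, Spec.map_preimage _⟩
  have het : AlgebraicGeometry.Etale (Spec.map φ) := by rw [hφ]; infer_instance
  rw [HasRingHomProperty.Spec_iff (P := @AlgebraicGeometry.Etale)] at het
  algebraize [φ.hom]
  haveI : Algebra.Etale Γ(X, U0) Γ(V.left, W0) := het
  let k : spObj j Γ(V.left, W0) ⟶ V := MorphismProperty.Over.homMk hW0.fromSpec (by
    show hW0.fromSpec ≫ V.hom = Spec.map φ ≫ hU0.fromSpec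
    rw [hφ, ← MorphismProperty.Over.w g]
    show hW0.fromSpec ≫ g.left ≫ U0.ι ≫ 𝟙 X = (hW0.fromSpec ≫ g.left ≫ hU0.isoSpec.hom) ≫ hU0.fromSpec
    rw [Category.comp_id, Category.assoc, Category.assoc]
    exact congrArg (hW0.fromSpec ≫ ·) (congrArg (g.left ≫ ·) (IsAffineOpen.isoSpec_hom hU0 ▸ (Iso.hom_inv_id_assoc hU0.isoSpec U0.ι).symm)))
  obtain ⟨p, hp⟩ : v ∈ Set.range hW0.fromSpec := by rw [hW0.range_fromSpec]; exact hvW
  obtain ⟨U, hU, s, hs⟩ := exists_lift_open j hS (Iso.refl _) Q (S.X₂.obj.map k.op t) (by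
    rw [NatTrans.naturality_apply S.g.hom k.op t, ht, ← Functor.map_comp_apply, ← Functor.map_comp_apply, ← op_comp,
      ← op_comp]
    exact congrArg (fun m => S.X₃.obj.map (Quiver.Hom.op m) Q) (hT.hom_ext _ _)) p
  refine ⟨U, ?_, ?_⟩
  · have e : (spObj j Γ(V.left, W0)).hom p = x := by
      rw [← MorphismProperty.Over.w k, Scheme.Hom.comp_apply]
      show V.hom (hW0.fromSpec p) = x
      rw [hp, ← MorphismProperty.Over.w g, Scheme.Hom.comp_apply]
      exact (congrArg T.hom hv).trans rfl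
    exact e ▸ hU
  intro _
  haveI : AlgebraicGeometry.Etale U.ι := inferInstance
  obtain ⟨c, hc⟩ := exists_pull_lift U.ι b (openSub (EtCoh.top X) U) (𝟙 _) (by
    show 𝟙 _ ≫ U.ι ≫ 𝟙 X = U.ι
    simp) s hs
  rw [hpull_eq_zero_iff, Ext.mapExactFunctor_comp, Ext.mapExactFunctor_mk₀, ← hc, ← Ext.mk₀_comp_mk₀,
    Ext.mapExactFunctor_extClass, Ext.comp_assoc_of_second_deg_zero]
  exact (congrArg (fun z => (Ext.mk₀ c).comp z rfl) (hS.map_of_exact (EtCoh.pull U.ι)).comp_extClass).trans
    (Ext.comp_zero _ _ _ _ _)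

end Groth.Agent.EtTraceLib
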