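import Groth.Agent.EtTraceLib.Coh
import Groth.Agent.EtH1Lib.Torsor
import Mathlib.RingTheory.Etale.Field

/-!
# Cohomology classes of a field are killed by finite separable extensions
-/

set_option autoImplicit false
set_option backward.isDefEq.respectTransparency false
set_option backward.isDefEq.respectTransparency.types false
set_option linter.style.haveILetI false
set_option maxHeartbeats 1000000

universe u

open CategoryTheory CategoryTheory.Limits AlgebraicGeometry Opposite CategoryTheory.Abelian

noncomputable section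

namespace Groth.Agent.EtTraceLib

open EtPtsLib

/-- Inverse image along an etale morphism is exact. -/
theorem preservesFiniteLimits_pull {U X : Scheme.{u}} (j : U ⟶ X) [AlgebraicGeometry.Etale j] :
    PreservesFiniteLimits (EtCoh.pull j) := by
  haveI := EtJCont.jCont j
  haveI : (EtShriek.restrAlong j).IsRightAdjoint := (EtShriek.extZeroAdj j).isRightAdjoint
  exact preservesFiniteLimits_of_natIso (pullIsoRestr j).symm

section Lift

variable {X U : Scheme.{u}} (j : U ⟶ X) [AlgebraicGeometry.Etale j]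

/-- A degree zero class lifts after inverse image when the corresponding section lifts on a scheme receiving `U`. -/
theorem exists_pull_lift {S : ShortComplex (EtCoh.Ab X)} (b : EtCoh.const X ℤ ⟶ S.X₃) (V : X.Etale)
    (h : U ⟶ V.left) (hh : h ≫ V.hom = j) (t : EtCoh.sect S.X₂ V)
    (ht : S.g.hom.app (op V) t = S.X₃.obj.map ((EtCore.topIsTerminal X).from V).op
      ((constantSheafAdj X.smallEtaleTopology AddCommGrpCat.{u + 1} (EtCore.topIsTerminal X)).homEquiv _ _ b
        (ULift.up.{u + 1} (1 : ℤ)))) :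
    ∃ c : (EtCoh.pull j).obj (EtCoh.const X ℤ) ⟶ (EtCoh.pull j).obj S.X₂,
      c ≫ (EtCoh.pull j).map S.g = (EtCoh.pull j).map b := by
  haveI := EtJCont.jCont j
  let T := (EtShriek.compEtale j).obj ((EtCoh.bc j).obj (EtCoh.top X))
  let A := constantSheafAdj X.smallEtaleTopology AddCommGrpCat.{u + 1} (EtCore.topIsTerminal X)
  let m : T ⟶ V := MorphismProperty.Over.homMk (pullback.snd (𝟙 X) j ≫ h) (by
    show (pullback.snd (𝟙 X) j ≫ h) ≫ V.hom = pullback.snd (𝟙 X) j ≫ j
    rw [Category.assoc, hh])
  let t' : ((EtCoh.push j).obj ((EtShriek.restrAlong j).obj S.X₂)).obj.obj (op (EtCoh.top X)) := S.X₂.obj.map m.op t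
  let c₀ : EtCoh.const X ℤ ⟶ (EtCoh.push j).obj ((EtShriek.restrAlong j).obj S.X₂) :=
    (A.homEquiv _ _).symm (AddCommGrpCat.ofHom (X := ULift.{u + 1} ℤ)
      ((zmultiplesHom _ t').comp AddEquiv.ulift.toAddMonoidHom))
  let R := restrPushAdj j
  let c₁ : (EtShriek.restrAlong j).obj (EtCoh.const X ℤ) ⟶ (EtShriek.restrAlong j).obj S.X₂ := (R.homEquiv _ _).symm c₀
  have hc₁ : c₁ ≫ (EtShriek.restrAlong j).map S.g = (EtShriek.restrAlong j).map b := by
    apply (R.homEquiv _ _).injective
    rw [Adjunction.homEquiv_naturality_right, Equiv.apply_symm_apply, Adjunction.homEquiv_unit]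
    have hn : R.unit.app _ ≫ (EtCoh.push j).map ((EtShriek.restrAlong j).map b) = b ≫ R.unit.app S.X₃ :=
      (R.unit.naturality b).symm
    rw [hn]
    apply (A.homEquiv _ _).injective
    rw [Adjunction.homEquiv_naturality_right, Equiv.apply_symm_apply, Adjunction.homEquiv_naturality_right]
    refine AddCommGrpCat.hom_ext (AddMonoidHom.ext fun n => ?_)
    have hn' : n = n.down • ULift.up.{u + 1} (1 : ℤ) := ULift.ext _ _ (by simp)
    rw [hn', map_zsmul, map_zsmul]
    refine congrArg (n.down • ·) ?_
    show S.g.hom.app (op T) ((1 : ℤ) • S.X₂.obj.map m.op t) = _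
    rw [one_smul, app_map_sect S.g m t, ht, ← Functor.map_comp_apply, ← op_comp]
    exact congrArg (fun q : T ⟶ EtCoh.top X => S.X₃.obj.map q.op (A.homEquiv _ _ b (ULift.up.{u + 1} (1 : ℤ))))
      ((EtCore.topIsTerminal X).hom_ext (m ≫ (EtCore.topIsTerminal X).from V) ((compBcAdj j).counit.app (EtCoh.top X)))
  refine ⟨(pullIsoRestr j).hom.app _ ≫ c₁ ≫ (pullIsoRestr j).inv.app _, ?_⟩
  rw [Category.assoc, Category.assoc, ← (pullIsoRestr j).inv.naturality S.g, ← Category.assoc c₁, hc₁,
    (pullIsoRestr j).inv.naturality b, Iso.hom_inv_id_app_assoc]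
where
  app_map_sect {X : Scheme.{u}} {F G : EtCoh.Ab X} (a : F ⟶ G) {U V : X.Etale} (g : V ⟶ U) (s : EtCoh.sect F U) :
      a.hom.app (op V) (F.obj.map g.op s) = G.obj.map g.op (a.hom.app (op U) s) :=
    NatTrans.naturality_apply a.hom g.op s

end Lift

variable (k : Type u) [Field k]

/-- An étale scheme over a field with a point has points in finite separable extensions. -/
theorem exists_point_of_etale {V : Scheme.{u}} (p : V ⟶ Spec (CommRingCat.of k)) [AlgebraicGeometry.Etale p] (v : V) :
    ∃ (L : Type u) (_ : Field L) (_ : Algebra k L) (_ : FiniteDimensional k L) (_ : Algebra.IsSeparable k L)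
      (h : Spec (CommRingCat.of L) ⟶ V), h ≫ p = Spec.map (CommRingCat.ofHom (algebraMap k L)) := by
  obtain ⟨R, g, _, w, hw⟩ := V.exists_Spec_apply_eq v
  haveI : AlgebraicGeometry.Etale (g ≫ p) := inferInstance
  obtain ⟨φ, hφ⟩ : ∃ φ : CommRingCat.of k ⟶ R, Spec.map φ = g ≫ p := ⟨_, Spec.map_preimage _⟩
  have het : AlgebraicGeometry.Etale (Spec.map φ) := hφ ▸ inferInstance
  rw [HasRingHomProperty.Spec_iff (P := @AlgebraicGeometry.Etale)] at het
  algebraize [φ.hom]
  haveI : Algebra.Etale k R := het
  obtain ⟨I, hI, Ai, _, _, e, hAi⟩ := (Algebra.Etale.iff_exists_algEquiv_prod k R).1 inferInstance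
  have : Nontrivial R := w.nontrivial
  obtain ⟨i⟩ : Nonempty I := by
    by_contra hn
    haveI : IsEmpty I := not_nonempty_iff.1 hn
    haveI := e.toEquiv.subsingleton
    exact not_subsingleton R inferInstance
  refine ⟨Ai i, inferInstance, inferInstance, (hAi i).1, (hAi i).2,
    Spec.map (CommRingCat.ofHom ((Pi.evalAlgHom k Ai i).comp e.toAlgHom).toRingHom) ≫ g, ?_⟩
  rw [Category.assoc, ← hφ, ← Spec.map_comp]
  congr 1
  exact CommRingCat.hom_ext (RingHom.ext fun a => ((Pi.evalAlgHom k Ai i).comp e.toAlgHom).commutes a)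

theorem etale_specMap' (K : Type u) [Field K] [Algebra k K] [FiniteDimensional k K] [Algebra.IsSeparable k K] :
    AlgebraicGeometry.Etale (Spec.map (CommRingCat.ofHom (algebraMap k K))) := by
  haveI : Algebra.FormallyEtale k K := Algebra.FormallyEtale.of_isSeparable k K
  haveI : Algebra.FinitePresentation k K := Algebra.FinitePresentation.of_finiteType.1 inferInstance
  haveI : Algebra.Etale k K := { }
  rw [HasRingHomProperty.Spec_iff (P := @AlgebraicGeometry.Etale)]
  exact RingHom.etale_algebraMap.2 this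

/-- Every class of positive degree dies in a finite separable extension. -/
theorem exists_kill : ∀ (n : ℕ) (F : EtCoh.Ab (Spec (CommRingCat.of k)))
    (α : EtCoh.H (Spec (CommRingCat.of k)) F (n + 1)),
    ∃ (L : Type u) (_ : Field L) (_ : Algebra k L) (_ : FiniteDimensional k L) (_ : Algebra.IsSeparable k L),
      ∀ [PreservesFiniteLimits (EtCoh.pull (Spec.map (CommRingCat.ofHom (algebraMap k L))))],
        Ext.mapExactFunctor (EtCoh.pull (Spec.map (CommRingCat.ofHom (algebraMap k L)))) α = 0 := by
  intro n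
  induction n with
  | zero =>
    intro F α
    let X := Spec (CommRingCat.of k)
    let S : ShortComplex (EtCoh.Ab X) :=
      ShortComplex.mk (Injective.ι F) (cokernel.π (Injective.ι F)) (cokernel.condition _)
    have hS : S.ShortExact := { exact := S.exact_of_g_is_cokernel (cokernelIsCokernel _) }
    obtain ⟨y, rfl⟩ : ∃ y : Ext (EtCoh.const X ℤ) S.X₃ 0, y.comp hS.extClass rfl = α :=
      Ext.covariant_sequence_exact₁ _ hS α (Ext.eq_zero_of_injective (I := S.X₂) _) rfl
    obtain ⟨b, rfl⟩ := (Ext.mk₀_bijective _ _).2 y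
    haveI := hS.epi_g
    haveI : Sheaf.IsLocallySurjective S.g :=
      (Sheaf.isLocallySurjective_iff_epi' AddCommGrpCat.{u + 1} S.g).2 inferInstance
    obtain ⟨V, g, v, ⟨t, ht⟩, hv⟩ := exists_mem_of_covering
      (Presheaf.imageSieve_mem X.smallEtaleTopology S.g.hom (U := op (EtCoh.top X))
        ((constantSheafAdj X.smallEtaleTopology AddCommGrpCat.{u + 1} (EtCore.topIsTerminal X)).homEquiv _ _ b
          (ULift.up.{u + 1} (1 : ℤ)))) (IsLocalRing.closedPoint k)
    haveI : AlgebraicGeometry.Etale V.hom := V.prop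
    obtain ⟨L, _, _, _, _, h, hh⟩ := exists_point_of_etale k V.hom v
    haveI : AlgebraicGeometry.Etale (Spec.map (CommRingCat.ofHom (algebraMap k L))) := by
      exact etale_specMap' k L
    refine ⟨L, inferInstance, inferInstance, inferInstance, inferInstance, ?_⟩
    intro _
    let j := Spec.map (CommRingCat.ofHom (algebraMap k L))
    obtain ⟨c, hc⟩ := exists_pull_lift j b V h hh t
      (by rw [show (EtCore.topIsTerminal X).from V = g from (EtCore.topIsTerminal X).hom_ext _ _]; exact ht)
    rw [Ext.mapExactFunctor_comp, Ext.mapExactFunctor_mk₀, ← hc, ← Ext.mk₀_comp_mk₀, Ext.mapExactFunctor_extClass,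
      Ext.comp_assoc_of_second_deg_zero]
    exact (congrArg (fun z => (Ext.mk₀ c).comp z rfl) (hS.map_of_exact (EtCoh.pull j)).comp_extClass).trans (Ext.comp_zero _ _ _ _ _)
  | succ n ih =>
    intro F α
    let X := Spec (CommRingCat.of k)
    let S : ShortComplex (EtCoh.Ab X) :=
      ShortComplex.mk (Injective.ι F) (cokernel.π (Injective.ι F)) (cokernel.condition _)
    have hS : S.ShortExact := { exact := S.exact_of_g_is_cokernel (cokernelIsCokernel _) }
    obtain ⟨y, rfl⟩ : ∃ y : Ext (EtCoh.const X ℤ) S.X₃ (n + 1), y.comp hS.extClass rfl = α :=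
      Ext.covariant_sequence_exact₁ _ hS α (Ext.eq_zero_of_injective (I := S.X₂) _) rfl
    obtain ⟨L, i₁, i₂, i₃, i₄, hL⟩ := ih S.X₃ y
    refine ⟨L, i₁, i₂, i₃, i₄, ?_⟩
    intro _
    rw [Ext.mapExactFunctor_comp, hL, Ext.zero_comp]

variable (K : Type u) [Field K] [Algebra k K] [FiniteDimensional k K] [Algebra.IsSeparable k K]

theorem etale_specMap : AlgebraicGeometry.Etale (Spec.map (CommRingCat.ofHom (algebraMap k K))) :=
  etale_specMap' k K

theorem isFinite_specMap : IsFinite (Spec.map (CommRingCat.ofHom (algebraMap k K))) := by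
  rw [IsFinite.SpecMap_iff, CommRingCat.hom_ofHom, RingHom.finite_algebraMap]
  infer_instance

theorem hasDegree_specMap [AlgebraicGeometry.Etale (Spec.map (CommRingCat.ofHom (algebraMap k K)))]
    [IsFinite (Spec.map (CommRingCat.ofHom (algebraMap k K)))] :
    HasDegree (Spec.map (CommRingCat.ofHom (algebraMap k K))) (Module.finrank k K) :=
  hasDegree_of_finrank _ _ fun x =>
    (Scheme.Hom.finrank_SpecMap_algebraMap k K x).trans (congrFun Module.rankAtStalk_eq_finrank_of_free x)

/-- A class dying in an extension is killed by the degree. -/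
theorem finrank_nsmul_eq_zero (F : EtCoh.Ab (Spec (CommRingCat.of k))) (n : ℕ)
    (α : EtCoh.H (Spec (CommRingCat.of k)) F n)
    [PreservesFiniteLimits (EtCoh.pull (Spec.map (CommRingCat.ofHom (algebraMap k K))))]
    (h : Ext.mapExactFunctor (EtCoh.pull (Spec.map (CommRingCat.ofHom (algebraMap k K)))) α = 0) :
    Module.finrank k K • α = 0 :=
  haveI := etale_specMap k K
  haveI := isFinite_specMap k K
  smul_eq_zero_of_pull_eq_zero _ (hasDegree_specMap k K) n α h

/-- Cohomology of a field is torsion in positive degrees. -/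
theorem isOfFinAddOrder (F : EtCoh.Ab (Spec (CommRingCat.of k))) (n : ℕ)
    (α : EtCoh.H (Spec (CommRingCat.of k)) F (n + 1)) : IsOfFinAddOrder α := by
  obtain ⟨L, _, _, _, _, hL⟩ := exists_kill k n F α
  haveI := etale_specMap k L
  haveI := preservesFiniteLimits_pull (Spec.map (CommRingCat.ofHom (algebraMap k L)))
  exact isOfFinAddOrder_iff_nsmul_eq_zero.2 ⟨_, Module.finrank_pos, finrank_nsmul_eq_zero k L F _ α hL⟩

end Groth.Agent.EtTraceLib
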