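import Groth.Agent.EtTraceLib.PicLocal
import Groth.Agent.PicDefLib.Pic
import Groth.Agent.EtVanish.UniverseLift
import Groth.Agent.S17614

/-!
# `H^1(X_et, G_m) = Pic X`
-/

set_option autoImplicit false
set_option backward.isDefEq.respectTransparency false
set_option backward.isDefEq.respectTransparency.types false
set_option linter.style.haveILetI false
set_option maxHeartbeats 1000000
set_option synthInstance.maxHeartbeats 200000

universe u

open CategoryTheory CategoryTheory.Limits AlgebraicGeometry Opposite CategoryTheory.Abelian TopologicalSpace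

noncomputable section

namespace Groth.Agent.EtTraceLib

open EtPtsLib

/-- The inclusion of the opens into the small étale site is continuous. -/
theorem zarCont (X : Scheme.{u}) : EtZar.ZarCont X := by
  haveI : RepresentablyFlat (EtZar.zarToEt X) :=
    { cofiltered := fun T => by
        have hext : ∀ {U : X.Opens} (f g : T ⟶ (EtZar.zarToEt X).obj U), f = g := fun {U} f g =>
          MorphismProperty.Over.Hom.ext ((cancel_mono U.ι).1 ((Over.w f.hom).trans (Over.w g.hom).symm))
        have hsub : ∀ {U : X.Opens} (_ : T ⟶ (EtZar.zarToEt X).obj U), Set.range T.hom ⊆ (U : Set X) := by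
          rintro U f _ ⟨x, rfl⟩
          have h := congr(($(Over.w f.hom)) x)
          exact h ▸ (f.left x).2
        have mk : ∀ U : X.Opens, Set.range T.hom ⊆ (U : Set X) → (T ⟶ (EtZar.zarToEt X).obj U) := fun U h =>
          MorphismProperty.Over.homMk (IsOpenImmersion.lift U.ι T.hom (h.trans_eq (Scheme.Opens.range_ι U).symm))
            (IsOpenImmersion.lift_fac _ _ _)
        haveI : Nonempty (StructuredArrow T (EtZar.zarToEt X)) := ⟨StructuredArrow.mk (mk ⊤ (fun _ _ => trivial))⟩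
        haveI : IsCofilteredOrEmpty (StructuredArrow T (EtZar.zarToEt X)) :=
          { cone_objs := fun A B =>
              ⟨StructuredArrow.mk (mk (A.right ⊓ B.right) fun x hx => ⟨hsub A.hom hx, hsub B.hom hx⟩),
                StructuredArrow.homMk (homOfLE inf_le_left) (hext _ _),
                StructuredArrow.homMk (homOfLE inf_le_right) (hext _ _), trivial⟩
            cone_maps := fun A B f g => ⟨A, 𝟙 A, by
              rw [StructuredArrow.hom_ext f g (Subsingleton.elim _ _)]⟩ }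
        exact { } }
  refine Functor.isContinuous_of_coverPreserving (compatiblePreservingOfFlat _ _) ⟨fun {U R} hR => ?_⟩
  refine covering_of_points _ fun x => ?_
  obtain ⟨V, g, hg, hx⟩ := hR x.1 x.2
  refine ⟨(EtZar.zarToEt X).obj V, (EtZar.zarToEt X).map g, ⟨x.1, hx⟩, Sieve.image_mem_functorPushforward _ R hg, ?_⟩
  exact Subtype.ext (X.homOfLE_apply g.le _)

variable (X : Scheme.{u})

/-- The connecting map of global sections is surjective onto `H^1`, with the expected kernel. -/
theorem exists_delta {C : Type*} [Category C] {J : GrothendieckTopology C} [HasSheafify J AddCommGrpCat.{u}]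
    [HasExt.{u} (Sheaf J AddCommGrpCat.{u})] {T : C} (hT : IsTerminal T)
    {S : ShortComplex (Sheaf J AddCommGrpCat.{u})} (hS : S.ShortExact) [Injective S.X₂] :
    ∃ δ : S.X₃.obj.obj (op T) →+ Sheaf.H S.X₁ 1, Function.Surjective δ ∧
      ∀ q, δ q = 0 ↔ ∃ t, S.g.hom.app (op T) t = q := by
  refine ⟨(hS.extClass.postcomp _ (zero_add 1)).comp (Sheaf.H.equiv₀ S.X₃ hT).symm.toAddMonoidHom, ?_, fun q => ?_⟩
  · intro x
    obtain ⟨y, hy⟩ := Ext.covariant_sequence_exact₁ _ hS x (Ext.eq_zero_of_injective (I := S.X₂) _) (zero_add 1)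
    exact ⟨Sheaf.H.equiv₀ S.X₃ hT y, (congrArg (hS.extClass.postcomp _ (zero_add 1))
      ((Sheaf.H.equiv₀ S.X₃ hT).symm_apply_apply y)).trans hy⟩
  · constructor
    · intro h
      obtain ⟨z, hz⟩ := Ext.covariant_sequence_exact₃ _ hS _ (zero_add 1) h
      refine ⟨Sheaf.H.equiv₀ S.X₂ hT z, ?_⟩
      have e := Sheaf.H.equiv₀_naturality hT S.g z
      rw [Sheaf.H.map_apply, hz] at e
      exact e.trans ((Sheaf.H.equiv₀ S.X₃ hT).apply_symm_apply q)
    · rintro ⟨t, rfl⟩
      show ((Sheaf.H.equiv₀ S.X₃ hT).symm _).comp hS.extClass (zero_add 1) = 0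
      rw [← Sheaf.H.equiv₀_symm_naturality, Sheaf.H.map_apply, Ext.comp_assoc_of_second_deg_zero, hS.comp_extClass,
        Ext.comp_zero]

/-- An injective embedding of `G_m`. -/
abbrev gmSeq : ShortComplex (EtCoh.Ab X) :=
  ShortComplex.mk (Injective.ι (EtCoh.Gm X)) (cokernel.π (Injective.ι (EtCoh.Gm X))) (cokernel.condition _)

theorem gmSeq_shortExact : (gmSeq X).ShortExact :=
  { exact := (gmSeq X).exact_of_g_is_cokernel (cokernelIsCokernel _) }

variable {X} in
/-- A lift over an étale neighbourhood gives a lift over an open neighbourhood. -/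
theorem exists_lift_open_of_nbhd {S : ShortComplex (EtCoh.Ab X)} (hS : S.ShortExact) (e₁ : S.X₁ ≅ EtCoh.Gm X)
    (Q : EtCoh.sect S.X₃ (EtCoh.top X)) (U0 : X.Opens) (hU0 : IsAffineOpen U0) {V : X.Etale}
    (g : V ⟶ openSub (EtCoh.top X) U0) (v : V.left) (t : EtCoh.sect S.X₂ V)
    (ht : S.g.hom.app (op V) t =
      S.X₃.obj.map g.op (S.X₃.obj.map ((EtCore.topIsTerminal X).from (openSub (EtCoh.top X) U0)).op Q)) :
    ∃ U : X.Opens, U0.ι (g.left v) ∈ U ∧ ∃ s : EtCoh.sect S.X₂ (openSub (EtCoh.top X) U),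
      S.g.hom.app _ s = S.X₃.obj.map ((EtCore.topIsTerminal X).from (openSub (EtCoh.top X) U)).op Q := by
  haveI := etale_left g
  obtain ⟨W0, hW0, hvW, -⟩ := exists_isAffineOpen_mem_and_subset (X := V.left) (x := v) (U := ⊤) trivial
  let A := Γ(X, U0)
  let j : Spec (CommRingCat.of A) ⟶ X := hU0.fromSpec
  let q : Spec Γ(V.left, W0) ⟶ Spec Γ(X, U0) := hW0.fromSpec ≫ g.left ≫ hU0.isoSpec.hom
  obtain ⟨φ, hφ⟩ : ∃ φ : Γ(X, U0) ⟶ Γ(V.left, W0), Spec.map φ = q := ⟨_, Spec.map_preimage _⟩
  have het : AlgebraicGeometry.Etale (Spec.map φ) := by rw [hφ]; infer_instance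
  rw [HasRingHomProperty.Spec_iff (P := @AlgebraicGeometry.Etale)] at het
  algebraize [φ.hom]
  haveI : Algebra.Etale Γ(X, U0) Γ(V.left, W0) := het
  let k : spObj j Γ(V.left, W0) ⟶ V := MorphismProperty.Over.homMk hW0.fromSpec (by
    show hW0.fromSpec ≫ V.hom = Spec.map φ ≫ hU0.fromSpec
    rw [hφ, ← MorphismProperty.Over.w g]
    show hW0.fromSpec ≫ g.left ≫ U0.ι ≫ 𝟙 X = (hW0.fromSpec ≫ g.left ≫ hU0.isoSpec.hom) ≫ hU0.fromSpec
    rw [Category.comp_id, Category.assoc, Category.assoc]
    exact congrArg (hW0.fromSpec ≫ ·) (congrArg (g.left ≫ ·) (IsAffineOpen.isoSpec_hom hU0 ▸ (Iso.hom_inv_id_assoc hU0.isoSpec U0.ι).symm)))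
  obtain ⟨p, hp⟩ : v ∈ Set.range hW0.fromSpec := by rw [hW0.range_fromSpec]; exact hvW
  obtain ⟨U, hU, s, hs⟩ := exists_lift_open j hS e₁ Q (S.X₂.obj.map k.op t) (by
    rw [NatTrans.naturality_apply S.g.hom k.op t, ht, ← Functor.map_comp_apply, ← Functor.map_comp_apply, ← op_comp,
      ← op_comp]
    exact congrArg (fun m => S.X₃.obj.map (Quiver.Hom.op m) Q) ((EtCore.topIsTerminal X).hom_ext _ _)) p
  refine ⟨U, ?_, s, hs⟩
  have e : (spObj j Γ(V.left, W0)).hom p = U0.ι (g.left v) := by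
    rw [← MorphismProperty.Over.w k, Scheme.Hom.comp_apply]
    show V.hom (hW0.fromSpec p) = _
    rw [hp, ← MorphismProperty.Over.w g, Scheme.Hom.comp_apply]
    rfl
  exact e ▸ hU

variable [EtZar.ZarCont X]

/-- The identification of `G_m` on opens with the units. -/
def resZarGmIso : (EtZar.resZar X).obj (EtCoh.Gm X) ≅ (EtVanish.liftSh (X := X)).obj (UnitsSh.unitsAb X) :=
  (fullyFaithfulSheafToPresheaf _ _).preimageIso
    (NatIso.ofComponents
      (fun U => AddCommGrpCat.uliftFunctor.{u + 1, u}.mapIso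
        ((forget₂ CommRingCat CommMonCat ⋙ CommMonCat.units ⋙ commGroupAddCommGroupEquivalence.functor).mapIso
          (Scheme.Opens.topIso U.unop)))
      (fun {U V} f => by
        have e : (X.homOfLE f.unop.le).appTop ≫ (Scheme.Opens.topIso V.unop).hom =
            (Scheme.Opens.topIso U.unop).hom ≫ X.presheaf.map f := by
          rw [Scheme.Hom.appTop, Scheme.homOfLE_app, Scheme.Opens.topIso_hom, Scheme.Opens.topIso_hom,
            ← Functor.map_comp, ← Functor.map_comp]
          rfl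
        have := congrArg (fun m => AddCommGrpCat.uliftFunctor.{u + 1, u}.map
          ((forget₂ CommRingCat CommMonCat ⋙ CommMonCat.units ⋙ commGroupAddCommGroupEquivalence.functor).map m)) e
        simp only [Functor.map_comp] at this
        exact this))

theorem nonempty_etH1_equiv_zarH1_of {S : ShortComplex (EtCoh.Ab X)} (hS : S.ShortExact) [Injective S.X₂]
    (hloc : ∀ (q : EtCoh.sect S.X₃ (EtCoh.top X)) (x : X), ∃ O : X.Opens, x ∈ O ∧
      ∃ s : EtCoh.sect S.X₂ (openSub (EtCoh.top X) O),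
        S.g.hom.app _ s = S.X₃.obj.map ((EtCore.topIsTerminal X).from (openSub (EtCoh.top X) O)).op q) :
    Nonempty (EtCoh.H X S.X₁ 1 ≃+ EtZar.H ((EtZar.resZar X).obj S.X₁) 1) := by
  let R := EtZar.resZar X
  haveI : PreservesLimitsOfSize.{0, 0} R := ((EtZar.zarToEt X).sheafAdjunctionContinuous AddCommGrpCat.{u + 1}
    (Opens.grothendieckTopology X) X.smallEtaleTopology).rightAdjoint_preservesLimits
  haveI := hS.mono_f
  haveI : Mono (R.map S.f) := inferInstance
  let P : ShortComplex (EtZar.Ab X) := ShortComplex.mk (R.map S.f) (cokernel.π (R.map S.f)) (cokernel.condition _)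
  have hP : P.ShortExact := { exact := P.exact_of_g_is_cokernel (cokernelIsCokernel _) }
  haveI : Injective P.X₂ := Groth.Agent.S17614.injective_resZar S.X₂
  let k : P.X₃ ⟶ R.obj S.X₃ := cokernel.desc (R.map S.f) (R.map S.g) (S.map R).zero
  haveI : Mono k := (hS.exact.map_of_mono_of_preservesKernel R inferInstance inferInstance).mono_cokernelDesc
  have hk : P.g ≫ k = R.map S.g := cokernel.π_desc _ _ _
  let hT := EtCore.topIsTerminal X
  let top := (⊤ : X.Opens)
  let i : (EtZar.zarToEt X).obj top ⟶ EtCoh.top X := hT.from _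
  haveI : IsIso i := by
    haveI : IsIso i.left := by
      have : i.left = top.ι := (Category.comp_id _).symm.trans (MorphismProperty.Over.w i)
      rw [this]; exact X.topIso.isIso_hom
    let i' : EtCoh.top X ⟶ (EtZar.zarToEt X).obj top := MorphismProperty.Over.homMk (inv i.left) (by
      rw [IsIso.inv_comp_eq]; exact (MorphismProperty.Over.w i).symm)
    exact ⟨i', MorphismProperty.Over.Hom.ext (IsIso.hom_inv_id i.left), hT.hom_ext _ _⟩
  let ek := (sheafToPresheaf (Opens.grothendieckTopology X) AddCommGrpCat.{u + 1} ⋙ (evaluation _ _).obj (op top)).map k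
  let κ : P.X₃.obj.obj (op top) →+ EtCoh.sect S.X₃ (EtCoh.top X) :=
    (ek ≫ S.X₃.obj.map (inv i).op).hom
  have hinv : ∀ (F : EtCoh.Ab X) (a : F.obj.obj (op ((EtZar.zarToEt X).obj top))),
      F.obj.map i.op (F.obj.map (inv i).op a) = a := fun F a => by
    rw [← Functor.map_comp_apply, ← op_comp, IsIso.hom_inv_id, op_id, CategoryTheory.Functor.map_id]; rfl
  have hinv' : ∀ (F : EtCoh.Ab X) (a : F.obj.obj (op (EtCoh.top X))),
      F.obj.map (inv i).op (F.obj.map i.op a) = a := fun F a => by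
    rw [← Functor.map_comp_apply, ← op_comp, IsIso.inv_hom_id, op_id, CategoryTheory.Functor.map_id]; rfl
  have hek : Function.Injective ek := (AddCommGrpCat.mono_iff_injective _).1 inferInstance
  have hκi : Function.Injective κ := fun a b hab => hek (by
    have := congrArg (S.X₃.obj.map i.op) hab
    exact (hinv S.X₃ _).symm.trans (this.trans (hinv S.X₃ _)))
  have hκs : Function.Surjective κ := by
    intro q
    let q' := S.X₃.obj.map i.op q
    obtain ⟨p, hp⟩ : ∃ p, ek p = q' := by
      let C : ShortComplex (EtZar.Ab X) := ShortComplex.mk k (cokernel.π k) (cokernel.condition _)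
      have hC : C.ShortExact := { exact := C.exact_of_g_is_cokernel (cokernelIsCokernel _) }
      haveI := hC.mono_f
      let E := sheafToPresheaf (Opens.grothendieckTopology X) AddCommGrpCat.{u + 1} ⋙ (evaluation _ _).obj (op top)
      haveI : E.Additive := { }
      refine (ShortComplex.ab_exact_iff _).1 (hC.exact.map_of_mono_of_preservesKernel E inferInstance inferInstance) q' ?_
      show C.g.hom.app (op top) q' = 0
      let F : Sheaf (Opens.grothendieckTopology X) (Type (u + 1)) := (sheafCompose _ (forget AddCommGrpCat.{u + 1})).obj C.X₃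
      refine ((isSheaf_iff_isSheaf_of_type _ _).1 F.property).isSeparated (Presheaf.imageSieve (R.map S.g).hom (U := top) q') ?_
        |>.ext fun V g hg => ?_
      · intro x hx
        obtain ⟨O, hxO, s, hs⟩ := hloc q x
        refine ⟨O, homOfLE le_top, ?_, hxO⟩
        let w : (EtZar.zarToEt X).obj O ⟶ openSub (EtCoh.top X) O := MorphismProperty.Over.homMk (𝟙 _) (by
          show 𝟙 _ ≫ O.ι ≫ 𝟙 X = O.ι
          simp)
        refine ⟨S.X₂.obj.map w.op s, ?_⟩
        show S.g.hom.app _ (S.X₂.obj.map w.op s) = S.X₃.obj.map ((EtZar.zarToEt X).map _).op (S.X₃.obj.map i.op q)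
        rw [NatTrans.naturality_apply S.g.hom w.op s, hs, ← Functor.map_comp_apply, ← Functor.map_comp_apply, ← op_comp,
          ← op_comp]
        exact congrArg (fun m => S.X₃.obj.map (Quiver.Hom.op m) q) (hT.hom_ext _ _)
      · obtain ⟨t, ht⟩ := hg
        show C.X₃.obj.map g.op (C.g.hom.app (op top) q') = C.X₃.obj.map g.op 0
        rw [map_zero, ← NatTrans.naturality_apply C.g.hom g.op q']
        have h1 : (R.obj S.X₃).obj.map g.op q' = k.hom.app (op V) (P.g.hom.app (op V) t) :=
          ht.symm.trans (ConcreteCategory.congr_hom (congrArg (fun m => m.hom.app (op V)) hk) t).symm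
        rw [h1]
        exact ConcreteCategory.congr_hom (congrArg (fun m => m.hom.app (op V)) (cokernel.condition k)) _
    exact ⟨p, (congrArg (S.X₃.obj.map (inv i).op) hp).trans (hinv' S.X₃ q)⟩
  obtain ⟨δe, hse, hke⟩ := exists_delta hT hS
  obtain ⟨δz, hsz, hkz⟩ := exists_delta (isTerminalTop (α := X.Opens)) hP
  have hgκ : ∀ t, κ (P.g.hom.app (op top) t) = S.g.hom.app (op (EtCoh.top X)) (S.X₂.obj.map (inv i).op t) := fun t => by
    refine Eq.trans ?_ (NatTrans.naturality_apply S.g.hom (inv i).op t).symm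
    exact congrArg (S.X₃.obj.map (inv i).op) (ConcreteCategory.congr_hom (congrArg (fun m => m.hom.app (op top)) hk) t)
  have hker : (δe.comp κ).ker = δz.ker := by
    ext p
    rw [AddMonoidHom.mem_ker, AddMonoidHom.mem_ker, AddMonoidHom.comp_apply, hke, hkz]
    constructor
    · rintro ⟨t, ht⟩
      refine ⟨S.X₂.obj.map i.op t, hκi ?_⟩
      rw [hgκ, hinv', ht]
    · rintro ⟨t, rfl⟩
      exact ⟨_, (hgκ t).symm⟩
  exact ⟨(QuotientAddGroup.quotientKerEquivOfSurjective (δe.comp κ) (hse.comp hκs)).symm.trans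
    ((QuotientAddGroup.quotientAddEquivOfEq hker).trans (QuotientAddGroup.quotientKerEquivOfSurjective _ hsz))⟩

theorem nonempty_etH1_equiv_zarH1 :
    Nonempty (EtCoh.H X (EtCoh.Gm X) 1 ≃+ EtZar.H ((EtZar.resZar X).obj (EtCoh.Gm X)) 1) := by
  haveI : Injective (gmSeq X).X₂ := inferInstanceAs (Injective (Injective.under _))
  refine nonempty_etH1_equiv_zarH1_of X (gmSeq_shortExact X) fun q x => ?_
  have hS := gmSeq_shortExact X
  haveI := hS.epi_g
  haveI : Sheaf.IsLocallySurjective (gmSeq X).g :=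
    (Sheaf.isLocallySurjective_iff_epi' AddCommGrpCat.{u + 1} (gmSeq X).g).2 inferInstance
  obtain ⟨U0, hU0, hxU, -⟩ := exists_isAffineOpen_mem_and_subset (X := X) (x := x) (U := ⊤) trivial
  obtain ⟨V, g, v, ⟨t, ht⟩, hv⟩ := exists_mem_of_covering
    (Presheaf.imageSieve_mem X.smallEtaleTopology (gmSeq X).g.hom (U := op (openSub (EtCoh.top X) U0))
      ((gmSeq X).X₃.obj.map ((EtCore.topIsTerminal X).from (openSub (EtCoh.top X) U0)).op q))
    (⟨x, hxU⟩ : (openSub (EtCoh.top X) U0).left)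
  obtain ⟨O, hO, s, hs⟩ := exists_lift_open_of_nbhd hS (Iso.refl _) q U0 hU0 g v t ht
  rw [hv] at hO
  exact ⟨O, hO, s, hs⟩

omit [EtZar.ZarCont X] in
/-- The units on `X` as the units of the identity. -/
def unitsPushIso : UnitsSh.unitsAb X ≅ PicDefLib.pUnits (𝟙 X) :=
  (fullyFaithfulSheafToPresheaf _ _).preimageIso
    (NatIso.ofComponents (fun _ => Iso.refl _) fun _ => (Category.comp_id _).trans (Category.id_comp _).symm)

omit [EtZar.ZarCont X] in
theorem nonempty_H1_Gm_equiv :
    Nonempty (EtCoh.H X (EtCoh.Gm X) 1 ≃+ CohBase.HU (⊤ : X.Opens) (PicDefLib.pUnits (𝟙 X)) 1) := by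
  haveI := zarCont X
  obtain ⟨e1⟩ := nonempty_etH1_equiv_zarH1 X
  obtain ⟨e3⟩ := EtVanish.nonempty_H_lift_equiv (X := X) 1 (UnitsSh.unitsAb X)
  exact ⟨e1.trans ((((Sheaf.functorH _ 1).mapIso (resZarGmIso X)).addCommGroupIsoToAddEquiv.trans e3).trans
    (((Sheaf.functorH _ 1).mapIso (unitsPushIso X)).addCommGroupIsoToAddEquiv.trans (CohBase.HEquiv _ 1)))⟩

omit [EtZar.ZarCont X] in
theorem subsingleton_H1_Gm_iff :
    Subsingleton (EtCoh.H X (EtCoh.Gm X) 1) ↔
      ∀ L : X.Modules, PicF.IsInvertible L → Nonempty (L ≅ Coh.structureModule X) := by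
  obtain ⟨e⟩ := nonempty_H1_Gm_equiv X
  rw [e.toEquiv.subsingleton_congr]
  constructor
  · intro h L hL
    obtain ⟨x, hx⟩ := PicDefLib.exists_clsL (𝟙 X) hL
    rw [Subsingleton.elim x 0] at hx
    exact hx.triv (𝟙 X)
  · intro h
    refine ⟨fun x y => ?_⟩
    obtain ⟨L, hL, hx⟩ := PicDefLib.exists_of_class (𝟙 X) x
    obtain ⟨M, hM, hy⟩ := PicDefLib.exists_of_class (𝟙 X) y
    obtain ⟨eL⟩ := h L hL
    obtain ⟨eM⟩ := h M hM
    exact hx.unique (𝟙 X) (eL ≪≫ eM.symm) hy

omit [EtZar.ZarCont X] in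
theorem nonempty_pic_equiv [PicGrp.Law X] :
    Nonempty (Additive (PicLoc.PicSet X) ≃+ EtCoh.H X (EtCoh.Gm X) 1) := by
  obtain ⟨e⟩ := nonempty_H1_Gm_equiv X
  exact ⟨(PicDefLib.picEquiv (𝟙 X)).trans e.symm⟩

end Groth.Agent.EtTraceLib
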