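import Groth.Agent.EtTraceLib.FieldCd
import Groth.Agent.S6634
import Groth.Agent.S3054
import Groth.Agent.S14451
import Groth.Agent.S0101

/-!
# Fields of `p`-cohomological dimension at most one
-/

set_option autoImplicit false
set_option backward.isDefEq.respectTransparency false
set_option backward.isDefEq.respectTransparency.types false
set_option linter.style.haveILetI false
set_option maxHeartbeats 1000000

universe u

open CategoryTheory CategoryTheory.Limits AlgebraicGeometry Opposite CategoryTheory.Abelian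

noncomputable section

namespace Groth.Agent.EtTraceLib

open EtPtsLib

theorem nsmul_id_mu (X : Scheme.{u}) (n : ℕ) : n • 𝟙 (EtCoh.mu X n) = 0 := by
  haveI : Mono (EtCoh.muι X n) := inferInstanceAs (Mono (kernel.ι (EtCoh.powMap X n)))
  rw [← cancel_mono (EtCoh.muι X n), zero_comp, Preadditive.nsmul_comp, Category.id_comp]
  have h : EtCoh.muι X n ≫ (n • 𝟙 (EtCoh.Gm X)) = 0 := kernel.condition (EtCoh.powMap X n)
  rwa [Preadditive.comp_nsmul, Category.comp_id] at h

variable {K : Type u} [Field K] (p : ℕ) [hp : Fact p.Prime]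

theorem isUnit_natCast_spec (hpK : (p : K) ≠ 0) : IsUnit (p : Γ(Spec (CommRingCat.of K), ⊤)) := by
  rw [← map_natCast (Scheme.ΓSpecIso (CommRingCat.of K)).inv.hom p]
  exact (IsUnit.mk0 _ hpK).map _

/-- The Kummer sequence. -/
def kumSeq (X : Scheme.{u}) (n : ℕ) : ShortComplex (EtCoh.Ab X) :=
  ShortComplex.mk (EtCoh.muι X n) (EtCoh.powMap X n) (kernel.condition _)

theorem kumSeq_shortExact (hpK : (p : K) ≠ 0) : (kumSeq (Spec (CommRingCat.of K)) p).ShortExact := by
  haveI : Mono (kumSeq (Spec (CommRingCat.of K)) p).f :=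
    inferInstanceAs (Mono (kernel.ι (EtCoh.powMap (Spec (CommRingCat.of K)) p)))
  haveI : Epi (kumSeq (Spec (CommRingCat.of K)) p).g :=
    S0108.result (Spec (CommRingCat.of K)) p (isUnit_natCast_spec p hpK)
  exact { exact := ShortComplex.exact_of_f_is_kernel _ (kernelIsKernel _) }

theorem H_mu_two_eq_zero (hpK : (p : K) ≠ 0)
    (hG : ∀ x : EtCoh.H (Spec (CommRingCat.of K)) (EtCoh.Gm (Spec (CommRingCat.of K))) 2, p • x = 0 → x = 0)
    (y : EtCoh.H (Spec (CommRingCat.of K)) (EtCoh.mu (Spec (CommRingCat.of K)) p) 2) : y = 0 := by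
  have h1 : y.comp (Ext.mk₀ (kumSeq (Spec (CommRingCat.of K)) p).f) (add_zero 2) = 0 := hG _ (by
    let c := AddMonoidHom.mk' (fun w : EtCoh.H (Spec (CommRingCat.of K)) (EtCoh.mu (Spec (CommRingCat.of K)) p) 2 =>
      w.comp (Ext.mk₀ (kumSeq (Spec (CommRingCat.of K)) p).f) (add_zero 2)) fun _ _ => Ext.add_comp _ _ _ _
    show p • c y = 0
    rw [← map_nsmul, nsmul_ext_eq_zero (nsmul_id_mu _ p) y, map_zero])
  obtain ⟨z, hz⟩ := Ext.covariant_sequence_exact₁ _ (kumSeq_shortExact p hpK) y h1 (n₀ := 1) rfl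
  rw [← hz, H1_Gm_eq_zero K z, Ext.zero_comp]

theorem H_zmod_two_eq_zero {ζ : K} (hζ : IsPrimitiveRoot ζ p) (hpK : (p : K) ≠ 0)
    (hG : ∀ x : EtCoh.H (Spec (CommRingCat.of K)) (EtCoh.Gm (Spec (CommRingCat.of K))) 2, p • x = 0 → x = 0)
    (x : EtCoh.H (Spec (CommRingCat.of K)) (EtCoh.const (Spec (CommRingCat.of K)) (ZMod p)) 2) : x = 0 := by
  let X := Spec (CommRingCat.of K)
  let ι : K →+* Γ(X, ⊤) := (Scheme.ΓSpecIso (CommRingCat.of K)).inv.hom
  have hroot : Polynomial.aeval (ι ζ) (Polynomial.cyclotomic p ℤ) = 0 := by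
    have h1 : Polynomial.aeval ζ (Polynomial.cyclotomic p ℤ) = 0 := by
      rw [Polynomial.aeval_def, ← Polynomial.eval_map, Polynomial.map_cyclotomic]
      exact (hζ.isRoot_cyclotomic hp.out.pos).eq_zero
    have := congrArg ι h1
    rw [map_zero, Polynomial.aeval_def, Polynomial.hom_eval₂] at this
    rw [Polynomial.aeval_def, RingHom.ext_int (algebraMap ℤ Γ(X, ⊤)) (ι.comp (algebraMap ℤ K))]
    exact this
  obtain ⟨e⟩ := S13507.nonempty_mu_iso_const X p hp.out.one_le (isUnit_natCast_spec p hpK) (ι ζ) hroot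
  have h2 : x = (x.comp (Ext.mk₀ e.inv) (add_zero _)).comp (Ext.mk₀ e.hom) (add_zero _) := by
    rw [Ext.comp_assoc_of_second_deg_zero, Ext.mk₀_comp_mk₀, Iso.inv_hom_id, Ext.comp_mk₀_id]
  rw [h2, H_mu_two_eq_zero p hpK hG (x.comp (Ext.mk₀ e.inv) (add_zero _)), Ext.zero_comp]

/-- Vanishing propagates to higher degrees. -/
theorem cd_succ (q : ℕ) (hq : 0 < q)
    (ih : ∀ (F : EtCoh.Ab (Spec (CommRingCat.of K))), EtCoh.IsTorsion F →
      ∀ x : EtCoh.H (Spec (CommRingCat.of K)) F q, (∃ m : ℕ, p ^ m • x = 0) → x = 0)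
    (F : EtCoh.Ab (Spec (CommRingCat.of K))) (hF : EtCoh.IsTorsion F)
    (x : EtCoh.H (Spec (CommRingCat.of K)) F (q + 1)) (hx : ∃ m : ℕ, p ^ m • x = 0) : x = 0 := by
  obtain ⟨G, g, y, hG, ⟨m, hm⟩, rfl⟩ := exists_constructible_lift p F hF (q + 1) q.succ_pos x hx
  suffices hy : y = 0 by rw [hy, Ext.zero_comp]
  obtain ⟨L, _, _, _, _, hL⟩ := exists_split hG
  obtain ⟨L', _, _, _, _, hL'⟩ := exists_kill K q G y
  obtain ⟨M, _, _, _, _, _, ⟨σ⟩⟩ := exists_galois K L
  obtain ⟨hs, hf⟩ := hL M σ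
  have hcard : Nat.card (EtCoh.sect G (extObj K M)) • 𝟙 G = 0 :=
    hs.nsmul_id_eq_zero fun a => card_nsmul_eq_zero'
  let S : ShortComplex (EtCoh.Ab (Spec (CommRingCat.of K))) :=
    ShortComplex.mk (indUnit L' G) (cokernel.π (indUnit L' G)) (cokernel.condition _)
  haveI : Mono (indUnit L' G) := mono_indUnit L' G
  have hS : S.ShortExact := { exact := S.exact_of_g_is_cokernel (cokernelIsCokernel _) }
  obtain ⟨z, hz⟩ := Ext.covariant_sequence_exact₁ _ hS y (comp_indUnit_eq_zero K L' (q + 1) y hL') (n₀ := q) rfl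
  have hN0 : Nat.card (EtCoh.sect G (extObj K M)) • 𝟙 (cokernel (indUnit L' G)) = 0 := by
    refine (cancel_epi (cokernel.π (indUnit L' G))).1 ?_
    rw [comp_zero, Preadditive.comp_nsmul, Category.comp_id, ← Category.id_comp (cokernel.π (indUnit L' G)),
      ← Preadditive.nsmul_comp]
    have h1 : Nat.card (EtCoh.sect G (extObj K M)) • 𝟙 (indSh L' G) = 0 := by
      refine ObjectProperty.hom_ext _ (NatTrans.ext (funext fun V => ConcreteCategory.hom_ext _ _ fun s => ?_))
      have h2 := ConcreteCategory.congr_hom (congrArg (fun m : G ⟶ G => m.hom.app (op (bObj L' V.unop))) hcard) s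
      exact h2
    exact (congrArg (· ≫ cokernel.π (indUnit L' G)) h1).trans zero_comp
  haveI := hf
  have hpos : 0 < Nat.card (EtCoh.sect G (extObj K M)) := Nat.card_pos
  obtain ⟨r, rfl⟩ : ∃ r, q = r + 1 := ⟨q - 1, by omega⟩
  obtain ⟨Nz, hNz, hNz0⟩ := isOfFinAddOrder_iff_nsmul_eq_zero.1 (isOfFinAddOrder K _ r z)
  obtain ⟨a, b, hb, rfl⟩ := Nat.exists_eq_pow_mul_and_not_dvd hNz.ne' p hp.out.ne_one
  have hbz : b • z = 0 := ih _ (isTorsion_of_nsmul_id_eq_zero hpos hN0) (b • z) ⟨a, by rw [smul_smul, hNz0]⟩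
  have hby : b • y = 0 := by
    let cl := AddMonoidHom.mk' (fun w : EtCoh.H (Spec (CommRingCat.of K)) S.X₃ (r + 1) =>
      w.comp hS.extClass rfl) fun _ _ => Ext.add_comp _ _ _ _
    rw [← hz]
    show b • cl z = 0
    rw [← map_nsmul, hbz, map_zero]
  have hd : addOrderOf y ∣ 1 := by
    have h1 := Nat.dvd_gcd (addOrderOf_dvd_iff_nsmul_eq_zero.2 hm) (addOrderOf_dvd_iff_nsmul_eq_zero.2 hby)
    exact h1.trans (dvd_of_eq (((Nat.Prime.coprime_iff_not_dvd hp.out).2 hb).pow_left m).gcd_eq_one)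
  exact AddMonoid.addOrderOf_eq_one_iff.1 (Nat.dvd_one.1 hd)

/-- `cd_p ≤ 1` from the vanishing of the `p`-primary Brauer groups of finite extensions. -/
theorem cd_one_of_brauer (hpK : (p : K) ≠ 0)
    (hG : ∀ (E : Type u) [Field E] [Algebra K E] [FiniteDimensional K E] [Algebra.IsSeparable K E]
      (x : EtCoh.H (Spec (CommRingCat.of E)) (EtCoh.Gm (Spec (CommRingCat.of E))) 2), p • x = 0 → x = 0) :
    ∀ (q : ℕ), 1 < q → ∀ (F : EtCoh.Ab (Spec (CommRingCat.of K))), EtCoh.IsTorsion F →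
      ∀ x : EtCoh.H (Spec (CommRingCat.of K)) F q, (∃ m : ℕ, p ^ m • x = 0) → x = 0 := by
  intro q hq
  induction q, hq using Nat.le_induction with
  | base =>
    intro F hF x hx
    refine eq_zero_of_base p 2 (by omega) (fun E _ _ _ _ hE x => ?_) F hF x hx
    have hpE : (p : E) ≠ 0 := by
      rw [← map_natCast (algebraMap K E)]
      exact (map_ne_zero_iff _ (algebraMap K E).injective).2 hpK
    obtain ⟨ζ, hζ⟩ := hE.resolve_left hpE
    exact H_zmod_two_eq_zero p hζ hpE (hG E) x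
  | succ q hq ih => exact fun F hF x hx => cd_succ p q (by omega) ih F hF x hx

/-- The Brauer group has no `p`-torsion when `cd_p ≤ 1` for a field below in an algebraic extension. -/
theorem brauer_eq_zero_of_cd {k : Type u} [Field k]
    (hcd : ∀ (F : EtCoh.Ab (Spec (CommRingCat.of k))), EtCoh.IsTorsion F → ∀ q : ℕ, 1 < q →
        ∀ x : EtCoh.H (Spec (CommRingCat.of k)) F q, (∃ m : ℕ, p ^ m • x = 0) → x = 0)
    [Algebra k K] [Algebra.IsAlgebraic k K] (hpK : (p : K) ≠ 0) :
    ∀ (m : ℕ) (x : EtCoh.H (Spec (CommRingCat.of K)) (EtCoh.Gm (Spec (CommRingCat.of K))) 2), p ^ m • x = 0 → x = 0 := by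
  let X := Spec (CommRingCat.of K)
  let f : X ⟶ Spec (CommRingCat.of k) := Spec.map (CommRingCat.ofHom (algebraMap k K))
  haveI : IsIntegralHom f := by
    rw [IsIntegralHom.SpecMap_iff, CommRingCat.hom_ofHom, algebraMap_isIntegral_iff]
    exact Algebra.IsAlgebraic.isIntegral
  haveI : PreservesFiniteLimits (EtCoh.pull f) := Groth.Agent.S0101.result f
  have hmu : ∀ y : EtCoh.H X (EtCoh.mu X p) 2, y = 0 := by
    intro y
    obtain ⟨z, hz⟩ := (S14451.result f (EtCoh.mu X p) (fun q hq => S3054.result f _ q hq) 2).2 y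
    have hN : p • 𝟙 ((EtCoh.push f).obj (EtCoh.mu X p)) = 0 := by
      rw [← CategoryTheory.Functor.map_id, ← Functor.map_nsmul, nsmul_id_mu, Functor.map_zero]
    rw [← hz, hcd _ (isTorsion_of_nsmul_id_eq_zero hp.out.pos hN) 2 (by omega) z
      ⟨1, by rw [pow_one]; exact nsmul_ext_eq_zero hN z⟩, map_zero]
  intro m
  induction m with
  | zero => exact fun x hx => by rwa [pow_zero, one_nsmul] at hx
  | succ m ih =>
    intro x hx
    refine ih x ?_
    rw [pow_succ', mul_smul] at hx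
    have h2 : (p ^ m • x).comp (Ext.mk₀ (kumSeq X p).g) (add_zero 2) = 0 :=
      (comp_mk₀_nsmul_id p (p ^ m • x)).trans hx
    obtain ⟨y, hy⟩ := Ext.covariant_sequence_exact₂ _ (kumSeq_shortExact p hpK) (p ^ m • x) h2
    rw [← hy, hmu y, Ext.zero_comp]

/-- Surjectivity of norms of degree `p` from the vanishing of the `p`-torsion of the Brauer group. -/
theorem exists_norm_of_brauer (L : Type u) [Field L] [Algebra K L] [FiniteDimensional K L] [IsGalois K L]
    (hL : Module.finrank K L = p)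
    (hG : ∀ x : EtCoh.H (Spec (CommRingCat.of K)) (EtCoh.Gm (Spec (CommRingCat.of K))) 2, p • x = 0 → x = 0)
    (a : Kˣ) : ∃ b : L, Algebra.norm K b = (a : K) := by
  classical
  haveI : IsCyclic (L ≃ₐ[K] L) := isCyclic_of_prime_card (p := p) (by rw [IsGalois.card_aut_eq_finrank, hL])
  obtain ⟨σ, hσ⟩ := IsCyclic.exists_generator (α := L ≃ₐ[K] L)
  let X := Spec (CommRingCat.of K)
  let F := EtCoh.Gm X
  let hT := EtCore.topIsTerminal X
  obtain ⟨I, π, i, ν, w₁, w₂, hS₁, hS₂, hν⟩ := exists_cyclic_sequences L F hσ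
  let a₀ : EtCoh.sect F (EtCoh.top X) :=
    (ULift.up (Additive.ofMul (Units.map (Scheme.ΓSpecIso (CommRingCat.of K)).inv.hom.toMonoidHom a)) :
      ULift.{u + 1} (Additive ((Γ(Spec (CommRingCat.of K), ⊤) : Type u)ˣ)))
  let γ := (Sheaf.H.equiv₀ F hT).symm a₀
  have hα : (γ.comp hS₂.extClass rfl).comp hS₁.extClass rfl = (0 : EtCoh.H X F 2) := by
    refine hG _ ?_
    haveI := mono_indUnit L F
    have hun : indUnit L F ≫ ν = p • 𝟙 F := by
      rw [← cancel_mono (indUnit L F), Category.assoc, hν, indNorm, Preadditive.comp_sum,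
        Finset.sum_congr rfl fun g _ => indUnit_act L F g, Finset.sum_const, Finset.card_univ,
        ← Nat.card_eq_fintype_card, IsGalois.card_aut_eq_finrank, hL, Preadditive.nsmul_comp, Category.id_comp]
    have hpγ : (p • γ).comp hS₂.extClass rfl = (0 : EtCoh.H X I 1) := by
      rw [← comp_mk₀_nsmul_id p γ, ← hun, ← Ext.mk₀_comp_mk₀, ← Ext.comp_assoc_of_second_deg_zero]
      refine (Ext.comp_assoc_of_second_deg_zero _ (Ext.mk₀ ν) hS₂.extClass rfl).trans ?_
      exact (congrArg (fun w => Ext.comp _ w (zero_add 1)) hS₂.comp_extClass).trans (Ext.comp_zero _ _ _ _ _)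
    let c := AddMonoidHom.mk' (fun w : EtCoh.H X F 0 => ((w.comp hS₂.extClass rfl).comp hS₁.extClass rfl : EtCoh.H X F 2))
      fun v w => by simp only [Ext.add_comp]
    show p • c γ = 0
    rw [← map_nsmul]
    show ((p • γ).comp hS₂.extClass rfl).comp hS₁.extClass rfl = (0 : EtCoh.H X F 2)
    rw [hpγ, Ext.zero_comp]
  have hind : ∀ x : EtCoh.H X (indSh L F) 1, x = 0 :=
    fun x => eq_zero_indSh K L (restrGm (specπ K L)) 1 (fun y => H1_Gm_eq_zero L y) x
  have hβ : γ.comp hS₂.extClass rfl = (0 : EtCoh.H X I 1) := by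
    obtain ⟨z, hz⟩ := Ext.covariant_sequence_exact₃ _ hS₁ (γ.comp hS₂.extClass rfl) rfl hα
    rw [← hz, hind z, Ext.zero_comp]
  obtain ⟨z, hz⟩ := Ext.covariant_sequence_exact₃ _ hS₂ γ rfl hβ
  let y := Sheaf.H.equiv₀ (indSh L F) hT z
  have hy : ν.hom.app (op (EtCoh.top X)) y = a₀ := by
    have h1 : Sheaf.H.map ν 0 z = γ := by rw [Sheaf.H.map_apply]; exact hz
    have h2 : Sheaf.H.map ν 0 ((Sheaf.H.equiv₀ (indSh L F) hT).symm y) = γ := by
      rw [AddEquiv.symm_apply_apply]; exact h1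
    rw [Sheaf.H.equiv₀_symm_naturality] at h2
    exact (Sheaf.H.equiv₀ F hT).symm.injective h2
  let q : bObj L (EtCoh.top X) ⟶ extObj K L :=
    MorphismProperty.Over.homMk (pullback.snd (𝟙 X) (specπ K L)) rfl
  haveI : IsIso q.left := inferInstanceAs (IsIso (pullback.snd (𝟙 X) (specπ K L)))
  haveI h0 : IsIso ((Scheme.Etale.forget X ⋙ Over.forget X).map q) := (inferInstance : IsIso q.left)
  haveI : IsIso q := isIso_of_reflects_iso q (Scheme.Etale.forget X ⋙ Over.forget X)
  have hqb : Function.Bijective (F.obj.map q.op) := ConcreteCategory.bijective_of_isIso _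
  obtain ⟨t, ht⟩ := hqb.2 y
  obtain ⟨b, rfl⟩ := unitSect_bijective.2 t
  refine ⟨b, ?_⟩
  have hqγ : ∀ g : L ≃ₐ[K] L, bγ (EtCoh.top X) g ≫ q = q ≫ galMap g := fun g =>
    MorphismProperty.Over.Hom.ext (bγ_left_snd (EtCoh.top X) g)
  have h3 : (indNorm L F).hom.app (op (EtCoh.top X)) y = (indUnit L F).hom.app (op (EtCoh.top X)) a₀ := by
    rw [← hy, ← hν]
    rfl
  rw [indNorm_app, ← ht] at h3
  have hmap : ∀ g : L ≃ₐ[K] L, F.obj.map (bγ (EtCoh.top X) g).op (F.obj.map q.op (unitSect b)) =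
      F.obj.map q.op (unitSect (g • b)) := fun g => by
    rw [← Functor.map_comp_apply, ← op_comp, hqγ, op_comp, Functor.map_comp_apply, map_galMap_unitSect]
  rw [Finset.sum_congr rfl fun g _ => hmap g, ← map_sum] at h3
  have hfrom : (hT.from (extObj K L)).left = specπ K L :=
    (Category.comp_id _).symm.trans (MorphismProperty.Over.w (hT.from (extObj K L)))
  have hrhs : (indUnit L F).hom.app (op (EtCoh.top X)) a₀ =
      F.obj.map q.op (unitSect (Units.map (algebraMap K L).toMonoidHom a)) := by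
    show F.obj.map (bε (EtCoh.top X)).op a₀ = _
    rw [show bε (EtCoh.top X) = q ≫ hT.from (extObj K L) from hT.hom_ext _ _, op_comp, Functor.map_comp_apply]
    refine congrArg (F.obj.map q.op) ?_
    show (ULift.up (Additive.ofMul (Units.map (hT.from (extObj K L)).left.appTop.hom.toMonoidHom
      (Units.map (Scheme.ΓSpecIso (CommRingCat.of K)).inv.hom.toMonoidHom a))) :
        ULift.{u + 1} (Additive ((Γ(Spec (CommRingCat.of L), ⊤) : Type u)ˣ))) = _
    refine congrArg (fun z => ULift.up (Additive.ofMul z)) (Units.ext ?_)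
    show (hT.from (extObj K L)).left.appTop ((Scheme.ΓSpecIso (CommRingCat.of K)).inv (a : K)) =
      (Scheme.ΓSpecIso (CommRingCat.of L)).inv (algebraMap K L a)
    rw [hfrom]
    exact (ConcreteCategory.congr_hom (Scheme.ΓSpecIso_inv_naturality (CommRingCat.ofHom (algebraMap K L))) (a : K)).symm
  have h4 := hqb.1 (h3.trans hrhs)
  let u : Additive Lˣ →+ EtCoh.sect F (extObj K L) :=
    AddMonoidHom.mk' (fun z => unitSect z.toMul) fun z z' => unitSect_mul _ _
  have h5 := unitSect_bijective.1 ((map_sum u (fun g => Additive.ofMul (g • b)) Finset.univ).trans h4)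
  have h6 := congrArg Units.val h5
  rw [← ofMul_prod, toMul_ofMul, Units.coe_prod] at h6
  apply (algebraMap K L).injective
  rw [Algebra.norm_eq_prod_automorphisms]
  exact h6

/-- Norms from Galois extensions of degree `p` of finite separable extensions are surjective. -/
def NormP (p : ℕ) (K : Type u) [Field K] : Prop :=
  ∀ (E L : Type u) [Field E] [Field L] [Algebra K E] [Algebra E L], FiniteDimensional K E → Algebra.IsSeparable K E →
    FiniteDimensional E L → IsGalois E L → Module.finrank E L = p → ∀ a : Eˣ, ∃ b : L, Algebra.norm E b = (a : E)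

omit hp in
theorem NormP.of_finite {K : Type u} [Field K] (h : NormP p K) (K' : Type u) [Field K'] [Algebra K K']
    [FiniteDimensional K K'] [Algebra.IsSeparable K K'] : NormP p K' := by
  intro E L _ _ _ _ _ _ _ _ hd a
  letI : Algebra K E := ((algebraMap K' E).comp (algebraMap K K')).toAlgebra
  haveI : IsScalarTower K K' E := IsScalarTower.of_algebraMap_eq fun _ => rfl
  exact h E L (FiniteDimensional.trans K K' E) (Algebra.IsSeparable.trans K K' E) inferInstance inferInstance hd a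

theorem brauer_pgroup : ∀ (N : ℕ) (E M : Type u) [Field E] [Field M] [Algebra E M]
    [FiniteDimensional E M] [IsGalois E M], NormP p E → Module.finrank E M = p ^ N →
    ∀ α : EtCoh.H (Spec (CommRingCat.of E)) (EtCoh.Gm (Spec (CommRingCat.of E))) 2,
      Ext.mapExactFunctor (EtCoh.pull (specπ E M)) α = 0 → α = 0 := by
  intro N
  induction N with
  | zero =>
    intro E M _ _ _ _ _ _ hN α hα
    have := finrank_nsmul_eq_zero E M _ _ α hα
    rwa [hN, pow_zero, one_smul] at this
  | succ N ih =>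
    intro E M _ _ _ _ _ hK hN α hα
    have hcard : Nat.card (M ≃ₐ[E] M) = p ^ (N + 1) := by rw [IsGalois.card_aut_eq_finrank, hN]
    obtain ⟨H, hH⟩ := Sylow.exists_subgroup_card_pow_prime (G := M ≃ₐ[E] M) p (n := N)
      (hcard ▸ pow_dvd_pow p (Nat.le_succ N))
    have hidx : H.index = p := by
      have := Subgroup.card_mul_index H
      rw [hH, hcard, pow_succ] at this
      exact Nat.eq_of_mul_eq_mul_left (pow_pos hp.out.pos N) this
    haveI : H.Normal := Subgroup.normal_of_index_eq_minFac_card (by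
      rw [hidx, hcard, Nat.pow_minFac N.succ_ne_zero, hp.out.minFac_eq])
    let E₁ := IntermediateField.fixedField H
    haveI : IsGalois E E₁ := IsGalois.of_fixedField_normal_subgroup H
    have hM1 : Module.finrank E₁ M = p ^ N := (IntermediateField.finrank_fixedField_eq_card H).trans hH
    have h1 : Module.finrank E E₁ = p := by
      refine Nat.eq_of_mul_eq_mul_right (pow_pos hp.out.pos N) ?_
      rw [← hM1, Module.finrank_mul_finrank, hN, hM1, pow_succ, mul_comm]
    have hres := ih E₁ M (hK.of_finite p E₁) hM1 (gmRes E E₁ α) ((mapExact_gmRes_eq_zero_iff E E₁ M α).2 hα)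
    haveI : IsCyclic (E₁ ≃ₐ[E] E₁) := isCyclic_of_prime_card (p := p) (by rw [IsGalois.card_aut_eq_finrank, h1])
    obtain ⟨σ, hσ⟩ := IsCyclic.exists_generator (α := E₁ ≃ₐ[E] E₁)
    refine eq_zero_of_cyclic hσ (fun a => ?_) 0 (fun x => H1_Gm_eq_zero E₁ x) (fun h => absurd h (lt_irrefl 0)) α
      ((conjExt_eq_zero_iff _ _ _).1 hres)
    exact hK E E₁ inferInstance inferInstance inferInstance inferInstance h1 a

/-- The Brauer group has no `p`-primary part when norms of degree `p` are surjective. -/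
theorem brauer_eq_zero_of_normP (hK : NormP p K)
    (α : EtCoh.H (Spec (CommRingCat.of K)) (EtCoh.Gm (Spec (CommRingCat.of K))) 2) (m : ℕ) (hm : p ^ m • α = 0) :
    α = 0 := by
  obtain ⟨L, _, _, _, _, hL⟩ := exists_kill K 1 _ α
  obtain ⟨M, _, _, _, _, _, ⟨σ⟩⟩ := exists_galois K L
  have hM : Ext.mapExactFunctor (EtCoh.pull (specπ K M)) α = 0 := by
    letI : Algebra L M := σ.toRingHom.toAlgebra
    haveI : IsScalarTower K L M := IsScalarTower.of_algebraMap_eq fun x => (σ.commutes x).symm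
    haveI : FiniteDimensional L M := FiniteDimensional.right K L M
    haveI : Algebra.IsSeparable L M := Algebra.isSeparable_tower_top_of_isSeparable K L M
    refine (mapExact_gmRes_eq_zero_iff K L M α).1 ?_
    have : gmRes K L α = 0 := (conjExt_eq_zero_iff _ _ _).2 hL
    rw [this, Ext.mapExactFunctor_zero]
  let P : Sylow p (M ≃ₐ[K] M) := default
  let E := IntermediateField.fixedField (P : Subgroup (M ≃ₐ[K] M))
  obtain ⟨N, hN⟩ := IsPGroup.iff_card.1 P.isPGroup'
  have hME : Module.finrank E M = p ^ N := (IntermediateField.finrank_fixedField_eq_card _).trans hN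
  have hE : Module.finrank K E = (P : Subgroup (M ≃ₐ[K] M)).index := by
    refine Nat.eq_of_mul_eq_mul_right (Module.finrank_pos : 0 < Module.finrank E M) ?_
    rw [Module.finrank_mul_finrank, hME, ← hN, Subgroup.index_mul_card, IsGalois.card_aut_eq_finrank]
  haveI : IsGalois E M := IsGalois.tower_top_intermediateField E
  have h0 := brauer_pgroup p N E M (hK.of_finite p E) hME (gmRes K E α) ((mapExact_gmRes_eq_zero_iff K E M α).2 hM)
  have h1 := Nat.dvd_gcd (addOrderOf_dvd_iff_nsmul_eq_zero.2 hm)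
    (addOrderOf_dvd_iff_nsmul_eq_zero.2 (nsmul_eq_zero_of_gmRes K E α h0))
  rw [hE] at h1
  exact AddMonoid.addOrderOf_eq_one_iff.1 (Nat.dvd_one.1
    (h1.trans (dvd_of_eq (((Nat.Prime.coprime_iff_not_dvd hp.out).2 P.not_dvd_index).pow_left m).gcd_eq_one)))

end Groth.Agent.EtTraceLib
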