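import Groth.Agent.EtTraceLib.GmVanish
import Groth.Agent.EtTraceLib.GalEasy
import Groth.Agent.EtPtsLib.GermEq
import Groth.Agent.FLCLib.Basic
import Mathlib.GroupTheory.Sylow

/-!
# Dévissage of finite sheaves split by a Galois extension of prime power degree
-/

set_option autoImplicit false
set_option backward.isDefEq.respectTransparency false
set_option backward.isDefEq.respectTransparency.types false
set_option linter.style.haveILetI false
set_option maxHeartbeats 1000000

universe u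

open CategoryTheory CategoryTheory.Limits AlgebraicGeometry Opposite CategoryTheory.Abelian

noncomputable section

namespace Groth.Agent.EtTraceLib

open EtPtsLib

variable (k M : Type u) [Field k] [Field M] [Algebra k M] [FiniteDimensional k M] [Algebra.IsSeparable k M]

/-- The structure map of the extension. -/
abbrev extTop : extObj k M ⟶ EtCoh.top (Spec (CommRingCat.of k)) :=
  (EtCore.topIsTerminal (Spec (CommRingCat.of k))).from (extObj k M)

theorem extTop_surjective : Function.Surjective (extTop k M).left := fun x =>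
  ⟨IsLocalRing.closedPoint M, Subsingleton.elim (α := PrimeSpectrum k) _ _⟩

/-- A sheaf with sections over `M` equal to all its stalks. -/
def SplitBy (F : EtCoh.Ab (Spec (CommRingCat.of k))) : Prop :=
  ∀ (Ω : Type u) [Field Ω] [IsSepClosed Ω] (ξ : Spec (CommRingCat.of Ω) ⟶ Spec (CommRingCat.of k))
    (l : (Scheme.pointSmallEtale ξ).fiber.obj (extObj k M)), Function.Bijective (germ ξ F l)

variable {k M}

theorem splitBy_of_isConstOn {F : EtCoh.Ab (Spec (CommRingCat.of k))} {N : AddCommGrpCat.{u + 1}} [Finite N]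
    {θ : N ⟶ F.obj.obj (op (extObj k M))} (h : FLCLib.IsConstOn F (extObj k M) θ) :
    SplitBy k M F ∧ Finite (EtCoh.sect F (extObj k M)) := by
  have hsub : Subsingleton (extObj k M).left := inferInstanceAs (Subsingleton (PrimeSpectrum M))
  have hθ : Function.Surjective θ := fun s => by
    obtain ⟨l₀, -⟩ := exists_lift_geomPt (U := extObj k M) (IsLocalRing.closedPoint M)
    obtain ⟨n, hn⟩ := (h _ _ l₀).2 (germ _ F l₀ s)
    refine ⟨n, sect_ext F _ _ _ fun Ω _ _ ξ l => ?_⟩
    obtain ⟨V, g, y, hy, hV⟩ :=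
      ((Scheme.pointSmallEtale _).toPresheafFiber_eq_iff' (extObj k M) l₀ (θ n) s).1 hn
    have hg : Function.Surjective g.left := fun x => ⟨liftHom _ y default, Subsingleton.elim _ _⟩
    rw [sub_eq_zero.1 (eq_zero_of_surjective_map F g hg (θ n - s) (by rw [map_sub, hV, sub_self]))]
  refine ⟨fun Ω _ _ ξ l => ⟨fun a b hab => ?_, fun x => ?_⟩, Finite.of_surjective θ hθ⟩
  · obtain ⟨a', rfl⟩ := hθ a
    obtain ⟨b', rfl⟩ := hθ b
    exact congrArg θ ((h Ω ξ l).1 hab)
  · obtain ⟨n, hn⟩ := (h Ω ξ l).2 x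
    exact ⟨θ n, hn⟩

theorem exists_lift_ext {Ω : Type u} [Field Ω] [IsSepClosed Ω] (ξ : Spec (CommRingCat.of Ω) ⟶ Spec (CommRingCat.of k))
    (l₀ : (Scheme.pointSmallEtale ξ).fiber.obj (EtCoh.top (Spec (CommRingCat.of k)))) :
    ∃ l, (Scheme.pointSmallEtale ξ).fiber.map (extTop k M) l = l₀ := by
  obtain ⟨v, hv⟩ := extTop_surjective k M (liftHom ξ l₀ default)
  exact exists_fiber_map_eq ξ (extTop k M) l₀ v hv

theorem exists_lift_geom {Ω : Type u} [Field Ω] [IsSepClosed Ω] (ξ : Spec (CommRingCat.of Ω) ⟶ Spec (CommRingCat.of k)) :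
    Nonempty ((Scheme.pointSmallEtale ξ).fiber.obj (extObj k M)) := by
  obtain ⟨l, -⟩ := exists_lift_ext (M := M) ξ (topLift ξ)
  exact ⟨l⟩

theorem SplitBy.nsmul_id_eq_zero {F : EtCoh.Ab (Spec (CommRingCat.of k))} (h : SplitBy k M F) {N : ℕ}
    (hN : ∀ a : EtCoh.sect F (extObj k M), N • a = 0) : N • 𝟙 F = 0 := by
  refine ObjectProperty.hom_ext _ (NatTrans.ext (funext fun V => ConcreteCategory.hom_ext _ _ fun s => ?_))
  refine sect_ext F V.unop _ _ fun Ω _ _ ξ l => ?_
  obtain ⟨l'⟩ := exists_lift_geom (M := M) ξ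
  obtain ⟨a, ha⟩ := (h Ω ξ l').2 (germ ξ F l s)
  show germ ξ F l ((N • 𝟙 F).hom.app V s) = germ ξ F l ((0 : F ⟶ F).hom.app V s)
  have h1 : (N • 𝟙 F).hom.app V s = N • (s : EtCoh.sect F V.unop) :=
    map_nsmul (evalHom (F := F) (G := F) V.unop s) N (𝟙 F)
  have h2 : (0 : F ⟶ F).hom.app V s = (0 : EtCoh.sect F V.unop) := map_zero (evalHom (F := F) (G := F) V.unop s)
  rw [h1, h2]
  let γ : ∀ (U : (Spec (CommRingCat.of k)).Etale), (Scheme.pointSmallEtale ξ).fiber.obj U →
      EtCoh.sect F U →+ ((EtCoh.stalk ξ).obj F : Type (u + 1)) :=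
    fun U lU => ((Scheme.pointSmallEtale ξ).toPresheafFiber U lU F.obj).hom
  refine (map_nsmul (γ V.unop l) N s).trans ?_
  refine (congrArg (N • ·) (show γ V.unop l s = γ _ l' a from ha.symm)).trans ?_
  exact (map_nsmul (γ _ l') N a).symm.trans ((congrArg (γ _ l') (hN a)).trans ((map_zero (γ _ l')).trans (map_zero (γ V.unop l)).symm))

/-- Invariant sections over `M` descend. -/
theorem exists_descend_ext [IsGalois k M] (F : EtCoh.Ab (Spec (CommRingCat.of k))) (t : EtCoh.sect F (extObj k M))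
    (ht : ∀ g : M ≃ₐ[k] M, F.obj.map (galMap g).op t = t) :
    ∃ s : EtCoh.sect F (EtCoh.top (Spec (CommRingCat.of k))), F.obj.map (extTop k M).op s = t := by
  let X := Spec (CommRingCat.of k)
  let P : X.Etaleᵒᵖ ⥤ Type (u + 1) := F.obj ⋙ forget AddCommGrpCat.{u + 1}
  have hP : Presieve.IsSheaf X.smallEtaleTopology P :=
    (isSheaf_iff_isSheaf_of_type _ _).1
      ((Presheaf.isSheaf_iff_isSheaf_forget X.smallEtaleTopology F.obj (forget AddCommGrpCat.{u + 1})).1 F.property)
  have hc : Sieve.ofArrows (fun _ : PUnit.{u + 1} => extObj k M) (fun _ => extTop k M) ∈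
      X.smallEtaleTopology (EtCoh.top X) := by
    rw [Scheme.ofArrows_mem_smallEtaleTopology_iff]
    exact Set.eq_univ_of_forall fun z => Set.mem_iUnion.2 ⟨⟨⟩, extTop_surjective k M z⟩
  have hs := (Presieve.isSheafFor_iff_generate _).2 (hP _ hc)
  obtain ⟨s, hs', -⟩ := (Presieve.isSheafFor_arrows_iff _ _).1 hs (fun _ => t) fun _ _ Z a b _ => by
    show F.obj.map a.op t = F.obj.map b.op t
    refine sub_eq_zero.1 (sect_eq_zero_of_locally F _ fun z => ?_)
    let σ := bSec b 1
    let π : bObj M Z ⟶ extObj k M :=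
      MorphismProperty.Over.homMk (pullback.snd Z.hom (specπ k M)) rfl
    have hπ : ∀ (c : Z ⟶ extObj k M) (g : M ≃ₐ[k] M), bSec c g ≫ π = c ≫ galMap g := fun c g =>
      MorphismProperty.Over.Hom.ext (bSec_left_snd c g)
    obtain ⟨g, z', hz'⟩ := bSec_cover a (σ.left z)
    haveI := bSec_left_isOpenImmersion a g
    let W : Z.left.Opens := σ.left ⁻¹ᵁ (bSec a g).left.opensRange
    have hW : Set.range (W.ι ≫ σ.left) ⊆ Set.range (bSec a g).left := by
      rintro _ ⟨w, rfl⟩
      exact w.2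
    let l : W.toScheme ⟶ Z.left := IsOpenImmersion.lift (bSec a g).left (W.ι ≫ σ.left) hW
    have hl : l ≫ (bSec a g).left = W.ι ≫ σ.left := IsOpenImmersion.lift_fac _ _ hW
    have hlι : l = W.ι := by
      have h1 := congrArg (· ≫ pullback.fst Z.hom (specπ k M)) hl
      simp only [Category.assoc, σ] at h1
      erw [bSec_left_fst, bSec_left_fst] at h1
      simpa using h1
    have hab : openIncl Z W ≫ b = openIncl Z W ≫ a ≫ galMap g := by
      have e : openIncl Z W ≫ bSec a g = openIncl Z W ≫ σ :=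
        MorphismProperty.Over.Hom.ext (show W.ι ≫ (bSec a g).left = W.ι ≫ σ.left by rw [← hl, hlι])
      have e1 := congrArg (· ≫ π) e
      simp only [Category.assoc, σ, hπ] at e1
      have h1 : galMap (1 : M ≃ₐ[k] M) = 𝟙 (extObj k M) :=
        MorphismProperty.Over.Hom.ext (by
          show Spec.map (CommRingCat.ofHom (RingHom.id M)) = 𝟙 _
          exact Spec.map_id _)
      rw [h1, Category.comp_id] at e1
      exact e1.symm
    refine ⟨openSub Z W, openIncl Z W, ⟨⟨z, ?_⟩, rfl⟩, ?_⟩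
    · exact ⟨z', hz'⟩
    · rw [map_sub, sub_eq_zero, ← Functor.map_comp_apply, ← Functor.map_comp_apply, ← op_comp, ← op_comp, hab,
        op_comp, op_comp, op_comp, Functor.map_comp_apply, Functor.map_comp_apply, Functor.map_comp_apply, ht g]
  exact ⟨s, hs' ⟨⟩⟩

/-- The action of the Galois group on the sections over `M`. -/
theorem exists_fixed (p : ℕ) [hp : Fact p.Prime] [IsGalois k M] {N : ℕ} (hN : Module.finrank k M = p ^ N)
    (F : EtCoh.Ab (Spec (CommRingCat.of k))) [Finite (EtCoh.sect F (extObj k M))]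
    (hA : p ∣ Nat.card (EtCoh.sect F (extObj k M))) :
    ∃ t : EtCoh.sect F (extObj k M), t ≠ 0 ∧ p • t = 0 ∧ ∀ g : M ≃ₐ[k] M, F.obj.map (galMap g).op t = t := by
  let A : Type (u + 1) := EtCoh.sect F (extObj k M)
  let S : Type (u + 1) := {a : A // p • a = 0}
  have hact : ∀ (g h : M ≃ₐ[k] M) (a : A), F.obj.map (galMap (g * h)).op a =
      F.obj.map (galMap g).op (F.obj.map (galMap h).op a) := fun g h a => by
    rw [galMap_mul, op_comp, Functor.map_comp_apply]
  have hone : ∀ a : A, F.obj.map (galMap (1 : M ≃ₐ[k] M)).op a = a := fun a => by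
    rw [show galMap (1 : M ≃ₐ[k] M) = 𝟙 (extObj k M) from MorphismProperty.Over.Hom.ext (by
      show Spec.map (CommRingCat.ofHom (RingHom.id M)) = 𝟙 _
      exact Spec.map_id _), op_id, CategoryTheory.Functor.map_id]
    rfl
  letI : MulAction (M ≃ₐ[k] M) S :=
    { smul := fun g a => ⟨F.obj.map (galMap g).op a.1, by rw [← map_nsmul, a.2, map_zero]⟩
      one_smul := fun a => Subtype.ext (hone a.1)
      mul_smul := fun g h a => Subtype.ext (hact g h a.1) }
  haveI : Finite S := Subtype.finite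
  have hG : IsPGroup p (M ≃ₐ[k] M) := IsPGroup.of_card (n := N) (by rw [IsGalois.card_aut_eq_finrank, hN])
  have hmod := hG.card_modEq_card_fixedPoints S
  haveI := Fintype.ofFinite A
  obtain ⟨a, ha⟩ := exists_prime_addOrderOf_dvd_card (G := A) p (by rwa [← Nat.card_eq_fintype_card])
  have hpS : p ∣ Nat.card S := by
    let Hs : AddSubgroup A := (nsmulAddMonoidHom p).ker
    have e : Nat.card S = Nat.card Hs := rfl
    rw [e]
    have hmem : a ∈ Hs := by
      show p • a = 0
      rw [← ha]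
      exact addOrderOf_nsmul_eq_zero a
    have h1 : addOrderOf (⟨a, hmem⟩ : Hs) = p := by rw [← ha]; exact (AddSubgroup.addOrderOf_coe _).symm
    rw [← h1]
    exact addOrderOf_dvd_natCard _
  let z : MulAction.fixedPoints (M ≃ₐ[k] M) S :=
    ⟨⟨0, smul_zero p⟩, fun g => Subtype.ext (map_zero (F.obj.map (galMap g).op).hom)⟩
  haveI : Nonempty (MulAction.fixedPoints (M ≃ₐ[k] M) S) := ⟨z⟩
  have hdvd : p ∣ Nat.card (MulAction.fixedPoints (M ≃ₐ[k] M) S) :=
    Nat.modEq_zero_iff_dvd.1 (hmod.symm.trans (Nat.modEq_zero_iff_dvd.2 hpS))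
  have h2 : 1 < Nat.card (MulAction.fixedPoints (M ≃ₐ[k] M) S) :=
    lt_of_lt_of_le hp.out.one_lt (Nat.le_of_dvd Nat.card_pos hdvd)
  haveI : Nontrivial (MulAction.fixedPoints (M ≃ₐ[k] M) S) := Finite.one_lt_card_iff_nontrivial.1 h2
  obtain ⟨w, hw⟩ := exists_ne z
  exact ⟨w.1.1, fun h => hw (Subtype.ext (Subtype.ext h)), w.1.2, fun g => congrArg Subtype.val (w.2 g)⟩

/-- A morphism out of a constant sheaf `ℤ/p`. -/
theorem exists_mono_zmod (p : ℕ) [hp : Fact p.Prime] {F : EtCoh.Ab (Spec (CommRingCat.of k))} (h : SplitBy k M F)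
    (s : EtCoh.sect F (EtCoh.top (Spec (CommRingCat.of k)))) (hs : p • s = 0)
    (ht : F.obj.map (extTop k M).op s ≠ 0) :
    ∃ φ : EtCoh.const (Spec (CommRingCat.of k)) (ZMod p) ⟶ F, Mono φ ∧
      φ.hom.app (op (extObj k M)) (cst (AddCommGrpCat.of (ULift.{u + 1} (ZMod p))) (extObj k M) (ULift.up 1)) =
        F.obj.map (extTop k M).op s := by
  let X := Spec (CommRingCat.of k)
  let hT := EtCore.topIsTerminal X
  let A := constantSheafAdj X.smallEtaleTopology AddCommGrpCat.{u + 1} hT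
  let C := AddCommGrpCat.of (ULift.{u + 1} (ZMod p))
  let h₀ : ZMod p →+ EtCoh.sect F (EtCoh.top X) := ZMod.lift p ⟨zmultiplesHom _ s, by simpa using hs⟩
  let f₀ : C ⟶ F.obj.obj (op (EtCoh.top X)) :=
    AddCommGrpCat.ofHom (h₀.comp AddEquiv.ulift.toAddMonoidHom)
  let φ := (A.homEquiv C F).symm f₀
  have htop : ∀ c : C, φ.hom.app (op (EtCoh.top X)) (cst C (EtCoh.top X) c) = f₀ c := fun c => by
    have e : A.homEquiv C F φ = f₀ := Equiv.apply_symm_apply _ _
    rw [← e]
    rfl
  have hV : ∀ (V : X.Etale) (c : C), φ.hom.app (op V) (cst C V c) = F.obj.map (hT.from V).op (f₀ c) := fun V c => by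
    rw [← htop, ← ConcreteCategory.congr_hom (cst_map C (hT.from V)) c]
    exact NatTrans.naturality_apply φ.hom (hT.from V).op _
  have h1 : f₀ (ULift.up 1) = s := by
    show h₀ 1 = s
    rw [show (1 : ZMod p) = ((1 : ℤ) : ZMod p) from Int.cast_one.symm, ZMod.lift_coe]
    exact one_zsmul s
  refine ⟨φ, (mono_iff_ab φ).2 fun Ω _ _ ξ => ?_, (hV _ _).trans (by rw [h1])⟩
  obtain ⟨l⟩ := exists_lift_geom (M := M) ξ
  have hinj : Function.Injective fun c : C => F.obj.map (extTop k M).op (f₀ c) := by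
    intro c d hcd
    let ψ : ZMod p →+ EtCoh.sect F (extObj k M) :=
      (F.obj.map (extTop k M).op).hom.comp h₀
    have hψ : Function.Injective ψ := by
      refine (injective_iff_map_eq_zero ψ).2 fun e he => ?_
      by_contra he0
      refine ht ?_
      have h3 : ψ 1 = 0 := by
        obtain ⟨j, hj⟩ : ∃ j : ℕ, (j : ZMod p) * e = 1 :=
          ⟨(e⁻¹).val, by rw [ZMod.natCast_zmod_val]; exact inv_mul_cancel₀ he0⟩
        rw [← hj, ← nsmul_eq_mul, map_nsmul, he, nsmul_zero]
      have h4 : ψ 1 = F.obj.map (extTop k M).op s := by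
        show F.obj.map (extTop k M).op (h₀ 1) = _
        exact congrArg _ h1
      exact h4.symm.trans h3
    exact ULift.ext _ _ (hψ hcd)
  intro a b hab
  obtain ⟨c, rfl⟩ := (germ_cst_bijective ξ C l).2 a
  obtain ⟨d, rfl⟩ := (germ_cst_bijective ξ C l).2 b
  have e : ∀ c : C, (EtCoh.stalk ξ).map φ (germ ξ _ l (cst C (extObj k M) c)) =
      germ ξ F l (F.obj.map (extTop k M).op (f₀ c)) := fun c => by
    rw [← hV]
    exact ((Scheme.pointSmallEtale ξ).toPresheafFiber_naturality_apply φ.hom (extObj k M) l _)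
  have hab' := ((e c).symm.trans hab).trans (e d)
  rw [hinj ((h Ω ξ l).1 hab')]

/-- The quotient by a subsheaf of a split sheaf is split. -/
theorem SplitBy.cokernel {F C : EtCoh.Ab (Spec (CommRingCat.of k))} (h : SplitBy k M F) (π : F ⟶ C) [Epi π] :
    SplitBy k M C ∧ Function.Surjective (π.hom.app (op (extObj k M))) := by
  have hsub : Subsingleton (extObj k M).left := inferInstanceAs (Subsingleton (PrimeSpectrum M))
  have hinj : ∀ (Ω : Type u) [Field Ω] [IsSepClosed Ω] (ξ : Spec (CommRingCat.of Ω) ⟶ Spec (CommRingCat.of k))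
      (l : (Scheme.pointSmallEtale ξ).fiber.obj (extObj k M)), Function.Injective (germ ξ C l) := by
    intro Ω _ _ ξ l a b hab
    obtain ⟨V, g, y, hy, hV⟩ := ((Scheme.pointSmallEtale ξ).toPresheafFiber_eq_iff' (extObj k M) l a b).1 hab
    have hg : Function.Surjective g.left := fun x => ⟨liftHom ξ y default, Subsingleton.elim _ _⟩
    exact sub_eq_zero.1 (eq_zero_of_surjective_map C g hg (a - b) (by rw [map_sub, hV, sub_self]))
  have hsurj : ∀ (Ω : Type u) [Field Ω] [IsSepClosed Ω] (ξ : Spec (CommRingCat.of Ω) ⟶ Spec (CommRingCat.of k))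
      (l : (Scheme.pointSmallEtale ξ).fiber.obj (extObj k M)) (x : (EtCoh.stalk ξ).obj C),
      ∃ a, germ ξ C l (π.hom.app (op (extObj k M)) a) = x := by
    intro Ω _ _ ξ l x
    obtain ⟨x', rfl⟩ := (epi_iff_ab π).1 inferInstance Ω ξ x
    obtain ⟨a, rfl⟩ := (h Ω ξ l).2 x'
    exact ⟨a, ((Scheme.pointSmallEtale ξ).toPresheafFiber_naturality_apply π.hom (extObj k M) l a).symm⟩
  refine ⟨fun Ω _ _ ξ l => ⟨hinj Ω ξ l, fun x => ?_⟩, fun b => ?_⟩
  · obtain ⟨a, ha⟩ := hsurj Ω ξ l x
    exact ⟨_, ha⟩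
  · obtain ⟨l₀, -⟩ := exists_lift_geomPt (U := extObj k M) (IsLocalRing.closedPoint M)
    obtain ⟨a, ha⟩ := hsurj _ _ l₀ (germ _ C l₀ b)
    exact ⟨a, hinj _ _ l₀ ha⟩

/-- Dévissage: vanishing of the `p`-primary part follows from that for `ℤ/p`. -/
theorem devissage (p : ℕ) [hp : Fact p.Prime] [IsGalois k M] {N : ℕ} (hN : Module.finrank k M = p ^ N) (q : ℕ)
    (hbase : ∀ x : EtCoh.H (Spec (CommRingCat.of k)) (EtCoh.const (Spec (CommRingCat.of k)) (ZMod p)) q, x = 0) :
    ∀ (c : ℕ) (F : EtCoh.Ab (Spec (CommRingCat.of k))), SplitBy k M F → Finite (EtCoh.sect F (extObj k M)) →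
      Nat.card (EtCoh.sect F (extObj k M)) = c →
      ∀ x : EtCoh.H (Spec (CommRingCat.of k)) F q, (∃ m : ℕ, p ^ m • x = 0) → x = 0 := by
  intro c
  induction c using Nat.strong_induction_on with
  | _ c ih =>
    intro F hF hfin hc x hx
    obtain ⟨m, hm⟩ := hx
    by_cases hpc : p ∣ c
    swap
    · have h0 : c • x = 0 := nsmul_ext_eq_zero (hF.nsmul_id_eq_zero fun a => by
        rw [← hc]
        exact card_nsmul_eq_zero') x
      have hd : addOrderOf x ∣ 1 := by
        rw [← (((Nat.Prime.coprime_iff_not_dvd hp.out).2 hpc).pow_left m).gcd_eq_one]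
        exact Nat.dvd_gcd (addOrderOf_dvd_iff_nsmul_eq_zero.2 hm) (addOrderOf_dvd_iff_nsmul_eq_zero.2 h0)
      exact AddMonoid.addOrderOf_eq_one_iff.1 (Nat.dvd_one.1 hd)
    obtain ⟨t, ht0, htp, htg⟩ := exists_fixed p hN F (hc ▸ hpc)
    obtain ⟨s, rfl⟩ := exists_descend_ext F t htg
    have hsp : p • s = 0 := eq_zero_of_surjective_map F (extTop k M) (extTop_surjective k M) _ (by
      rw [map_nsmul]; exact htp)
    obtain ⟨φ, hφ, hφ1⟩ := exists_mono_zmod p hF s hsp ht0
    let S : ShortComplex (EtCoh.Ab (Spec (CommRingCat.of k))) :=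
      ShortComplex.mk φ (cokernel.π φ) (cokernel.condition φ)
    have hS : S.ShortExact := { exact := S.exact_of_g_is_cokernel (cokernelIsCokernel φ) }
    obtain ⟨hC, hsur⟩ := hF.cokernel (cokernel.π φ)
    haveI hfinC : Finite (EtCoh.sect (cokernel φ) (extObj k M)) := Finite.of_surjective _ hsur
    have hlt : Nat.card (EtCoh.sect (cokernel φ) (extObj k M)) < c := by
      rw [← hc]
      refine lt_of_le_of_ne (Nat.card_le_card_of_surjective _ hsur) fun heq => ht0 ?_
      refine (hsur.bijective_of_nat_card_le heq.ge).1 ?_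
      rw [map_zero, ← hφ1]
      exact ConcreteCategory.congr_hom (congrArg (fun m : EtCoh.const _ (ZMod p) ⟶ cokernel φ => m.hom.app (op (extObj k M))) (cokernel.condition φ)) _
    have hx' : x.comp (Ext.mk₀ S.g) (add_zero q) = 0 := ih _ hlt (cokernel φ) hC hfinC rfl _ ⟨m, by
      let cl := AddMonoidHom.mk' (fun z : EtCoh.H (Spec (CommRingCat.of k)) F q => z.comp (Ext.mk₀ S.g) (add_zero q))
        fun a b => Ext.add_comp _ _ _ _
      show p ^ m • cl x = 0
      rw [← map_nsmul, hm, map_zero]⟩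
    obtain ⟨y, hy⟩ := Ext.covariant_sequence_exact₂ _ hS x hx'
    rw [← hy, hbase y, Ext.zero_comp]

end Groth.Agent.EtTraceLib
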