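import Groth.Agent.S0110
import Groth.Agent.S17614
import Groth.Agent.S6625
import Groth.Agent.SpDegen.General
import Groth.Agent.EtAssocLib.Compare
import Groth.Agent.S6183
import Groth.Agent.ExtAdj.Basic
import Groth.Agent.EtTraceLib.PicEtale
import Groth.Agent.EtTraceLib.LiftCmp
import Groth.Agent.ZarEtLib.Basic

/-!
# The natural comparison of étale and Zariski cohomology of `G_a`
-/

set_option autoImplicit false
set_option backward.isDefEq.respectTransparency false
set_option backward.isDefEq.respectTransparency.types false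
set_option linter.style.haveILetI false
set_option maxHeartbeats 1000000
set_option synthInstance.maxHeartbeats 400000

universe u

open CategoryTheory CategoryTheory.Limits AlgebraicGeometry Opposite TopologicalSpace CategoryTheory.Abelian

noncomputable section

namespace Groth.Agent.EtTraceLib.GaCmp

open EtVanish

/-- The structure morphism of an étale scheme. -/
abbrev str {X : Scheme.{u}} (U : X.Etale) : U.left ⟶ X := U.hom

/-- Multiplication by a global function on `G_a`. -/
def mulGa {X : Scheme.{u}} (r : Γ(X, ⊤)) : EtCoh.Ga X ⟶ EtCoh.Ga X :=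
  ⟨{ app := fun U => AddCommGrpCat.uliftFunctor.{u + 1}.map
        (AddCommGrpCat.ofHom (X := (Γ(U.unop.left, ⊤) : Type u)) (Y := (Γ(U.unop.left, ⊤) : Type u))
          (AddMonoidHom.mulLeft ((str U.unop).appTop r)))
     naturality := by
       intro U V g
       ext ⟨x⟩
       refine congrArg ULift.up ?_
       let y : (Γ(U.unop.left, ⊤) : Type u) := x
       show (str V.unop).appTop r * g.unop.left.appTop y = g.unop.left.appTop ((str U.unop).appTop r * y)
       rw [map_mul]
       have hw : g.unop.left ≫ str U.unop = str V.unop := Over.w g.unop.hom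
       rw [← hw, Scheme.Hom.comp_appTop]
       rfl }⟩

section Bij

universe a b c

variable {A : Type a} [Category.{b} A] [Abelian A] [HasExt.{c} A]

theorem bij_pre {X X' Y : A} (e : X' ≅ X) (q : ℕ) :
    Function.Bijective (fun y : Ext.{c} X Y q => (Ext.mk₀ e.hom).comp y (zero_add q)) :=
  Function.bijective_iff_has_inverse.2
    ⟨fun y => (Ext.mk₀ e.inv).comp y (zero_add q), fun y => by simp, fun y => by simp⟩

theorem bij_post {X Y Y' : A} (e : Y ≅ Y') (q : ℕ) :
    Function.Bijective (fun y : Ext.{c} X Y q => y.comp (Ext.mk₀ e.hom) (add_zero q)) :=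
  Function.bijective_iff_has_inverse.2
    ⟨fun y => y.comp (Ext.mk₀ e.inv) (add_zero q), fun y => by simp, fun y => by simp⟩

end Bij

section Cmp

variable (X : Scheme.{u}) [EtZar.ZarCont X]

instance : PreservesFiniteLimits (EtZar.resZar X) := S6183.preservesFiniteLimits_resZar X

instance : (EtZar.resZar X).Additive := Functor.additive_of_preserves_binary_products (EtZar.resZar X)

/-- `G_a` is acyclic for the restriction to the Zariski site. -/
theorem isAcyclicFor_Ga : SpSeqLib.IsAcyclicFor (EtZar.resZar X) (EtCoh.Ga X) := by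
  intro k
  haveI : EtFppf.ACont X := inferInstance
  haveI := S0110.zarCont_fppf X
  let T := EtFppf.aPush X
  let U := EtZar.resZar X
  haveI := S6183.preservesFiniteLimits_resZar X
  haveI : U.Additive := Functor.additive_of_preserves_binary_products U
  haveI : PreservesLimitsOfSize.{0, 0} T := (EtFppf.aAdj X).rightAdjoint_preservesLimits
  haveI : PreservesFiniteLimits T := PreservesLimitsOfSize.preservesFiniteLimits _
  haveI : (EtFppf.aPull X).PreservesMonomorphisms :=
    BigSiteLib.preservesMonomorphisms_piEtPull Scheme.fppfPrecoverage X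
  have h1 : ∀ Y : EtFppf.AbF X, ∃ (Y' : EtFppf.AbF X) (ι : Y ⟶ Y'), AdeqShLib.CechExact Y' ∧ Mono ι := fun Y =>
    ⟨Injective.under Y, Injective.ι Y, AdeqShLib.cechExact_of_injective _, inferInstance⟩
  have hT : ∀ C : ShortComplex (EtFppf.AbF X), C.ShortExact → AdeqShLib.CechExact C.X₁ → AdeqShLib.CechExact C.X₂ →
      AdeqShLib.CechExact C.X₃ ∧ (C.map T).ShortExact := fun C hC h₁ h₂ =>
    ⟨AdeqShLib.cechExact_quotient hC h₁ h₂, shortExact_aPush hC h₁⟩
  have hTU : ∀ C : ShortComplex (EtFppf.AbF X), C.ShortExact → AdeqShLib.CechExact C.X₁ → AdeqShLib.CechExact C.X₂ →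
      AdeqShLib.CechExact C.X₃ ∧ (C.map (T ⋙ U)).ShortExact := fun C hC h₁ h₂ =>
    ⟨AdeqShLib.cechExact_quotient hC h₁ h₂, AdeqShLib.shortExact_resZar X hC h₁⟩
  haveI : (T ⋙ U).Additive := inferInstance
  have hinj : ∀ I : EtFppf.AbF X, Injective I → SpSeqLib.IsAcyclicFor U (T.obj I) := fun I _ => by
    haveI : Injective (T.obj I) := Injective.injective_of_adjoint (EtFppf.aAdj X) I
    exact SpSeqLib.isAcyclicFor_of_injective U _
  obtain ⟨e⟩ := SpDegen.nonempty_rightDerived_comp_iso_of_vanishing T U hinj (gaBig X)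
    (fun p => S6625.isZero_rightDerived T (fun G => AdeqShLib.CechExact G) h1 hT (cechExact_gaBig X) p) (k + 1)
  exact ((S6625.isZero_rightDerived (T ⋙ U) (fun G => AdeqShLib.CechExact G) h1 hTU (cechExact_gaBig X) k).of_iso
    e.symm).of_iso ((U.rightDerived (k + 1)).mapIso (gaRestrIso X).symm)

/-- The left adjoint of the restriction to the Zariski site. -/
abbrev zarPull : EtZar.Ab X ⥤ EtCoh.Ab X :=
  (EtZar.zarToEt X).sheafPullback AddCommGrpCat.{u + 1} (Opens.grothendieckTopology X) X.smallEtaleTopology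

/-- The adjunction with the restriction to the Zariski site. -/
abbrev zarAdj : zarPull X ⊣ EtZar.resZar X :=
  (EtZar.zarToEt X).sheafAdjunctionContinuous AddCommGrpCat.{u + 1} (Opens.grothendieckTopology X) X.smallEtaleTopology

instance : (zarPull X).Additive := (zarAdj X).left_adjoint_additive

instance : PreservesFiniteColimits (zarPull X) :=
  haveI : PreservesColimitsOfSize.{0, 0} (zarPull X) := (zarAdj X).leftAdjoint_preservesColimits
  PreservesColimitsOfSize.preservesFiniteColimits _

/-- Global sections of a restriction. -/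
def gzIso : EtZar.resZar X ⋙ (sheafSections (Opens.grothendieckTopology X) AddCommGrpCat.{u + 1}).obj (op ⊤) ≅
    EtCore.gsec X :=
  NatIso.ofComponents (fun G => G.obj.mapIso (ZarEtLib.topIso (S := X)).op.symm)
    (fun {G G'} φ => (φ.hom.naturality _).symm)

/-- The pullback of the constant sheaf is constant. -/
def zarConst : (zarPull X).obj (cZ' X) ≅ EtCoh.const X ℤ :=
  (Adjunction.leftAdjointUniq
    (((constantSheafAdj (Opens.grothendieckTopology X) AddCommGrpCat.{u + 1} (T := (⊤ : X.Opens))
      isTerminalTop).comp (zarAdj X)).ofNatIsoRight (gzIso X))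
    (EtCore.constAdj X)).app (AddCommGrpCat.of (ULift.{u + 1} ℤ))

/-- The restriction of `G_a` to the Zariski site is the structure sheaf. -/
def resGaIso : (EtZar.resZar X).obj (EtCoh.Ga X) ≅ (liftSh (X := X)).obj (Coh.toAb (Coh.structureModule X)) :=
  (fullyFaithfulSheafToPresheaf _ _).preimageIso
    (NatIso.ofComponents
      (fun U => AddCommGrpCat.uliftFunctor.{u + 1, u}.mapIso
        ((forget₂ CommRingCat RingCat ⋙ forget₂ RingCat AddCommGrpCat).mapIso (Scheme.Opens.topIso U.unop)))
      (fun {U V} f => by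
        ext x
        apply ULift.ext
        show (Scheme.Opens.topIso V.unop).hom ((X.homOfLE f.unop.le).appTop x.down) =
          X.presheaf.map f ((Scheme.Opens.topIso U.unop).hom x.down)
        have e : (X.homOfLE f.unop.le).appTop ≫ (Scheme.Opens.topIso V.unop).hom =
            (Scheme.Opens.topIso U.unop).hom ≫ X.presheaf.map f := by
          rw [Scheme.Hom.appTop, Scheme.homOfLE_app, Scheme.Opens.topIso_hom, Scheme.Opens.topIso_hom,
            ← Functor.map_comp, ← Functor.map_comp]
          rfl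
        exact ConcreteCategory.congr_hom e x.down))

theorem resGaIso_mul (r : Coh.Γtop X) :
    (resGaIso X).inv ≫ (EtZar.resZar X).map (mulGa r) =
      (liftSh (X := X)).map (Coh.smulAb (Coh.structureModule X) r) ≫ (resGaIso X).inv := by
  rw [Iso.inv_comp_eq, ← Category.assoc, Iso.eq_comp_inv]
  apply (sheafToPresheaf _ _).map_injective
  ext U ⟨x⟩
  apply ULift.ext
  let W : X.Opens := U.unop
  let x' : (Γ((W : Scheme.{u}), ⊤) : Type u) := x
  let r' : (Γ(X, W) : Type u) := X.presheaf.map (homOfLE le_top).op r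
  show (Scheme.Opens.topIso W).hom ((Scheme.Opens.ι W).appTop r * x') = r' * (Scheme.Opens.topIso W).hom x'
  rw [map_mul]
  refine congrArg (· * _) ?_
  show (Scheme.Opens.topIso W).hom ((Scheme.Opens.ι W).appTop r) = X.presheaf.map (homOfLE le_top).op r
  rw [Scheme.Opens.topIso_hom, Scheme.Opens.ι_appTop, ← ConcreteCategory.comp_apply, ← Functor.map_comp]
  rfl

theorem exists_cmp (q : ℕ) :
    ∃ e : Coh.HH X (Coh.structureModule X) q ≃+ EtCoh.H X (EtCoh.Ga X) q,
      ∀ (r : Coh.Γtop X) (y : Coh.HH X (Coh.structureModule X) q),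
        e (r • y) = (e y).comp (Ext.mk₀ (mulGa r)) (add_zero q) := by
  haveI := S17614.representablyFlat_zarToEt (S := X)
  haveI : PreservesFiniteLimits ((EtZar.zarToEt X).op.lan : _ ⥤ (X.Etale)ᵒᵖ ⥤ AddCommGrpCat.{u + 1}) :=
    AdeqShLib.preservesFiniteLimits_lan_ab _
  haveI : PreservesFiniteLimits (zarPull X) := inferInstance
  obtain ⟨hl, hr⟩ := preservesFinite_liftSh (T := X)
  let O := Coh.toAb (Coh.structureModule X)
  let T : EtZar.H ((EtZar.resZar X).obj (EtCoh.Ga X)) q → EtCoh.H X (EtCoh.Ga X) q := fun z =>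
    (Ext.mk₀ (zarConst X).inv).comp (ExtAdj.transpose (zarAdj X) (cZ' X) (EtCoh.Ga X) q z) (zero_add q)
  have hT : Function.Bijective T := by
    have h1 := (bij_pre (Y := EtCoh.Ga X) (zarConst X).symm q).comp
      (ExtAdj.transpose_bijective (zarAdj X) (cZ' X) (EtCoh.Ga X) (isAcyclicFor_Ga X) q)
    exact h1
  let Ψ : Coh.HH X (Coh.structureModule X) q → EtCoh.H X (EtCoh.Ga X) q := fun y =>
    T ((liftMap O q y).comp (Ext.mk₀ (resGaIso X).inv) (add_zero q))
  have hTadd : ∀ a b, T (a + b) = T a + T b := fun a b => by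
    simp only [T, ExtAdj.transpose, Ext.mapExactFunctor_add, Ext.add_comp, Ext.comp_add]
  have hΨ : Function.Bijective Ψ := by
    have h2 := hT.comp ((bij_post (X := cZ' X) (resGaIso X).symm q).comp (liftMap_bijective q O))
    exact h2
  refine ⟨AddEquiv.ofBijective (AddMonoidHom.mk' Ψ fun a b => ?_) hΨ, fun r y => ?_⟩
  · simp only [Ψ, map_add, Ext.add_comp, hTadd]
  · show Ψ (r • y) = (Ψ y).comp (Ext.mk₀ (mulGa r)) (add_zero q)
    have h1 : r • y = y.comp (Ext.mk₀ (Coh.smulAb (Coh.structureModule X) r)) (add_zero q) :=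
      Sheaf.H.map_apply _ _
    rw [h1]
    simp only [Ψ, T, liftMap_comp, Ext.comp_assoc_of_second_deg_zero, Ext.mk₀_comp_mk₀]
    rw [← resGaIso_mul, ← Ext.mk₀_comp_mk₀ (resGaIso X).inv, ← Ext.comp_assoc_of_second_deg_zero,
      ExtAdj.transpose_mk₀, Ext.comp_assoc_of_third_deg_zero]

end Cmp

end Groth.Agent.EtTraceLib.GaCmp
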