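import Groth.Agent.EtTraceLib.Hilbert90
import Groth.Agent.EtGalSheaf.Basic

/-!
# Sections over the base change to a Galois extension
-/

set_option autoImplicit false
set_option backward.isDefEq.respectTransparency false
set_option backward.isDefEq.respectTransparency.types false
set_option linter.style.haveILetI false
set_option maxHeartbeats 1000000

universe u

open CategoryTheory CategoryTheory.Limits AlgebraicGeometry Opposite

noncomputable section

namespace Groth.Agent.EtTraceLib

open EtPtsLib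

variable (k L : Type u) [Field k] [Field L] [Algebra k L] [FiniteDimensional k L] [Algebra.IsSeparable k L]

/-- The morphism of spectra of a finite separable extension. -/
abbrev specπ : Spec (CommRingCat.of L) ⟶ Spec (CommRingCat.of k) :=
  Spec.map (CommRingCat.ofHom (algebraMap k L))

instance instEtaleSpecπ : AlgebraicGeometry.Etale (specπ k L) := etale_specMap k L
instance instFiniteSpecπ : IsFinite (specπ k L) := isFinite_specMap k L
instance instJContSpecπ : EtShriek.JCont (specπ k L) := EtJCont.jCont _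

variable {k}

/-- The base change of `V` to `L`, as a scheme over `k`. -/
abbrev bObj (V : (Spec (CommRingCat.of k)).Etale) : (Spec (CommRingCat.of k)).Etale :=
  (EtShriek.compEtale (specπ k L)).obj ((EtCoh.bc (specπ k L)).obj V)

/-- Functoriality of the base change. -/
abbrev bMap {V W : (Spec (CommRingCat.of k)).Etale} (f : W ⟶ V) : bObj L W ⟶ bObj L V :=
  (EtShriek.compEtale (specπ k L)).map ((EtCoh.bc (specπ k L)).map f)

variable {L}

/-- The projection of the base change. -/
def bε (V : (Spec (CommRingCat.of k)).Etale) : bObj L V ⟶ V :=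
  MorphismProperty.Over.homMk (pullback.fst V.hom (specπ k L)) (by
    show pullback.fst V.hom _ ≫ V.hom = pullback.snd V.hom _ ≫ specπ k L
    exact pullback.condition)

theorem bε_left (V : (Spec (CommRingCat.of k)).Etale) : (bε (L := L) V).left = pullback.fst V.hom (specπ k L) := rfl

theorem galLeft_w (g : L ≃ₐ[k] L) : Spec.map (CommRingCat.ofHom g.toAlgHom.toRingHom) ≫ specπ k L = specπ k L :=
  MorphismProperty.Over.w (galMap g)

/-- The action of an automorphism on the base change. -/
def bγ (V : (Spec (CommRingCat.of k)).Etale) (g : L ≃ₐ[k] L) : bObj L V ⟶ bObj L V :=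
  MorphismProperty.Over.homMk
    (pullback.lift (pullback.fst V.hom (specπ k L))
      (pullback.snd V.hom (specπ k L) ≫ Spec.map (CommRingCat.ofHom g.toAlgHom.toRingHom))
      (by rw [Category.assoc, galLeft_w]; exact pullback.condition)) (by
    show pullback.lift _ _ _ ≫ pullback.snd V.hom _ ≫ specπ k L = pullback.snd V.hom _ ≫ specπ k L
    rw [pullback.lift_snd_assoc, Category.assoc, galLeft_w])

theorem bγ_left_fst (V : (Spec (CommRingCat.of k)).Etale) (g : L ≃ₐ[k] L) :
    (bγ V g).left ≫ pullback.fst V.hom (specπ k L) = pullback.fst V.hom (specπ k L) := pullback.lift_fst _ _ _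

theorem bγ_left_snd (V : (Spec (CommRingCat.of k)).Etale) (g : L ≃ₐ[k] L) :
    (bγ V g).left ≫ pullback.snd V.hom (specπ k L) =
      pullback.snd V.hom (specπ k L) ≫ Spec.map (CommRingCat.ofHom g.toAlgHom.toRingHom) := pullback.lift_snd _ _ _

theorem bMap_left_fst {V W : (Spec (CommRingCat.of k)).Etale} (f : W ⟶ V) :
    (bMap L f).left ≫ pullback.fst V.hom (specπ k L) = pullback.fst W.hom (specπ k L) ≫ f.left :=
  pullback.lift_fst _ _ _

theorem bMap_left_snd {V W : (Spec (CommRingCat.of k)).Etale} (f : W ⟶ V) :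
    (bMap L f).left ≫ pullback.snd V.hom (specπ k L) = pullback.snd W.hom (specπ k L) :=
  pullback.lift_snd _ _ _

theorem bMap_γ {V W : (Spec (CommRingCat.of k)).Etale} (f : W ⟶ V) (g : L ≃ₐ[k] L) :
    bMap L f ≫ bγ V g = bγ W g ≫ bMap L f := by
  refine MorphismProperty.Over.Hom.ext (pullback.hom_ext ?_ ?_)
  · show ((bMap L f).left ≫ (bγ V g).left) ≫ _ = ((bγ W g).left ≫ (bMap L f).left) ≫ _
    rw [Category.assoc, Category.assoc, bγ_left_fst, bMap_left_fst, ← Category.assoc, bγ_left_fst]
  · show ((bMap L f).left ≫ (bγ V g).left) ≫ _ = ((bγ W g).left ≫ (bMap L f).left) ≫ _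
    rw [Category.assoc, Category.assoc, bγ_left_snd, ← Category.assoc, bMap_left_snd]
    exact (bγ_left_snd W g).symm

theorem bγ_ε (V : (Spec (CommRingCat.of k)).Etale) (g : L ≃ₐ[k] L) : bγ V g ≫ bε V = bε V :=
  MorphismProperty.Over.Hom.ext (bγ_left_fst V g)

theorem bγ_mul (V : (Spec (CommRingCat.of k)).Etale) (g h : L ≃ₐ[k] L) : bγ V (g * h) = bγ V g ≫ bγ V h := by
  refine MorphismProperty.Over.Hom.ext (pullback.hom_ext ?_ ?_)
  · show (bγ V (g * h)).left ≫ _ = ((bγ V g).left ≫ (bγ V h).left) ≫ _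
    rw [Category.assoc, bγ_left_fst, bγ_left_fst, bγ_left_fst]
  · show (bγ V (g * h)).left ≫ _ = ((bγ V g).left ≫ (bγ V h).left) ≫ _
    rw [Category.assoc, bγ_left_snd, bγ_left_snd, ← Category.assoc, bγ_left_snd, Category.assoc]
    exact congrArg (pullback.snd V.hom (specπ k L) ≫ ·) (congrArg (fun m => m.left) (galMap_mul g h))

theorem bMap_ε {V W : (Spec (CommRingCat.of k)).Etale} (f : W ⟶ V) : bMap L f ≫ bε V = bε W ≫ f :=
  MorphismProperty.Over.Hom.ext (bMap_left_fst f)

section Split

variable {V : (Spec (CommRingCat.of k)).Etale} (v : V ⟶ extObj k L)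

/-- The section of the base change attached to an automorphism. -/
def bSec (g : L ≃ₐ[k] L) : V ⟶ bObj L V :=
  MorphismProperty.Over.homMk
    (pullback.lift (𝟙 V.left) (v.left ≫ Spec.map (CommRingCat.ofHom g.toAlgHom.toRingHom))
      (by rw [Category.id_comp, Category.assoc, galLeft_w]; exact (MorphismProperty.Over.w v).symm)) (by
    show pullback.lift _ _ _ ≫ pullback.snd V.hom _ ≫ specπ k L = V.hom
    rw [pullback.lift_snd_assoc, Category.assoc, galLeft_w]
    exact MorphismProperty.Over.w v)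

theorem bSec_left_fst (g : L ≃ₐ[k] L) : (bSec v g).left ≫ pullback.fst V.hom (specπ k L) = 𝟙 _ :=
  pullback.lift_fst _ _ _

theorem bSec_left_snd (g : L ≃ₐ[k] L) : (bSec v g).left ≫ pullback.snd V.hom (specπ k L) =
    v.left ≫ Spec.map (CommRingCat.ofHom g.toAlgHom.toRingHom) :=
  pullback.lift_snd _ _ _

theorem bSec_ε (g : L ≃ₐ[k] L) : bSec v g ≫ bε V = 𝟙 V :=
  MorphismProperty.Over.Hom.ext (bSec_left_fst v g)

instance mono_bSec (g : L ≃ₐ[k] L) : Mono (bSec v g) := mono_of_mono_fac (bSec_ε v g)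

theorem bSec_γ (g h : L ≃ₐ[k] L) : bSec v g ≫ bγ V h = bSec v (g * h) := by
  refine MorphismProperty.Over.Hom.ext (pullback.hom_ext ?_ ?_)
  · show ((bSec v g).left ≫ (bγ V h).left) ≫ _ = (bSec v (g * h)).left ≫ _
    rw [Category.assoc, bγ_left_fst, bSec_left_fst, bSec_left_fst]
  · show ((bSec v g).left ≫ (bγ V h).left) ≫ _ = (bSec v (g * h)).left ≫ _
    rw [Category.assoc, bγ_left_snd, ← Category.assoc, bSec_left_snd, bSec_left_snd, Category.assoc]
    exact congrArg (v.left ≫ ·) (congrArg (fun m => m.left) (galMap_mul g h)).symm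

theorem bSec_left_isOpenImmersion (g : L ≃ₐ[k] L) : IsOpenImmersion (bSec v g).left := by
  haveI := etale_left (bSec v g)
  haveI : Mono (bSec v g).left := mono_of_mono_fac (bSec_left_fst v g)
  exact IsOpenImmersion.of_flat_of_mono _

theorem bSec_cover [IsGalois k L] (y : (bObj L V).left) :
    ∃ (g : L ≃ₐ[k] L) (a : V.left), (bSec v g).left a = y := by
  let R := (bObj L V).left.residueField y
  let ρ : Spec R ⟶ pullback V.hom (specπ k L) := (bObj L V).left.fromSpecResidueField y
  let a := ρ ≫ pullback.fst V.hom (specπ k L) ≫ v.left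
  let b := ρ ≫ pullback.snd V.hom (specπ k L)
  have hab : b ≫ specπ k L = a ≫ specπ k L := by
    show (ρ ≫ _) ≫ _ = (ρ ≫ _ ≫ v.left) ≫ _
    rw [Category.assoc, ← pullback.condition, Category.assoc, Category.assoc]
    exact congrArg (fun m => ρ ≫ pullback.fst V.hom _ ≫ m) (MorphismProperty.Over.w v).symm
  obtain ⟨φ₁, hφ₁⟩ : ∃ φ : CommRingCat.of L ⟶ R, Spec.map φ = a := ⟨_, Spec.map_preimage a⟩
  obtain ⟨φ₂, hφ₂⟩ : ∃ φ : CommRingCat.of L ⟶ R, Spec.map φ = b := ⟨_, Spec.map_preimage b⟩
  letI : Algebra L R := φ₁.hom.toAlgebra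
  letI : Algebra k R := (φ₁.hom.comp (algebraMap k L)).toAlgebra
  haveI : IsScalarTower k L R := IsScalarTower.of_algebraMap_eq fun _ => rfl
  have h12 : CommRingCat.ofHom (algebraMap k L) ≫ φ₂ = CommRingCat.ofHom (algebraMap k L) ≫ φ₁ := by
    apply Spec.map_injective
    rw [Spec.map_comp, Spec.map_comp, hφ₁, hφ₂]
    exact hab
  let i₂ : L →ₐ[k] R := { φ₂.hom with commutes' := fun c => ConcreteCategory.congr_hom h12 c }
  let σ : L ≃ₐ[k] L := i₂.restrictNormal' L
  have hσ : ∀ x, φ₁ (σ x) = φ₂ x := fun x => AlgHom.restrictNormal_commutes i₂ L x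
  have hb : a ≫ Spec.map (CommRingCat.ofHom σ.toAlgHom.toRingHom) = b := by
    rw [← hφ₁, ← hφ₂, ← Spec.map_comp]
    exact congrArg Spec.map (CommRingCat.hom_ext (RingHom.ext hσ))
  have key : (ρ ≫ pullback.fst V.hom (specπ k L)) ≫ (bSec v σ).left = ρ := by
    refine pullback.hom_ext ?_ ?_
    · exact (Category.assoc _ _ _).trans ((congrArg ((ρ ≫ pullback.fst V.hom _) ≫ ·) (bSec_left_fst v σ)).trans
        (Category.comp_id _))
    · refine ((Category.assoc _ _ _).trans (congrArg ((ρ ≫ pullback.fst V.hom _) ≫ ·) (bSec_left_snd v σ))).trans ?_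
      refine Eq.trans ?_ hb
      show (ρ ≫ _) ≫ v.left ≫ _ = (ρ ≫ _ ≫ v.left) ≫ _
      simp only [Category.assoc]
  refine ⟨σ, (ρ ≫ pullback.fst V.hom (specπ k L)) (IsLocalRing.closedPoint R), ?_⟩
  exact (congrArg (fun m => m (IsLocalRing.closedPoint R)) key).trans (Scheme.fromSpecResidueField_apply y _)

theorem bSec_disjoint (g h : L ≃ₐ[k] L) (a b : V.left) (e : (bSec v g).left a = (bSec v h).left b) : g = h := by
  let y := (bSec v g).left a
  haveI := bSec_left_isOpenImmersion v g
  haveI := bSec_left_isOpenImmersion v h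
  let R := (bObj L V).left.residueField y
  let ρ : Spec R ⟶ pullback V.hom (specπ k L) := (bObj L V).left.fromSpecResidueField y
  have lift : ∀ (f : L ≃ₐ[k] L) [IsOpenImmersion (bSec v f).left], y ∈ Set.range (bSec v f).left →
      (ρ ≫ pullback.fst V.hom (specπ k L)) ≫ (bSec v f).left = ρ := fun f _ hf => by
    have hr : Set.range ρ ⊆ Set.range (bSec v f).left := by
      rintro _ ⟨z, rfl⟩
      exact (Scheme.fromSpecResidueField_apply y z).symm ▸ hf
    let r := IsOpenImmersion.lift (bSec v f).left ρ hr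
    have hr' : r ≫ (bSec v f).left = ρ := IsOpenImmersion.lift_fac _ _ _
    have : ρ ≫ pullback.fst V.hom (specπ k L) = r := by
      rw [← hr']
      exact ((Category.assoc _ _ _).trans (congrArg (r ≫ ·) (bSec_left_fst v f))).trans (Category.comp_id _)
    rw [this]
    exact hr'
  have h1 := congrArg (· ≫ pullback.snd V.hom (specπ k L))
    ((lift g ⟨a, rfl⟩).trans (lift h ⟨b, e.symm⟩).symm)
  have h2 : (ρ ≫ pullback.fst V.hom (specπ k L) ≫ v.left) ≫ Spec.map (CommRingCat.ofHom g.toAlgHom.toRingHom) =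
      (ρ ≫ pullback.fst V.hom (specπ k L) ≫ v.left) ≫ Spec.map (CommRingCat.ofHom h.toAlgHom.toRingHom) := by
    have := ((Category.assoc _ _ _).trans (congrArg ((ρ ≫ pullback.fst V.hom _) ≫ ·) (bSec_left_snd v g))).symm.trans
      (h1.trans ((Category.assoc _ _ _).trans (congrArg ((ρ ≫ pullback.fst V.hom _) ≫ ·) (bSec_left_snd v h))))
    simpa only [Category.assoc] using this
  obtain ⟨φ, hφ⟩ : ∃ φ : CommRingCat.of L ⟶ R, Spec.map φ = ρ ≫ pullback.fst V.hom (specπ k L) ≫ v.left :=
    ⟨_, Spec.map_preimage _⟩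
  rw [← hφ, ← Spec.map_comp, ← Spec.map_comp] at h2
  refine AlgEquiv.ext fun x => φ.hom.injective ?_
  exact ConcreteCategory.congr_hom (Spec.map_injective h2) x

/-- Over a scheme mapping to `L` the sections over the base change are families indexed by the Galois group. -/
theorem bSec_bijective [IsGalois k L] (F : EtCoh.Ab (Spec (CommRingCat.of k))) :
    Function.Bijective (fun (t : EtCoh.sect F (bObj L V)) (g : L ≃ₐ[k] L) => F.obj.map (bSec v g).op t) := by
  let X := Spec (CommRingCat.of k)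
  let P : X.Etaleᵒᵖ ⥤ Type (u + 1) := F.obj ⋙ forget AddCommGrpCat.{u + 1}
  have hP : Presieve.IsSheaf X.smallEtaleTopology P :=
    (isSheaf_iff_isSheaf_of_type _ _).1
      ((Presheaf.isSheaf_iff_isSheaf_forget X.smallEtaleTopology F.obj (forget AddCommGrpCat.{u + 1})).1 F.property)
  have hc : Sieve.ofArrows (fun _ : L ≃ₐ[k] L => V) (bSec v) ∈ X.smallEtaleTopology (bObj L V) := by
    rw [Scheme.ofArrows_mem_smallEtaleTopology_iff]
    refine Set.eq_univ_of_forall fun z => Set.mem_iUnion.2 ?_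
    obtain ⟨i, y, hy⟩ := bSec_cover v z
    exact ⟨i, y, hy⟩
  have hs := (Presieve.isSheafFor_iff_generate _).2 (hP _ hc)
  refine ⟨fun a b e => hs.isSeparatedFor.ext ?_, fun x => ?_⟩
  · rintro _ _ ⟨i⟩
    exact congrFun e i
  · obtain ⟨t, ht, -⟩ := (Presieve.isSheafFor_arrows_iff _ _).1 hs x (fun i i' Z gi gi' w => by
      by_cases hii : i = i'
      · subst hii
        rw [(cancel_mono (bSec v i)).1 w]
      · haveI : IsEmpty ↥Z.left :=
          ⟨fun z => hii (bSec_disjoint v i i' _ _ (congrArg (fun f => f.left z) w))⟩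
        exact @Subsingleton.elim _ (EtGalSheaf.subsingleton_obj_of_isEmpty hP Z) _ _)
    exact ⟨t, funext ht⟩

end Split

/-- Every étale scheme is covered by one mapping to `L`. -/
theorem exists_cover_ext (V : (Spec (CommRingCat.of k)).Etale) :
    ∃ (V' : (Spec (CommRingCat.of k)).Etale) (f : V' ⟶ V) (_ : V' ⟶ extObj k L), Function.Surjective f.left := by
  refine ⟨bObj L V, bε V, MorphismProperty.Over.homMk (pullback.snd V.hom (specπ k L)) rfl, ?_⟩
  haveI : Surjective (specπ k L) := ⟨fun x => ⟨IsLocalRing.closedPoint L, Subsingleton.elim (α := PrimeSpectrum k) _ _⟩⟩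
  exact Surjective.surj (f := pullback.fst V.hom (specπ k L))

end Groth.Agent.EtTraceLib
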