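import Groth.Agent.EtTraceLib.CyclicSeq
import Groth.Agent.EtTraceLib.H90Push
import Groth.Agent.EtTraceLib.Apply
import Mathlib.RingTheory.Norm.Transitivity
import Mathlib.GroupTheory.Sylow

/-!
# Vanishing of `H^q(K, G_m)` when norms from cyclic extensions are surjective
-/

set_option autoImplicit false
set_option backward.isDefEq.respectTransparency false
set_option backward.isDefEq.respectTransparency.types false
set_option linter.style.haveILetI false
set_option maxHeartbeats 1000000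

universe u w w' v v' a a'

open CategoryTheory CategoryTheory.Limits AlgebraicGeometry Opposite CategoryTheory.Abelian

noncomputable section

namespace Groth.Agent.EtTraceLib

open EtPtsLib

section Conj

variable {A : Type a} [Category.{v} A] [Abelian A] [HasExt.{w} A]

/-- Transport of an Ext class along isomorphisms. -/
def conjExt {X X' Y Y' : A} {n : ℕ} (e₁ : X' ≅ X) (e₂ : Y ≅ Y') (x : Ext X Y n) : Ext X' Y' n :=
  (Ext.mk₀ e₁.hom).comp (x.comp (Ext.mk₀ e₂.hom) (add_zero n)) (zero_add n)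

theorem conjExt_eq_zero_iff {X X' Y Y' : A} {n : ℕ} (e₁ : X' ≅ X) (e₂ : Y ≅ Y') (x : Ext X Y n) :
    conjExt e₁ e₂ x = 0 ↔ x = 0 := by
  refine ⟨fun h => ?_, fun h => by rw [conjExt, h, Ext.zero_comp, Ext.comp_zero]⟩
  have := congrArg (fun z => ((Ext.mk₀ e₁.inv).comp z (zero_add n)).comp (Ext.mk₀ e₂.inv) (add_zero n)) h
  simpa only [conjExt, Ext.mk₀_comp_mk₀_assoc, Iso.inv_hom_id, Ext.mk₀_id_comp, Ext.comp_assoc_of_second_deg_zero,
    Ext.mk₀_comp_mk₀, Iso.hom_inv_id, Ext.comp_mk₀_id, Ext.comp_zero, Ext.zero_comp] using this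

variable {B : Type a'} [Category.{v'} B] [Abelian B] [HasExt.{w'} B]
  (G : A ⥤ B) [G.Additive] [PreservesFiniteLimits G] [PreservesFiniteColimits G]

theorem mapExact_conjExt_eq_zero_iff {X X' Y Y' : A} {n : ℕ} (e₁ : X' ≅ X) (e₂ : Y ≅ Y') (x : Ext X Y n) :
    Ext.mapExactFunctor G (conjExt e₁ e₂ x) = 0 ↔ Ext.mapExactFunctor G x = 0 := by
  rw [conjExt, Ext.mapExactFunctor_comp, Ext.mapExactFunctor_comp, Ext.mapExactFunctor_mk₀, Ext.mapExactFunctor_mk₀]
  exact conjExt_eq_zero_iff (G.mapIso e₁) (G.mapIso e₂) _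

end Conj

section Cyclic

variable (k L : Type u) [Field k] [Field L] [Algebra k L] [FiniteDimensional k L] [Algebra.IsSeparable k L]

instance instPFLSpecπ : PreservesFiniteLimits (EtCoh.pull (specπ k L)) := preservesFiniteLimits_pull _

theorem eq_zero_indSh {F : EtCoh.Ab (Spec (CommRingCat.of k))} {G : EtCoh.Ab (Spec (CommRingCat.of L))}
    (eG : (EtShriek.restrAlong (specπ k L)).obj F ≅ G) (j : ℕ)
    (hG : ∀ x : EtCoh.H (Spec (CommRingCat.of L)) G j, x = 0)
    (e : EtCoh.H (Spec (CommRingCat.of k)) (indSh L F) j) : e = 0 := by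
  let adj := EtCoh.pullPushAdj (specπ k L)
  let c := EtCoh.const (Spec (CommRingCat.of k)) ℤ
  have hac : SpSeqLib.IsAcyclicFor (EtCoh.push (specπ k L)) ((EtShriek.restrAlong (specπ k L)).obj F) :=
    fun p => Groth.Agent.S0071.result (specπ k L) _ (p + 1) (Nat.succ_pos p)
  refine (ExtAdj.transpose_bijective adj c _ hac j).1 ?_
  have h1 : ExtAdj.transpose adj c _ j e = 0 :=
    (conjExt_eq_zero_iff (EtCore.pullConst (specπ k L) ℤ).symm eG _).1 (hG _)
  have h2 : ExtAdj.transpose adj c ((EtShriek.restrAlong (specπ k L)).obj F) j (0 : Ext c _ j) = 0 := by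
    rw [ExtAdj.transpose, Ext.mapExactFunctor_zero, Ext.zero_comp]
  exact h1.trans h2.symm

theorem comp_indUnit_eq_zero {F : EtCoh.Ab (Spec (CommRingCat.of k))} (n : ℕ)
    (α : EtCoh.H (Spec (CommRingCat.of k)) F n) (h : Ext.mapExactFunctor (EtCoh.pull (specπ k L)) α = 0) :
    α.comp (Ext.mk₀ (indUnit L F)) (add_zero n) = 0 := by
  let π := specπ k L
  let adj := EtCoh.pullPushAdj π
  let c := EtCoh.const (Spec (CommRingCat.of k)) ℤ
  have hac : SpSeqLib.IsAcyclicFor (EtCoh.push π) ((EtCoh.pull π).obj F) :=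
    fun p => Groth.Agent.S0071.result π _ (p + 1) (Nat.succ_pos p)
  have he : α.comp (Ext.mk₀ (adj.unit.app F)) (add_zero n) = 0 := by
    refine (ExtAdj.transpose_bijective adj c _ hac n).1 ?_
    have h1 : ExtAdj.transpose adj c _ n (α.comp (Ext.mk₀ (adj.unit.app F)) (add_zero n)) = 0 := by
      rw [ExtAdj.transpose, Ext.mapExactFunctor_comp, Ext.mapExactFunctor_mk₀, h, Ext.zero_comp, Ext.zero_comp]
    have h2 : ExtAdj.transpose adj c ((EtCoh.pull π).obj F) n (0 : Ext c _ n) = 0 := by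
      rw [ExtAdj.transpose, Ext.mapExactFunctor_zero, Ext.zero_comp]
    exact h1.trans h2.symm
  have h2 := congrArg (fun z => z.comp (Ext.mk₀ ((EtCoh.push π).map ((pullIsoRestr π).hom.app F))) (add_zero n)) he
  simp only [Ext.zero_comp, Ext.comp_assoc_of_second_deg_zero, Ext.mk₀_comp_mk₀] at h2
  rw [show adj.unit.app F ≫ (EtCoh.push π).map ((pullIsoRestr π).hom.app F) = indUnit L F from
    (Adjunction.unit_leftAdjointUniq_hom_app (EtCoh.pullPushAdj π) (restrPushAdj π) F).trans (indUnit_eq L F).symm] at h2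
  exact h2

variable {k L}

/-- Injectivity of the restriction to a cyclic extension in degree `m + 2`. -/
theorem eq_zero_of_cyclic [IsGalois k L] {σ : L ≃ₐ[k] L} (hσ : ∀ τ, τ ∈ Subgroup.zpowers σ)
    (hN : ∀ a : kˣ, ∃ b : L, Algebra.norm k b = (a : k)) (m : ℕ)
    (hL : ∀ x : EtCoh.H (Spec (CommRingCat.of L)) (EtCoh.Gm (Spec (CommRingCat.of L))) (m + 1), x = 0)
    (hk : 0 < m → ∀ x : EtCoh.H (Spec (CommRingCat.of k)) (EtCoh.Gm (Spec (CommRingCat.of k))) m, x = 0)
    (α : EtCoh.H (Spec (CommRingCat.of k)) (EtCoh.Gm (Spec (CommRingCat.of k))) (m + 2))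
    (h : Ext.mapExactFunctor (EtCoh.pull (specπ k L)) α = 0) : α = 0 := by
  classical
  let X := Spec (CommRingCat.of k)
  let F := EtCoh.Gm X
  obtain ⟨I, p, i, ν, w₁, w₂, hS₁, hS₂, hν⟩ := exists_cyclic_sequences L F hσ
  obtain ⟨β, rfl⟩ := Ext.covariant_sequence_exact₁ _ hS₁ α (comp_indUnit_eq_zero k L (m + 2) α h)
    (n₀ := m + 1) rfl
  obtain ⟨γ, rfl⟩ := Ext.covariant_sequence_exact₁ _ hS₂ β
    (eq_zero_indSh k L (restrGm (specπ k L)) (m + 1) hL _) (n₀ := m) rfl
  suffices h0 : γ.comp hS₂.extClass rfl = 0 by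
    exact (congrArg (fun z => Ext.comp z hS₁.extClass rfl) h0).trans (Ext.zero_comp _ _ _ _ _)
  rcases Nat.eq_zero_or_pos m with rfl | hm
  swap
  · rw [hk hm γ, Ext.zero_comp]
  let hT := EtCore.topIsTerminal X
  obtain ⟨y, hy⟩ : ∃ y : EtCoh.sect (indSh L F) (EtCoh.top X), ν.hom.app (op (EtCoh.top X)) y = Sheaf.H.equiv₀ F hT γ := by
    let a := Sheaf.H.equiv₀ F hT γ
    obtain ⟨a', ha'⟩ : ∃ a' : kˣ, a = ULift.up (Additive.ofMul (Units.map
        (Scheme.ΓSpecIso (CommRingCat.of k)).inv.hom.toMonoidHom a')) := by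
      refine ⟨Units.map (Scheme.ΓSpecIso (CommRingCat.of k)).hom.hom.toMonoidHom
        (Additive.toMul (a : ULift.{u + 1} (Additive ((Γ(X, ⊤) : Type u)ˣ))).down), ?_⟩
      refine congrArg (fun z => ULift.up (Additive.ofMul z)) (Units.ext ?_)
      exact (ConcreteCategory.congr_hom (Scheme.ΓSpecIso (CommRingCat.of k)).hom_inv_id _).symm
    obtain ⟨b, hb⟩ := hN a'
    have hb0 : b ≠ 0 := by
      rintro rfl
      rw [Algebra.norm_zero] at hb
      exact a'.ne_zero hb.symm
    let q : bObj L (EtCoh.top X) ⟶ extObj k L :=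
      MorphismProperty.Over.homMk (pullback.snd (𝟙 X) (specπ k L)) rfl
    have hqγ : ∀ g : L ≃ₐ[k] L, bγ (EtCoh.top X) g ≫ q = q ≫ galMap g := fun g =>
      MorphismProperty.Over.Hom.ext (bγ_left_snd (EtCoh.top X) g)
    haveI := mono_indUnit L F
    refine ⟨F.obj.map q.op (unitSect (Units.mk0 b hb0)), injective_app (indUnit L F) _ ?_⟩
    refine (ConcreteCategory.congr_hom (congrArg (fun z => z.hom.app (op (EtCoh.top X))) hν) _).trans ?_
    rw [indNorm_app]
    have hmap : ∀ g : L ≃ₐ[k] L, F.obj.map (bγ (EtCoh.top X) g).op (F.obj.map q.op (unitSect (Units.mk0 b hb0))) =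
        F.obj.map q.op (unitSect (g • Units.mk0 b hb0)) := fun g => by
      rw [← Functor.map_comp_apply, ← op_comp, hqγ, op_comp, Functor.map_comp_apply, map_galMap_unitSect]
    rw [Finset.sum_congr rfl fun g _ => hmap g, ← map_sum]
    have hprod : (∑ g : L ≃ₐ[k] L, unitSect (k := k) (g • Units.mk0 b hb0)) =
        unitSect (Units.map (algebraMap k L).toMonoidHom a') := by
      let u : Additive Lˣ →+ EtCoh.sect F (extObj k L) :=
        AddMonoidHom.mk' (fun z => unitSect z.toMul) fun z z' => unitSect_mul _ _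
      refine (map_sum u (fun g => Additive.ofMul (g • Units.mk0 b hb0)) Finset.univ).symm.trans ?_
      refine congrArg unitSect (Units.ext ?_)
      show (((∑ g : L ≃ₐ[k] L, Additive.ofMul (g • Units.mk0 b hb0)).toMul : Lˣ) : L) = algebraMap k L a'
      rw [← ofMul_prod, toMul_ofMul, Units.coe_prod, ← hb, Algebra.norm_eq_prod_automorphisms]
      rfl
    rw [hprod]
    show _ = F.obj.map (bε (EtCoh.top X)).op a
    rw [show bε (EtCoh.top X) = q ≫ hT.from (extObj k L) from hT.hom_ext _ _, op_comp, Functor.map_comp_apply]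
    refine congrArg (F.obj.map q.op) ?_
    rw [ha']
    have hfrom : (hT.from (extObj k L)).left = specπ k L :=
      (Category.comp_id _).symm.trans (MorphismProperty.Over.w (hT.from (extObj k L)))
    show _ = (ULift.up (Additive.ofMul (Units.map (hT.from (extObj k L)).left.appTop.hom.toMonoidHom
      (Units.map (Scheme.ΓSpecIso (CommRingCat.of k)).inv.hom.toMonoidHom a'))) :
        ULift.{u + 1} (Additive ((Γ(Spec (CommRingCat.of L), ⊤) : Type u)ˣ)))
    refine congrArg (fun z => ULift.up (Additive.ofMul z)) (Units.ext ?_)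
    show (Scheme.ΓSpecIso (CommRingCat.of L)).inv (algebraMap k L a') =
      (hT.from (extObj k L)).left.appTop ((Scheme.ΓSpecIso (CommRingCat.of k)).inv (a' : k))
    rw [hfrom]
    exact ConcreteCategory.congr_hom (Scheme.ΓSpecIso_inv_naturality (CommRingCat.ofHom (algebraMap k L))) (a' : k)
  have hγ : γ = Sheaf.H.map ν 0 ((Sheaf.H.equiv₀ (indSh L F) hT).symm y) := by
    rw [Sheaf.H.equiv₀_symm_naturality, hy, AddEquiv.symm_apply_apply]
  rw [hγ, Sheaf.H.map_apply, Ext.comp_assoc_of_second_deg_zero]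
  exact (congrArg (fun z => Ext.comp _ z (zero_add 1)) hS₂.comp_extClass).trans (Ext.comp_zero _ _ _ _ _)

end Cyclic

/-- Norms from cyclic extensions of finite extensions are surjective. -/
def NormSurj (K : Type u) [Field K] : Prop :=
  ∀ (E L : Type u) [Field E] [Field L] [Algebra K E] [Algebra E L], FiniteDimensional K E → FiniteDimensional E L →
    IsGalois E L → ∀ σ : L ≃ₐ[E] L, (∀ τ, τ ∈ Subgroup.zpowers σ) → ∀ a : Eˣ, ∃ b : L, Algebra.norm E b = (a : E)

theorem NormSurj.of_finite {K : Type u} [Field K] (h : NormSurj K) (K' : Type u) [Field K'] [Algebra K K']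
    [FiniteDimensional K K'] : NormSurj K' := by
  intro E L _ _ _ _ _ _ _ σ hσ a
  letI : Algebra K E := ((algebraMap K' E).comp (algebraMap K K')).toAlgebra
  haveI : IsScalarTower K K' E := IsScalarTower.of_algebraMap_eq fun _ => rfl
  exact h E L (FiniteDimensional.trans K K' E) inferInstance inferInstance σ hσ a

/-- The inverse image of a class of `G_m` as a class of `G_m`. -/
def gmRes (k E : Type u) [Field k] [Field E] [Algebra k E] [FiniteDimensional k E] [Algebra.IsSeparable k E] {n : ℕ}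
    (α : EtCoh.H (Spec (CommRingCat.of k)) (EtCoh.Gm (Spec (CommRingCat.of k))) n) :
    EtCoh.H (Spec (CommRingCat.of E)) (EtCoh.Gm (Spec (CommRingCat.of E))) n :=
  conjExt (EtCore.pullConst (specπ k E) ℤ).symm ((pullIsoRestr (specπ k E)).app _ ≪≫ restrGm (specπ k E))
    (Ext.mapExactFunctor (EtCoh.pull (specπ k E)) α)

theorem mapExact_gmRes_eq_zero_iff (k E M : Type u) [Field k] [Field E] [Field M] [Algebra k E] [Algebra E M] [Algebra k M]
    [IsScalarTower k E M] [FiniteDimensional k E] [Algebra.IsSeparable k E] [FiniteDimensional E M]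
    [Algebra.IsSeparable E M] [FiniteDimensional k M] [Algebra.IsSeparable k M] {n : ℕ}
    (α : EtCoh.H (Spec (CommRingCat.of k)) (EtCoh.Gm (Spec (CommRingCat.of k))) n) :
    Ext.mapExactFunctor (EtCoh.pull (specπ E M)) (gmRes k E α) = 0 ↔
      Ext.mapExactFunctor (EtCoh.pull (specπ k M)) α = 0 := by
  rw [gmRes, mapExact_conjExt_eq_zero_iff]
  refine (mapExact_comp_eq_zero_iff (specπ E M) (specπ k E) (specπ k M) ?_ n α).symm
  rw [← Spec.map_comp]
  exact congrArg Spec.map (CommRingCat.hom_ext (IsScalarTower.algebraMap_eq k E M).symm)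

theorem nsmul_eq_zero_of_gmRes (k E : Type u) [Field k] [Field E] [Algebra k E] [FiniteDimensional k E]
    [Algebra.IsSeparable k E] {n : ℕ}
    (α : EtCoh.H (Spec (CommRingCat.of k)) (EtCoh.Gm (Spec (CommRingCat.of k))) n) (h : gmRes k E α = 0) :
    Module.finrank k E • α = 0 :=
  finrank_nsmul_eq_zero k E _ n α ((conjExt_eq_zero_iff _ _ _).1 h)

section Main

variable (m : ℕ)
    (IH : ∀ (K : Type u) [Field K], NormSurj K → ∀ j : ℕ, 0 < j → j < m + 2 →
      ∀ x : EtCoh.H (Spec (CommRingCat.of K)) (EtCoh.Gm (Spec (CommRingCat.of K))) j, x = 0)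

include IH in
theorem eq_zero_of_pgroup (p : ℕ) (hp : p.Prime) : ∀ (N : ℕ) (E M : Type u) [Field E] [Field M] [Algebra E M]
    [FiniteDimensional E M] [IsGalois E M], NormSurj E → Module.finrank E M = p ^ N →
    ∀ α : EtCoh.H (Spec (CommRingCat.of E)) (EtCoh.Gm (Spec (CommRingCat.of E))) (m + 2),
      Ext.mapExactFunctor (EtCoh.pull (specπ E M)) α = 0 → α = 0 := by
  haveI := Fact.mk hp
  intro N
  induction N with
  | zero =>
    intro E M _ _ _ _ _ _ hN α hα
    have := finrank_nsmul_eq_zero E M _ _ α hα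
    rwa [hN, pow_zero, one_smul] at this
  | succ N ih =>
    intro E M _ _ _ _ _ hK hN α hα
    have hcard : Nat.card (M ≃ₐ[E] M) = p ^ (N + 1) := by rw [IsGalois.card_aut_eq_finrank, hN]
    obtain ⟨H, hH⟩ := Sylow.exists_subgroup_card_pow_prime (G := M ≃ₐ[E] M) p (n := N)
      (hcard ▸ pow_dvd_pow p (Nat.le_succ N))
    have hidx : H.index = p := by
      have := Subgroup.card_mul_index H
      rw [hH, hcard, pow_succ] at this
      exact Nat.eq_of_mul_eq_mul_left (pow_pos hp.pos N) this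
    haveI : H.Normal := Subgroup.normal_of_index_eq_minFac_card (by
      rw [hidx, hcard, Nat.pow_minFac N.succ_ne_zero, hp.minFac_eq])
    let E₁ := IntermediateField.fixedField H
    haveI : IsGalois E E₁ := IsGalois.of_fixedField_normal_subgroup H
    have hM1 : Module.finrank E₁ M = p ^ N := (IntermediateField.finrank_fixedField_eq_card H).trans hH
    have h1 : Module.finrank E E₁ = p := by
      refine Nat.eq_of_mul_eq_mul_right (pow_pos hp.pos N) ?_
      rw [← hM1, Module.finrank_mul_finrank, hN, hM1, pow_succ, mul_comm]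
    have hres := ih E₁ M (hK.of_finite E₁) hM1 (gmRes E E₁ α) ((mapExact_gmRes_eq_zero_iff E E₁ M α).2 hα)
    haveI : IsCyclic (E₁ ≃ₐ[E] E₁) := isCyclic_of_prime_card (p := p) (by rw [IsGalois.card_aut_eq_finrank, h1])
    obtain ⟨σ, hσ⟩ := IsCyclic.exists_generator (α := E₁ ≃ₐ[E] E₁)
    refine eq_zero_of_cyclic hσ (fun a => ?_) m (IH E₁ (hK.of_finite E₁) (m + 1) m.succ_pos (Nat.lt_succ_self _))
      (fun hm => IH E hK m hm (by omega)) α ((conjExt_eq_zero_iff _ _ _).1 hres)
    exact hK E E₁ inferInstance inferInstance inferInstance σ hσ a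

include IH in
theorem eq_zero_step (K : Type u) [Field K] (hK : NormSurj K)
    (α : EtCoh.H (Spec (CommRingCat.of K)) (EtCoh.Gm (Spec (CommRingCat.of K))) (m + 2)) : α = 0 := by
  by_contra hne
  have hα : IsOfFinAddOrder α := isOfFinAddOrder K _ (m + 1) α
  have hord : addOrderOf α ≠ 1 := fun h => hne (AddMonoid.addOrderOf_eq_one_iff.1 h)
  obtain ⟨p, hp, hpα⟩ := Nat.exists_prime_and_dvd hord
  obtain ⟨L, _, _, _, _, hL⟩ := exists_kill K (m + 1) _ α
  obtain ⟨M, _, _, _, _, _, ⟨σ⟩⟩ := exists_galois K L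
  have hM : Ext.mapExactFunctor (EtCoh.pull (specπ K M)) α = 0 := by
    letI : Algebra L M := σ.toRingHom.toAlgebra
    haveI : IsScalarTower K L M := IsScalarTower.of_algebraMap_eq fun x => (σ.commutes x).symm
    haveI : FiniteDimensional L M := FiniteDimensional.right K L M
    haveI : Algebra.IsSeparable L M := Algebra.isSeparable_tower_top_of_isSeparable K L M
    refine (mapExact_gmRes_eq_zero_iff K L M α).1 ?_
    have : gmRes K L α = 0 := (conjExt_eq_zero_iff _ _ _).2 hL
    rw [this, Ext.mapExactFunctor_zero]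
  haveI := Fact.mk hp
  let P : Sylow p (M ≃ₐ[K] M) := default
  let E := IntermediateField.fixedField (P : Subgroup (M ≃ₐ[K] M))
  obtain ⟨N, hN⟩ := IsPGroup.iff_card.1 P.isPGroup'
  have hME : Module.finrank E M = p ^ N := (IntermediateField.finrank_fixedField_eq_card _).trans hN
  have hE : Module.finrank K E = (P : Subgroup (M ≃ₐ[K] M)).index := by
    refine Nat.eq_of_mul_eq_mul_right (Module.finrank_pos : 0 < Module.finrank E M) ?_
    rw [Module.finrank_mul_finrank, hME, ← hN, Subgroup.index_mul_card, IsGalois.card_aut_eq_finrank]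
  have h0 := eq_zero_of_pgroup m IH p hp N E M (hK.of_finite E) hME (gmRes K E α)
    ((mapExact_gmRes_eq_zero_iff K E M α).2 hM)
  exact P.not_dvd_index (hE ▸ hpα.trans (addOrderOf_dvd_iff_nsmul_eq_zero.2 (nsmul_eq_zero_of_gmRes K E α h0)))

end Main

/-- `H^q(K, G_m) = 0` for `q ≥ 1` when norms are surjective. -/
theorem H_Gm_eq_zero_of_normSurj : ∀ (q : ℕ) (K : Type u) [Field K], NormSurj K → 0 < q →
    ∀ x : EtCoh.H (Spec (CommRingCat.of K)) (EtCoh.Gm (Spec (CommRingCat.of K))) q, x = 0 := by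
  intro q
  induction q using Nat.strong_induction_on with
  | _ q ih =>
    intro K _ hK hq x
    obtain rfl | ⟨m, rfl⟩ : q = 1 ∨ ∃ m, q = m + 2 := by
      rcases q with _ | _ | m
      · omega
      · exact Or.inl rfl
      · exact Or.inr ⟨m, rfl⟩
    · exact H1_Gm_eq_zero K x
    · exact eq_zero_step m (fun K' _ hK' j hj hjm => ih j hjm K' hK' hj) K hK x

end Groth.Agent.EtTraceLib
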