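import Groth.Agent.EtTraceLib.SepExt
import Groth.Prelude.Def_EtGm
import Mathlib.RepresentationTheory.Homological.GroupCohomology.Hilbert90

/-!
# Hilbert 90 for the étale cohomology of a field
-/

set_option autoImplicit false
set_option backward.isDefEq.respectTransparency false
set_option backward.isDefEq.respectTransparency.types false
set_option linter.style.haveILetI false
set_option maxHeartbeats 1000000

universe u

open CategoryTheory CategoryTheory.Limits AlgebraicGeometry Opposite CategoryTheory.Abelian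

noncomputable section

namespace Groth.Agent.EtTraceLib

open EtPtsLib

variable {X : Scheme.{u}}

/-- Sections over a fixed object preserve exactness on the left. -/
theorem exists_sect_preimage {S : ShortComplex (EtCoh.Ab X)} (hS : S.ShortExact) {U : X.Etale}
    (t : EtCoh.sect S.X₂ U) (h : S.g.hom.app (op U) t = 0) :
    ∃ s : EtCoh.sect S.X₁ U, S.f.hom.app (op U) s = t := by
  let F := sheafToPresheaf X.smallEtaleTopology AddCommGrpCat.{u + 1} ⋙ (evaluation _ _).obj (op U)
  haveI : F.Additive := { }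
  haveI := hS.mono_f
  exact (ShortComplex.ab_exact_iff _).1 (hS.exact.map_of_mono_of_preservesKernel F inferInstance inferInstance) t h

/-- A class of degree one vanishes when the corresponding global section lifts. -/
theorem extClass_eq_zero_of_lift {S : ShortComplex (EtCoh.Ab X)} (hS : S.ShortExact)
    (b : EtCoh.const X ℤ ⟶ S.X₃) (t : EtCoh.sect S.X₂ (EtCoh.top X))
    (ht : S.g.hom.app (op (EtCoh.top X)) t =
      (constantSheafAdj X.smallEtaleTopology AddCommGrpCat.{u + 1} (EtCore.topIsTerminal X)).homEquiv _ _ b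
        (ULift.up.{u + 1} (1 : ℤ))) :
    (Ext.mk₀ b).comp hS.extClass (zero_add 1) = 0 := by
  let A := constantSheafAdj X.smallEtaleTopology AddCommGrpCat.{u + 1} (EtCore.topIsTerminal X)
  let c : EtCoh.const X ℤ ⟶ S.X₂ :=
    (A.homEquiv _ _).symm (AddCommGrpCat.ofHom (X := ULift.{u + 1} ℤ)
      ((zmultiplesHom _ t).comp AddEquiv.ulift.toAddMonoidHom))
  have hc : c ≫ S.g = b := by
    apply (A.homEquiv _ _).injective
    rw [Adjunction.homEquiv_naturality_right, Equiv.apply_symm_apply]
    refine AddCommGrpCat.hom_ext (AddMonoidHom.ext fun n => ?_)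
    have hn : n = n.down • ULift.up.{u + 1} (1 : ℤ) := ULift.ext _ _ (by simp)
    rw [hn, map_zsmul, map_zsmul]
    refine congrArg (n.down • ·) ?_
    show S.g.hom.app (op (EtCoh.top X)) ((1 : ℤ) • t) = _
    rw [one_smul, ht]
  rw [← hc, ← Ext.mk₀_comp_mk₀, Ext.comp_assoc_of_second_deg_zero, hS.comp_extClass, Ext.comp_zero]

/-- Morphisms to an étale scheme which agree at a point agree near it. -/
theorem exists_eq_nbhd {Z V : X.Etale} (a b : Z ⟶ V) (z : Z.left)
    (h : Z.left.fromSpecResidueField z ≫ a.left = Z.left.fromSpecResidueField z ≫ b.left) :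
    ∃ (W : X.Etale) (w : W ⟶ Z), (∃ v : W.left, w.left v = z) ∧ w ≫ a = w ≫ b := by
  haveI : AlgebraicGeometry.Etale V.hom := V.prop
  let D := pullback.diagonal V.hom
  let l : Z.left ⟶ pullback V.hom V.hom :=
    pullback.lift a.left b.left ((MorphismProperty.Over.w a).trans (MorphismProperty.Over.w b).symm)
  let O : Z.left.Opens := l ⁻¹ᵁ D.opensRange
  have hl : Z.left.fromSpecResidueField z ≫ l = (Z.left.fromSpecResidueField z ≫ a.left) ≫ D := by
    refine pullback.hom_ext ?_ ?_
    · simp [l, D]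
    · simp [l, D, h]
  have hz : z ∈ O := by
    refine ⟨(Z.left.fromSpecResidueField z ≫ a.left) default, ?_⟩
    show ((Z.left.fromSpecResidueField z ≫ a.left) ≫ D) default = l z
    rw [← hl]
    exact congrArg l.base (Scheme.fromSpecResidueField_apply z default)
  refine ⟨openSub Z O, openIncl Z O, ⟨⟨z, hz⟩, rfl⟩, MorphismProperty.Over.Hom.ext ?_⟩
  have hr : Set.range (O.ι ≫ l) ⊆ Set.range D := by
    rintro _ ⟨y, rfl⟩
    exact y.2
  have hm := IsOpenImmersion.lift_fac D (O.ι ≫ l) hr
  have h1 := congrArg (· ≫ pullback.fst V.hom V.hom) hm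
  have h2 := congrArg (· ≫ pullback.snd V.hom V.hom) hm
  simp only [l, D, Category.assoc, pullback.lift_fst, pullback.lift_snd, pullback.diagonal_fst,
    pullback.diagonal_snd, Category.comp_id] at h1 h2
  exact h1.symm.trans h2

section Field

variable (k L : Type u) [Field k] [Field L] [Algebra k L] [FiniteDimensional k L] [Algebra.IsSeparable k L]

/-- A finite separable extension as an object of the small étale site. -/
def extObj : (Spec (CommRingCat.of k)).Etale :=
  haveI := etale_specMap k L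
  Scheme.Etale.mk (Spec.map (CommRingCat.ofHom (algebraMap k L)))

variable {k L}

/-- The action of an automorphism. -/
def galMap (σ : L ≃ₐ[k] L) : extObj k L ⟶ extObj k L :=
  MorphismProperty.Over.homMk (Spec.map (CommRingCat.ofHom σ.toAlgHom.toRingHom)) (by
    show Spec.map _ ≫ Spec.map _ = Spec.map _
    rw [← Spec.map_comp]
    exact congrArg Spec.map (CommRingCat.hom_ext (RingHom.ext fun x => σ.commutes x)))

theorem galMap_mul (σ τ : L ≃ₐ[k] L) : galMap (σ * τ) = galMap σ ≫ galMap τ :=
  MorphismProperty.Over.Hom.ext (Spec.map_comp (CommRingCat.ofHom τ.toAlgHom.toRingHom) (CommRingCat.ofHom σ.toAlgHom.toRingHom))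

/-- A nonzero element as a section of `G_m`. -/
def unitSect (a : Lˣ) : EtCoh.sect (EtCoh.Gm (Spec (CommRingCat.of k))) (extObj k L) :=
  (ULift.up (Additive.ofMul (Units.map (Scheme.ΓSpecIso (CommRingCat.of L)).inv.hom.toMonoidHom a)) :
    ULift.{u + 1} (Additive ((Γ(Spec (CommRingCat.of L), ⊤) : Type u)ˣ)))

theorem unitSect_mul (a b : Lˣ) : unitSect (k := k) (a * b) = unitSect a + unitSect b := by
  show (ULift.up _ : ULift.{u + 1} (Additive ((Γ(Spec (CommRingCat.of L), ⊤) : Type u)ˣ))) = _
  rw [map_mul]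
  rfl

theorem unitSect_bijective : Function.Bijective (unitSect (k := k) (L := L)) := by
  refine (ULift.up_bijective.comp Additive.ofMul.bijective).comp ?_
  exact (Units.mapEquiv (Scheme.ΓSpecIso (CommRingCat.of L)).symm.commRingCatIsoToRingEquiv.toMulEquiv).bijective

theorem map_galMap_unitSect (σ : L ≃ₐ[k] L) (a : Lˣ) :
    (EtCoh.Gm (Spec (CommRingCat.of k))).obj.map (galMap σ).op (unitSect a) = unitSect (σ • a) := by
  show (ULift.up (Additive.ofMul (Units.map (Spec.map (CommRingCat.ofHom σ.toAlgHom.toRingHom)).appTop.hom.toMonoidHom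
      (Units.map (Scheme.ΓSpecIso (CommRingCat.of L)).inv.hom.toMonoidHom a))) :
    ULift.{u + 1} (Additive ((Γ(Spec (CommRingCat.of L), ⊤) : Type u)ˣ))) = _
  refine congrArg (fun z => ULift.up (Additive.ofMul z)) (Units.ext ?_)
  exact (ConcreteCategory.congr_hom (Scheme.ΓSpecIso_inv_naturality (CommRingCat.ofHom σ.toAlgHom.toRingHom))
    (a : L)).symm

/-- Invariant sections descend. -/
theorem exists_descend [IsGalois k L] (F : EtCoh.Ab (Spec (CommRingCat.of k))) (t : EtCoh.sect F (extObj k L))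
    (ht : ∀ σ : L ≃ₐ[k] L, F.obj.map (galMap σ).op t = t) :
    ∃ s : EtCoh.sect F (EtCoh.top (Spec (CommRingCat.of k))),
      F.obj.map ((EtCore.topIsTerminal _).from (extObj k L)).op s = t := by
  let X := Spec (CommRingCat.of k)
  let hT := EtCore.topIsTerminal X
  let V := extObj k L
  let g := hT.from V
  have hcov : Sieve.generate (Presieve.singleton g) ∈ X.smallEtaleTopology (EtCoh.top X) :=
    covering_of_points _ fun x => by
      obtain ⟨v⟩ : Nonempty V.left := ⟨IsLocalRing.closedPoint L⟩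
      exact ⟨V, g, v, Sieve.le_generate _ _ _ ⟨⟩, Subsingleton.elim (α := PrimeSpectrum k) _ _⟩
  have hs := (isSheaf_iff_isSheaf_of_type _ _).1
    ((Presheaf.isSheaf_iff_isSheaf_forget X.smallEtaleTopology F.obj (forget AddCommGrpCat.{u + 1})).1 F.property) _ hcov
  rw [← Presieve.isSheafFor_iff_generate, Presieve.isSheafFor_singleton] at hs
  obtain ⟨s, hs', -⟩ := hs t (fun {Z} p₁ p₂ _ => by
    show F.obj.map p₁.op t = F.obj.map p₂.op t
    rw [← sub_eq_zero]
    refine sect_eq_zero_of_locally F _ fun z => ?_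
    let R := Z.left.residueField z
    obtain ⟨φ₁, hφ₁⟩ : ∃ φ : CommRingCat.of L ⟶ R, Spec.map φ = Z.left.fromSpecResidueField z ≫ p₁.left :=
      ⟨_, Spec.map_preimage _⟩
    obtain ⟨φ₂, hφ₂⟩ : ∃ φ : CommRingCat.of L ⟶ R, Spec.map φ = Z.left.fromSpecResidueField z ≫ p₂.left :=
      ⟨_, Spec.map_preimage _⟩
    letI : Algebra L R := φ₁.hom.toAlgebra
    letI : Algebra k R := (φ₁.hom.comp (algebraMap k L)).toAlgebra
    haveI : IsScalarTower k L R := IsScalarTower.of_algebraMap_eq fun _ => rfl
    have h12 : CommRingCat.ofHom (algebraMap k L) ≫ φ₂ = CommRingCat.ofHom (algebraMap k L) ≫ φ₁ := by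
      apply Spec.map_injective
      rw [Spec.map_comp, Spec.map_comp, hφ₁, hφ₂, Category.assoc, Category.assoc]
      exact congrArg (Z.left.fromSpecResidueField z ≫ ·)
        ((MorphismProperty.Over.w p₂).trans (MorphismProperty.Over.w p₁).symm)
    let i₂ : L →ₐ[k] R := { φ₂.hom with commutes' := fun a => ConcreteCategory.congr_hom h12 a }
    let σ : L ≃ₐ[k] L := i₂.restrictNormal' L
    have hσ : ∀ x, φ₁ (σ x) = φ₂ x := fun x => AlgHom.restrictNormal_commutes i₂ L x
    let e : Z ⟶ V := p₁ ≫ galMap σ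
    have he : Z.left.fromSpecResidueField z ≫ e.left = Z.left.fromSpecResidueField z ≫ p₂.left := by
      show Z.left.fromSpecResidueField z ≫ p₁.left ≫ Spec.map _ = _
      rw [← Category.assoc, ← hφ₁, ← hφ₂, ← Spec.map_comp]
      exact congrArg Spec.map (CommRingCat.hom_ext (RingHom.ext hσ))
    obtain ⟨W, w, ⟨v, hv⟩, hw⟩ : ∃ (W : X.Etale) (w : W ⟶ Z), (∃ v : W.left, w.left v = z) ∧ w ≫ e = w ≫ p₂ :=
      exists_eq_nbhd e p₂ z he
    refine ⟨W, w, ⟨v, hv⟩, ?_⟩
    rw [map_sub, sub_eq_zero, ← Functor.map_comp_apply, ← Functor.map_comp_apply, ← op_comp, ← op_comp, ← hw]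
    show _ = F.obj.map (w ≫ p₁ ≫ galMap σ).op t
    rw [← Category.assoc]
    refine Eq.trans ?_ (Functor.map_comp_apply F.obj (galMap σ).op (w ≫ p₁).op t).symm
    rw [ht σ])
  exact ⟨s, hs'⟩

/-- A short exact sequence starting with `G_m`: a global section liftable over a finite Galois extension lifts. -/
theorem exists_lift_top [IsGalois k L] {S : ShortComplex (EtCoh.Ab (Spec (CommRingCat.of k)))} (hS : S.ShortExact)
    (e : S.X₁ ≅ EtCoh.Gm (Spec (CommRingCat.of k))) (q : EtCoh.sect S.X₃ (EtCoh.top (Spec (CommRingCat.of k))))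
    (t : EtCoh.sect S.X₂ (extObj k L))
    (ht : S.g.hom.app (op (extObj k L)) t = S.X₃.obj.map ((EtCore.topIsTerminal _).from (extObj k L)).op q) :
    ∃ s : EtCoh.sect S.X₂ (EtCoh.top (Spec (CommRingCat.of k))), S.g.hom.app _ s = q := by
  let X := Spec (CommRingCat.of k)
  let hT := EtCore.topIsTerminal X
  let V := extObj k L
  let j : EtCoh.Gm X ⟶ S.X₂ := e.inv ≫ S.f
  haveI := hS.mono_f
  have hinj : Function.Injective (fun a : Lˣ => j.hom.app (op V) (unitSect a)) := by
    haveI : Mono j := mono_comp _ _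
    haveI : Mono (j.hom.app (op V)) := inferInstanceAs (Mono
      ((sheafToPresheaf X.smallEtaleTopology AddCommGrpCat.{u + 1} ⋙ (evaluation _ _).obj (op V)).map j))
    exact ((AddCommGrpCat.mono_iff_injective _).1 inferInstance).comp unitSect_bijective.1
  have hpre : ∀ d : EtCoh.sect S.X₂ V, S.g.hom.app (op V) d = 0 → ∃ a : Lˣ, j.hom.app (op V) (unitSect a) = d := by
    intro d hd
    obtain ⟨s, rfl⟩ := exists_sect_preimage hS d hd
    obtain ⟨a, ha⟩ := unitSect_bijective.2 (e.hom.hom.app (op V) s)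
    refine ⟨a, ?_⟩
    rw [ha]
    exact ConcreteCategory.congr_hom (congrArg (fun m => m.hom.app (op V)) (e.hom_inv_id_assoc S.f)) s
  have hgσ : ∀ σ : L ≃ₐ[k] L, S.g.hom.app (op V) (S.X₂.obj.map (galMap σ).op t - t) = 0 := by
    intro σ
    rw [map_sub, sub_eq_zero, NatTrans.naturality_apply S.g.hom (galMap σ).op t, ht, ← Functor.map_comp_apply, ← op_comp]
    exact congrArg (fun m => S.X₃.obj.map (Quiver.Hom.op m) q) (hT.hom_ext (galMap σ ≫ hT.from V) (hT.from V))
  choose c hc using fun σ => hpre _ (hgσ σ)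
  have hact : ∀ (σ : L ≃ₐ[k] L) (a : Lˣ),
      S.X₂.obj.map (galMap σ).op (j.hom.app (op V) (unitSect a)) = j.hom.app (op V) (unitSect (σ • a)) := fun σ a => by
    rw [← map_galMap_unitSect]
    exact (NatTrans.naturality_apply j.hom (galMap σ).op (unitSect a)).symm
  have hcoc : groupCohomology.IsMulCocycle₁ c := by
    intro σ τ
    refine hinj ?_
    simp only [unitSect_mul, map_add, hc]
    rw [← hact, hc, map_sub, galMap_mul, op_comp, Functor.map_comp_apply]
    abel
  obtain ⟨β, hβ⟩ := groupCohomology.isMulCoboundary₁_of_isMulCocycle₁_of_aut_to_units c hcoc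
  obtain ⟨s, hs⟩ := exists_descend S.X₂ (t - j.hom.app (op V) (unitSect β)) (fun σ => by
    rw [map_sub, hact, show σ • β = c σ * β from (div_eq_iff_eq_mul.1 (hβ σ)), unitSect_mul, map_add, hc]
    abel)
  refine ⟨s, ?_⟩
  have hinjq : Function.Injective (S.X₃.obj.map (hT.from V).op) := by
    intro a b hab
    rw [← sub_eq_zero]
    refine sect_eq_zero_of_locally S.X₃ _ fun x => ?_
    obtain ⟨v⟩ : Nonempty V.left := ⟨IsLocalRing.closedPoint L⟩
    exact ⟨V, hT.from V, ⟨v, Subsingleton.elim (α := PrimeSpectrum k) _ _⟩, by rw [map_sub, hab, sub_self]⟩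
  refine hinjq ?_
  rw [← NatTrans.naturality_apply S.g.hom (hT.from V).op s, hs, map_sub, ht]
  refine sub_eq_self.2 ?_
  show ((j.hom.app (op V)) ≫ S.g.hom.app (op V)) (unitSect β) = 0
  have hz : j ≫ S.g = 0 := by rw [Category.assoc, S.zero, comp_zero]
  exact ConcreteCategory.congr_hom (congrArg (fun m => m.hom.app (op V)) hz) (unitSect β)

end Field

/-- Every finite separable extension embeds in a finite Galois extension. -/
theorem exists_galois (k L : Type u) [Field k] [Field L] [Algebra k L] [FiniteDimensional k L] [Algebra.IsSeparable k L] :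
    ∃ (M : Type u) (_ : Field M) (_ : Algebra k M) (_ : FiniteDimensional k M) (_ : Algebra.IsSeparable k M)
      (_ : IsGalois k M), Nonempty (L →ₐ[k] M) := by
  let M := IntermediateField.normalClosure k L (AlgebraicClosure L)
  haveI : Algebra.IsAlgebraic k (AlgebraicClosure L) := Algebra.IsAlgebraic.trans k L (AlgebraicClosure L)
  haveI : IsAlgClosure k (AlgebraicClosure L) := ⟨inferInstance, inferInstance⟩
  haveI : Normal k (AlgebraicClosure L) := IsAlgClosure.normal k _
  haveI : Algebra.IsSeparable k M := (le_separableClosure_iff k (AlgebraicClosure L) M).1 <|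
    normalClosure_le_iff.2 fun f => by
      rintro _ ⟨x, rfl⟩
      exact mem_separableClosure_iff.2 ((Algebra.IsSeparable.isSeparable k x).map f f.injective)
  haveI : FiniteDimensional k M := normalClosure.is_finiteDimensional k L (AlgebraicClosure L)
  exact ⟨M, inferInstance, inferInstance, inferInstance, inferInstance, isGalois_iff.2 ⟨inferInstance, inferInstance⟩,
    ⟨(IsScalarTower.toAlgHom k L (AlgebraicClosure L)).codRestrict M.toSubalgebra fun x =>
      (AlgHom.fieldRange_le_normalClosure (IsScalarTower.toAlgHom k L (AlgebraicClosure L))) ⟨x, rfl⟩⟩⟩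

/-- Hilbert 90: the first étale cohomology of `G_m` of a field vanishes. -/
theorem H1_Gm_eq_zero (k : Type u) [Field k]
    (α : EtCoh.H (Spec (CommRingCat.of k)) (EtCoh.Gm (Spec (CommRingCat.of k))) 1) : α = 0 := by
  let X := Spec (CommRingCat.of k)
  let S : ShortComplex (EtCoh.Ab X) :=
    ShortComplex.mk (Injective.ι (EtCoh.Gm X)) (cokernel.π (Injective.ι (EtCoh.Gm X))) (cokernel.condition _)
  have hS : S.ShortExact := { exact := S.exact_of_g_is_cokernel (cokernelIsCokernel _) }
  obtain ⟨y, rfl⟩ : ∃ y : Ext (EtCoh.const X ℤ) S.X₃ 0, y.comp hS.extClass rfl = α :=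
    Ext.covariant_sequence_exact₁ _ hS α (Ext.eq_zero_of_injective (I := S.X₂) _) rfl
  obtain ⟨b, rfl⟩ := (Ext.mk₀_bijective _ _).2 y
  let hT := EtCore.topIsTerminal X
  let q := (constantSheafAdj X.smallEtaleTopology AddCommGrpCat.{u + 1} hT).homEquiv _ _ b (ULift.up.{u + 1} (1 : ℤ))
  haveI := hS.epi_g
  haveI : Sheaf.IsLocallySurjective S.g :=
    (Sheaf.isLocallySurjective_iff_epi' AddCommGrpCat.{u + 1} S.g).2 inferInstance
  obtain ⟨V, g, v, ⟨t, ht⟩, hv⟩ := exists_mem_of_covering
    (Presheaf.imageSieve_mem X.smallEtaleTopology S.g.hom (U := op (EtCoh.top X)) q) (IsLocalRing.closedPoint k)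
  haveI : AlgebraicGeometry.Etale V.hom := V.prop
  obtain ⟨L, _, _, _, _, h, hh⟩ := exists_point_of_etale k V.hom v
  obtain ⟨M, _, _, _, _, _, ⟨σ⟩⟩ := exists_galois k L
  let m : extObj k M ⟶ V := MorphismProperty.Over.homMk (Spec.map (CommRingCat.ofHom σ.toRingHom) ≫ h) (by
    show (Spec.map _ ≫ h) ≫ V.hom = Spec.map _
    rw [Category.assoc, hh, ← Spec.map_comp]
    exact congrArg Spec.map (CommRingCat.hom_ext (RingHom.ext fun x => σ.commutes x)))
  obtain ⟨s, hs⟩ := exists_lift_top hS (Iso.refl _) q (S.X₂.obj.map m.op t) (by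
    rw [NatTrans.naturality_apply S.g.hom m.op t, ht, ← Functor.map_comp_apply, ← op_comp]
    exact congrArg (fun m => S.X₃.obj.map (Quiver.Hom.op m) q) (hT.hom_ext (m ≫ g) (hT.from (extObj k M))))
  exact extClass_eq_zero_of_lift hS b s hs

end Groth.Agent.EtTraceLib
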