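import Groth.Agent.EtTraceLib.BrauerNorm
import Mathlib.RepresentationTheory.Homological.GroupCohomology.Hilbert90
import Mathlib.RingTheory.Norm.Transitivity
import Mathlib.GroupTheory.Sylow

/-!
# Norms in Galois extensions from norms in cyclic extensions
-/

set_option autoImplicit false
set_option linter.style.haveILetI false

universe u

noncomputable section

namespace Groth.Agent.EtTraceLib

/-- The subgroup generated by the `w / g w`. -/
def augSub (K L : Type u) [Field K] [Field L] [Algebra K L] : Subgroup Lˣ :=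
  Subgroup.closure {v : Lˣ | ∃ (w : Lˣ) (g : L ≃ₐ[K] L), (v : L) = (w : L) / g (w : L)}

theorem augSub_mem (K : Type u) {L : Type u} [Field K] [Field L] [Algebra K L] (w : Lˣ) (g : L ≃ₐ[K] L) :
    w / Units.map (g : L →* L) w ∈ augSub K L :=
  Subgroup.subset_closure ⟨w, g, by rw [Units.val_div_eq_div_val]; rfl⟩

theorem augSub_le (K E L : Type u) [Field K] [Field E] [Field L] [Algebra K E] [Algebra E L] [Algebra K L]
    [IsScalarTower K E L] : augSub E L ≤ augSub K L :=
  Subgroup.closure_mono fun _ ⟨w, g, h⟩ => ⟨w, g.restrictScalars K, h⟩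

theorem augSub_le_ker (K L : Type u) [Field K] [Field L] [Algebra K L] [FiniteDimensional K L] :
    augSub K L ≤ (Units.map (Algebra.norm K : L →* K)).ker := by
  refine (Subgroup.closure_le _).2 fun v ⟨w, g, hv⟩ => MonoidHom.mem_ker.2 (Units.ext ?_)
  show Algebra.norm K (v : L) = 1
  rw [hv, div_eq_mul_inv, map_mul, Algebra.norm_inv, Algebra.norm_eq_of_algEquiv g (w : L)]
  exact mul_inv_cancel₀ (Algebra.norm_ne_zero_iff.2 w.ne_zero)

/-- A class killed by numbers prime to every prime is trivial. -/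
theorem mem_of_pow_mem {G : Type u} [CommGroup G] (S : Subgroup G) (x : G)
    (h : ∀ p : ℕ, p.Prime → ∃ m : ℕ, ¬ p ∣ m ∧ x ^ m ∈ S) : x ∈ S := by
  rw [← QuotientGroup.eq_one_iff]
  rw [← orderOf_eq_one_iff]
  by_contra hne
  obtain ⟨p, hp, hpd⟩ := Nat.exists_prime_and_dvd hne
  obtain ⟨m, hm, hxm⟩ := h p hp
  refine hm (hpd.trans (orderOf_dvd_of_pow_eq_one ?_))
  rw [← QuotientGroup.mk_pow]
  exact (QuotientGroup.eq_one_iff _).2 hxm

/-- Hilbert 90 for a cyclic extension, in every universe. -/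
theorem hilbert90_cyclic (K L : Type u) [Field K] [Field L] [Algebra K L] [FiniteDimensional K L] [IsGalois K L]
    {σ : L ≃ₐ[K] L} (hσ : ∀ g, g ∈ Subgroup.zpowers σ) {x : L} (hx : Algebra.norm K x = 1) :
    ∃ y : Lˣ, (y : L) / σ (y : L) = x := by
  classical
  have hx0 : x ≠ 0 := fun h => by rw [h, Algebra.norm_zero] at hx; exact zero_ne_one hx
  let xu : Lˣ := Units.mk0 x hx0
  let F : ℕ → Lˣ := fun i => ∏ j ∈ Finset.range i, Units.map ((σ ^ j : L ≃ₐ[K] L) : L →* L) xu
  have hadd : ∀ i j : ℕ, F (i + j) = F i * Units.map ((σ ^ i : L ≃ₐ[K] L) : L →* L) (F j) := fun i j => by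
    simp only [F, Finset.prod_range_add, map_prod]
    refine congrArg _ (Finset.prod_congr rfl fun l _ => Units.ext ?_)
    show (σ ^ (i + l)) x = (σ ^ i) ((σ ^ l) x)
    rw [pow_add, AlgEquiv.mul_apply]
  have hn : F (orderOf σ) = 1 := by
    refine Units.ext ?_
    simp only [F, Units.coe_prod, Units.val_one]
    show ∏ j ∈ Finset.range (orderOf σ), (σ ^ j) x = 1
    rw [← map_one (algebraMap K L), ← hx, Algebra.norm_eq_prod_automorphisms]
    refine Finset.prod_nbij (fun j => σ ^ j) (fun j _ => Finset.mem_univ _) ?_ ?_ fun j _ => rfl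
    · intro a ha b hb hab
      exact pow_injOn_Iio_orderOf (Finset.mem_range.1 ha) (Finset.mem_range.1 hb) hab
    · intro g _
      obtain ⟨i, hi, hig⟩ := exists_pow_lt (σ := σ) hσ g
      exact ⟨i, Finset.mem_range.2 hi, hig⟩
  have hmul : ∀ m : ℕ, F (orderOf σ * m) = 1 := fun m => by
    induction m with
    | zero => simp [F]
    | succ m ihm => rw [Nat.mul_succ, hadd, ihm, hn, map_one, one_mul]
  have hper : ∀ i : ℕ, F i = F (i % orderOf σ) := fun i => by
    conv_lhs => rw [← Nat.div_add_mod i (orderOf σ)]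
    rw [hadd, hmul, one_mul, pow_mul, pow_orderOf_eq_one, one_pow]
    exact Units.ext rfl
  have hex : ∀ g : L ≃ₐ[K] L, ∃ i : ℕ, σ ^ i = g := fun g => by
    obtain ⟨i, -, hig⟩ := exists_pow_lt (σ := σ) hσ g
    exact ⟨i, hig⟩
  choose idx hidx using hex
  let f : (L ≃ₐ[K] L) → Lˣ := fun g => F (idx g)
  have hf : ∀ i : ℕ, f (σ ^ i) = F i := fun i => by
    show F (idx (σ ^ i)) = F i
    rw [hper, hper i, pow_eq_pow_iff_modEq.1 (hidx (σ ^ i))]
  have hc : groupCohomology.IsMulCocycle₁ f := fun g h => by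
    rw [← hidx g, ← hidx h, ← pow_add, hf, hf, hf, hadd, mul_comm]
    exact Units.ext rfl
  obtain ⟨β, hβ⟩ := groupCohomology.isMulCoboundary₁_of_isMulCocycle₁_of_aut_to_units f hc
  refine ⟨β⁻¹, ?_⟩
  have h1 : ((σ • β / β : Lˣ) : L) = x := by
    rw [hβ σ, ← pow_one σ, hf]
    simp [F, xu]
  rw [← h1, Units.val_div_eq_div_val, Units.val_inv_eq_inv_val, map_inv₀]
  show (β : L)⁻¹ / (σ (β : L))⁻¹ = σ (β : L) / (β : L)
  rw [div_inv_eq_mul, inv_mul_eq_div]

theorem pgroup_norm (p : ℕ) (hp : p.Prime) : ∀ (N : ℕ) (E M : Type u) [Field E] [Field M] [Algebra E M]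
    [FiniteDimensional E M] [IsGalois E M], NormSurj E → Module.finrank E M = p ^ N →
    (∀ a : Eˣ, ∃ b : Mˣ, Algebra.norm E (b : M) = (a : E)) ∧
      ∀ u : Mˣ, Algebra.norm E (u : M) = 1 → u ∈ augSub E M := by
  haveI := Fact.mk hp
  intro N
  induction N with
  | zero =>
    intro E M _ _ _ _ _ hK hN
    rw [pow_zero] at hN
    have hN' : ∀ e : E, Algebra.norm E (algebraMap E M e) = e := fun e => by
      rw [Algebra.norm_algebraMap, hN, pow_one]
    refine ⟨fun a => ⟨Units.map (algebraMap E M : E →* M) a, hN' a⟩, fun u hu => ?_⟩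
    obtain ⟨e, he⟩ : (u : M) ∈ (algebraMap E M).range := by
      have hbot : (⊥ : Subalgebra E M) = ⊤ := Subalgebra.bot_eq_top_of_finrank_eq_one hN
      exact Algebra.mem_bot.1 (hbot ▸ Algebra.mem_top)
    rw [← he, hN'] at hu
    have : u = 1 := Units.ext (by rw [← he, hu, map_one, Units.val_one])
    exact this ▸ one_mem _
  | succ N ih =>
    intro E M _ _ _ _ _ hK hN
    have hcard : Nat.card (M ≃ₐ[E] M) = p ^ (N + 1) := by rw [IsGalois.card_aut_eq_finrank, hN]
    obtain ⟨H, hH⟩ := Sylow.exists_subgroup_card_pow_prime (G := M ≃ₐ[E] M) p (n := N)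
      (hcard ▸ pow_dvd_pow p (Nat.le_succ N))
    have hidx : H.index = p := by
      have := Subgroup.card_mul_index H
      rw [hH, hcard, pow_succ] at this
      exact Nat.eq_of_mul_eq_mul_left (pow_pos hp.pos N) this
    haveI : H.Normal := Subgroup.normal_of_index_eq_minFac_card (by
      rw [hidx, hcard, Nat.pow_minFac N.succ_ne_zero, hp.minFac_eq])
    let E₁ := IntermediateField.fixedField H
    haveI : IsGalois E E₁ := IsGalois.of_fixedField_normal_subgroup H
    have hM1 : Module.finrank E₁ M = p ^ N := (IntermediateField.finrank_fixedField_eq_card H).trans hH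
    have h1 : Module.finrank E E₁ = p := by
      refine Nat.eq_of_mul_eq_mul_right (pow_pos hp.pos N) ?_
      rw [← hM1, Module.finrank_mul_finrank, hN, hM1, pow_succ, mul_comm]
    haveI : IsGalois E₁ M := IsGalois.tower_top_intermediateField E₁
    obtain ⟨hs, hk⟩ := ih E₁ M (hK.of_finite E₁) hM1
    haveI : IsCyclic (E₁ ≃ₐ[E] E₁) := isCyclic_of_prime_card (p := p) (by rw [IsGalois.card_aut_eq_finrank, h1])
    obtain ⟨σ, hσ⟩ := IsCyclic.exists_generator (α := E₁ ≃ₐ[E] E₁)
    refine ⟨fun a => ?_, fun u hu => ?_⟩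
    · obtain ⟨c, hc⟩ := hK E E₁ inferInstance inferInstance inferInstance σ hσ a
      have hc0 : c ≠ 0 := by
        rintro rfl
        exact a.ne_zero (hc ▸ Algebra.norm_zero)
      obtain ⟨b, hb⟩ := hs (Units.mk0 c hc0)
      exact ⟨b, by rw [← Algebra.norm_norm (S := E₁), hb, Units.val_mk0, hc]⟩
    · have hu1 : Algebra.norm E (Algebra.norm E₁ (u : M)) = 1 := by rw [Algebra.norm_norm, hu]
      obtain ⟨w, hw⟩ := hilbert90_cyclic E E₁ hσ hu1
      obtain ⟨v, hv⟩ := hs w
      obtain ⟨g, hg⟩ := AlgEquiv.restrictNormalHom_surjective (F := E) (K₁ := E₁) (E := M) σ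
      have hcomm : ∀ e : E₁, algebraMap E₁ M (σ e) = g (algebraMap E₁ M e) := fun e => by
        rw [← hg]
        exact AlgEquiv.restrictNormal_commutes g E₁ e
      have hgv : Algebra.norm E₁ (g (v : M)) = σ (w : E₁) := by
        have := Algebra.norm_eq_of_equiv_equiv σ.toRingEquiv g.toRingEquiv (RingHom.ext fun e => hcomm e) (v : M)
        rw [hv] at this
        have h2 := congrArg σ.toRingEquiv this
        rw [RingEquiv.apply_symm_apply] at h2
        exact h2.symm
      let d : Mˣ := v / Units.map (g : M →* M) v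
      have hd : Algebra.norm E₁ ((u / d : Mˣ) : M) = 1 := by
        have hdd : Algebra.norm E₁ (d : M) = Algebra.norm E₁ (u : M) := by
          show Algebra.norm E₁ ((v / Units.map (g : M →* M) v : Mˣ) : M) = _
          rw [Units.val_div_eq_div_val, div_eq_mul_inv, map_mul, Algebra.norm_inv, hv]
          show (w : E₁) * (Algebra.norm E₁ (g (v : M)))⁻¹ = _
          rw [hgv, ← div_eq_mul_inv, hw]
        rw [Units.val_div_eq_div_val, div_eq_mul_inv, map_mul, Algebra.norm_inv, hdd]
        exact mul_inv_cancel₀ (Algebra.norm_ne_zero_iff.2 u.ne_zero)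
      have h3 := mul_mem (augSub_le E E₁ M (hk _ hd)) (augSub_mem E v g)
      rwa [show u / d * (v / Units.map (g : M →* M) v) = u from div_mul_cancel u d] at h3

/-- Norms of Galois extensions are surjective and their kernels are generated by the `w / g w`. -/
theorem galois_norm (K L : Type u) [Field K] [Field L] [Algebra K L] [FiniteDimensional K L] [IsGalois K L]
    (hK : NormSurj K) :
    (∀ a : Kˣ, ∃ b : Lˣ, Algebra.norm K (b : L) = (a : K)) ∧
      ∀ u : Lˣ, Algebra.norm K (u : L) = 1 → u ∈ augSub K L := by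
  classical
  refine ⟨fun a => ?_, fun u hu => ?_⟩
  · obtain ⟨b, hb⟩ : a ∈ (Units.map (Algebra.norm K : L →* K)).range := mem_of_pow_mem _ _ fun p hp => by
      haveI := Fact.mk hp
      let P : Sylow p (L ≃ₐ[K] L) := default
      let E := IntermediateField.fixedField (P : Subgroup (L ≃ₐ[K] L))
      obtain ⟨N, hN⟩ := IsPGroup.iff_card.1 P.isPGroup'
      have hLE : Module.finrank E L = p ^ N := (IntermediateField.finrank_fixedField_eq_card _).trans hN
      have hE : Module.finrank K E = (P : Subgroup (L ≃ₐ[K] L)).index := by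
        refine Nat.eq_of_mul_eq_mul_right (Module.finrank_pos : 0 < Module.finrank E L) ?_
        rw [Module.finrank_mul_finrank, hLE, ← hN, Subgroup.index_mul_card, IsGalois.card_aut_eq_finrank]
      haveI : IsGalois E L := IsGalois.tower_top_intermediateField E
      obtain ⟨c, hc⟩ := (pgroup_norm p hp N E L (hK.of_finite E) hLE).1 (Units.map (algebraMap K E : K →* E) a)
      refine ⟨_, P.not_dvd_index, c, Units.ext ?_⟩
      show Algebra.norm K (c : L) = ((a ^ _ : Kˣ) : K)
      rw [← Algebra.norm_norm (S := E), hc, Units.val_pow_eq_pow_val, ← hE]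
      exact Algebra.norm_algebraMap (a : K)
    exact ⟨b, congrArg Units.val hb⟩
  · refine mem_of_pow_mem _ _ fun p hp => ?_
    haveI := Fact.mk hp
    let P : Sylow p (L ≃ₐ[K] L) := default
    let E := IntermediateField.fixedField (P : Subgroup (L ≃ₐ[K] L))
    obtain ⟨N, hN⟩ := IsPGroup.iff_card.1 P.isPGroup'
    have hLE : Module.finrank E L = p ^ N := (IntermediateField.finrank_fixedField_eq_card _).trans hN
    haveI : IsGalois E L := IsGalois.tower_top_intermediateField E
    haveI : Fintype ((L ≃ₐ[K] L) ⧸ (P : Subgroup (L ≃ₐ[K] L))) := Fintype.ofFinite _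
    let C : Lˣ := ∏ q : (L ≃ₐ[K] L) ⧸ (P : Subgroup (L ≃ₐ[K] L)), Units.map ((Quotient.out q)⁻¹ : L ≃ₐ[K] L).toMonoidHom u
    have hC : u ^ Nat.card ((L ≃ₐ[K] L) ⧸ (P : Subgroup (L ≃ₐ[K] L))) / C ∈ augSub K L := by
      rw [Nat.card_eq_fintype_card, ← Finset.card_univ, ← Finset.prod_const, ← Finset.prod_div_distrib]
      exact Subgroup.prod_mem _ fun q _ => augSub_mem K u (Quotient.out q)⁻¹
    have hnorm : Algebra.norm E (C : L) = 1 := by
      apply (algebraMap E L).injective
      rw [map_one, Algebra.norm_eq_prod_automorphisms]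
      have hprod : ∏ g : L ≃ₐ[K] L, g⁻¹ (u : L) = 1 := by
        rw [Fintype.prod_equiv (Equiv.inv _) (fun g : L ≃ₐ[K] L => g⁻¹ (u : L)) (fun g => g (u : L)) (fun g => rfl),
          ← Algebra.norm_eq_prod_automorphisms, hu, map_one]
      let e : ((L ≃ₐ[K] L) ⧸ (P : Subgroup (L ≃ₐ[K] L))) × (P : Subgroup (L ≃ₐ[K] L)) ≃ (L ≃ₐ[K] L) :=
        { toFun := fun x => Quotient.out x.1 * x.2
          invFun := fun g => ((g : (L ≃ₐ[K] L) ⧸ (P : Subgroup (L ≃ₐ[K] L))),
            ⟨(Quotient.out (g : (L ≃ₐ[K] L) ⧸ (P : Subgroup (L ≃ₐ[K] L))))⁻¹ * g,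
              QuotientGroup.eq.1 (QuotientGroup.out_eq' _)⟩)
          left_inv := fun ⟨q, h⟩ => by
            have hq : ((Quotient.out q * (h : L ≃ₐ[K] L) : L ≃ₐ[K] L) : (L ≃ₐ[K] L) ⧸ (P : Subgroup (L ≃ₐ[K] L))) = q :=
              (QuotientGroup.mk_mul_of_mem _ h.2).trans (QuotientGroup.out_eq' q)
            refine Prod.ext hq (Subtype.ext ?_)
            show (Quotient.out _)⁻¹ * (Quotient.out q * (h : L ≃ₐ[K] L)) = h
            rw [hq, inv_mul_cancel_left]
          right_inv := fun g => mul_inv_cancel_left _ _ }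
      let eP : (P : Subgroup (L ≃ₐ[K] L)) ≃ (L ≃ₐ[E] L) :=
        ((Equiv.inv _).trans (IntermediateField.subgroupEquivAlgEquiv _).toEquiv)
      rw [← eP.prod_comp]
      simp only [C, Units.coe_prod, Units.coe_map, map_prod]
      rw [Finset.prod_comm, ← Fintype.prod_prod_type']
      rw [← hprod, ← e.prod_comp (fun g : L ≃ₐ[K] L => g⁻¹ (u : L))]
      refine Finset.prod_congr rfl fun x _ => ?_
      show _ = ((Quotient.out x.1 * x.2 : L ≃ₐ[K] L))⁻¹ (u : L)
      rw [mul_inv_rev]
      rfl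
    refine ⟨_, P.not_dvd_index, ?_⟩
    have h3 := mul_mem hC (augSub_le K E L ((pgroup_norm p hp N E L (hK.of_finite E) hLE).2 C hnorm))
    rwa [div_mul_cancel] at h3

end Groth.Agent.EtTraceLib
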