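import Groth.Agent.EtTraceLib.GenFibre
import Groth.Agent.RefOne.WeilPrincipal
import Groth.Agent.RefOne.Support
import Groth.Agent.NormalRefLib.Basic
import Groth.Agent.EtStalk.Basic
import Groth.Agent.AffLim.Integral

/-!
# Orders of sections of `j_* G_m` at points of codimension one of étale schemes
-/

set_option autoImplicit false
set_option backward.isDefEq.respectTransparency false
set_option backward.isDefEq.respectTransparency.types false
set_option linter.style.haveILetI false
set_option maxHeartbeats 1000000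

universe u

open CategoryTheory CategoryTheory.Limits AlgebraicGeometry Opposite IsLocalRing

noncomputable section

namespace Groth.Agent.EtTraceLib

open EtPtsLib RefOne

theorem coheight_eq_one_iff {Y : Scheme.{u}} {z : Y} :
    Order.coheight z = 1 ↔ ringKrullDim (Y.presheaf.stalk z) = 1 := by
  rw [ringKrullDim_stalk_eq_coheight]
  exact ⟨fun h => by rw [h]; rfl, fun h => WithBot.coe_injective (h.trans WithBot.coe_one.symm)⟩

section Integral

variable {A B : Scheme.{u}} [IsIntegral A] [IsIntegral B]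

theorem ffEt_toK (g : A ⟶ B) [AlgebraicGeometry.Etale g] (a : A) (b : B.presheaf.stalk (g a)) :
    ffEt g (toK (g a) b) = toK a (g.stalkMap a b) := by
  obtain ⟨O, hO, s, rfl⟩ := B.presheaf.exists_germ_eq b
  rw [toK_germ]
  erw [ffEt_germ]
  erw [Scheme.Hom.germ_stalkMap_apply g O a hO s]
  rw [toK_germ]

theorem coheight_map_etale [IsLocallyNoetherian B] (g : A ⟶ B) [AlgebraicGeometry.Etale g] {a : A}
    (ha : Order.coheight a = 1) : Order.coheight (g a) = 1 := by
  rw [coheight_eq_one_iff, ← (EtStalk.dim_and_regular g a).1, ← coheight_eq_one_iff]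
  exact ha

/-- Étale morphisms do not change orders. -/
theorem ord_ffEt [IsLocallyNoetherian A] [IsLocallyNoetherian B] (hA : Pi1.IsNormalScheme A)
    (hB : Pi1.IsNormalScheme B) (g : A ⟶ B) [AlgebraicGeometry.Etale g] {a : A} (ha : Order.coheight a = 1)
    {c : B.functionField} (hc : c ≠ 0) :
    Scheme.ord (show A.functionField from ffEt g c) a = Scheme.ord c (g a) := by
  have hb := coheight_map_etale g ha
  haveI := isDVR hB hb
  obtain ⟨π, hπ⟩ := IsDiscreteValuationRing.exists_irreducible (B.presheaf.stalk (g a))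
  have hm : maximalIdeal (A.presheaf.stalk a) = Ideal.span {g.stalkMap a π} := by
    rw [← EtStalk.map_maximalIdeal g a, hπ.maximalIdeal_eq, Ideal.map_span, Set.image_singleton]
  have hπ0 : (show B.functionField from toK (g a) π) ≠ 0 := toK_ne_zero hπ.ne_zero
  have key : ∀ b : B.presheaf.stalk (g a), b ≠ 0 →
      Scheme.ord (show A.functionField from ffEt g (toK (g a) b)) a =
        Scheme.ord (show B.functionField from toK (g a) b) (g a) := by
    intro b hb0
    obtain ⟨n, hn⟩ := IsDiscreteValuationRing.associated_pow_irreducible hb0 hπ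
    obtain ⟨u, hu⟩ := hn.symm
    have hu' : IsUnit (u : B.presheaf.stalk (g a)) := u.isUnit
    have hσ : IsUnit (g.stalkMap a (u : B.presheaf.stalk (g a))) := hu'.map (g.stalkMap a).hom
    have hπA : (show A.functionField from toK a (g.stalkMap a π)) ≠ 0 := toK_ne_zero fun h0 => by
      rw [h0, Ideal.span_singleton_eq_bot.2 rfl] at hm
      haveI := isDVR hA ha
      exact IsDiscreteValuationRing.not_a_field _ hm
    rw [← hu, map_mul, map_mul, map_pow, map_pow, ffEt_toK, ffEt_toK]
    erw [Scheme.ord_mul (x := a) (pow_ne_zero n hπA) (toK_ne_zero hσ.ne_zero),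
      Scheme.ord_mul (x := g a) (pow_ne_zero n hπ0) (toK_ne_zero hu'.ne_zero),
      scheme_ord_toK_unit ha hσ, scheme_ord_toK_unit hb hu']
    rw [← zpow_natCast, ← zpow_natCast, ord_zpow a hπA, ord_zpow (g a) hπ0, ord_uniformizer hA ha hm,
      ord_uniformizer hB hb hπ.maximalIdeal_eq]
  obtain ⟨p, q, hq, hpq⟩ := exists_div (g a) c
  have hq' : (show B.functionField from toK (g a) q) ≠ 0 := toK_ne_zero hq
  have hp : p ≠ 0 := by
    rintro rfl
    rw [map_zero] at hpq
    exact (mul_ne_zero hq' hc) hpq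
  have hqA : (show A.functionField from ffEt g (toK (g a) q)) ≠ 0 := (map_ne_zero (ffEt g).hom).2 hq'
  have hcA : (show A.functionField from ffEt g c) ≠ 0 := (map_ne_zero (ffEt g).hom).2 hc
  have h1 := Scheme.ord_mul (x := g a) hq' hc
  have h2 := Scheme.ord_mul (x := a) hqA hcA
  rw [hpq] at h1
  have h3 : (show A.functionField from ffEt g (toK (g a) q)) * (show A.functionField from ffEt g c) =
      (show A.functionField from ffEt g (toK (g a) p)) := by
    rw [← hpq]
    exact (map_mul (ffEt g).hom _ _).symm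
  rw [h3, key p hp, key q hq, h1] at h2
  linarith

end Integral

/-- All local rings are regular. -/
abbrev RegularScheme (Y : Scheme.{u}) : Prop := ∀ y : Y, IsRegularLocalRing (Y.presheaf.stalk y)

variable {X : Scheme.{u}} [IsLocallyNoetherian X]

instance isLocallyNoetherian_etale (V : X.Etale) : IsLocallyNoetherian V.left :=
  LocallyOfFiniteType.isLocallyNoetherian (str V)

theorem regular_etale (hreg : RegularScheme X) (V : X.Etale) : RegularScheme V.left := fun z =>
  (EtStalk.dim_and_regular (str V) z).2.2 (hreg _)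

theorem normal_etale (hreg : RegularScheme X) (U : X.Etale) [IsIntegral U.left] : Pi1.IsNormalScheme U.left :=
  NormalRefLib.normal_of_regular (regular_etale hreg U)

theorem coheight_str {V : X.Etale} {z : V.left} :
    Order.coheight z = 1 ↔ ringKrullDim (X.presheaf.stalk (str V z)) = 1 := by
  rw [coheight_eq_one_iff, (EtStalk.dim_and_regular (str V) z).1]

/-- An integral open neighbourhood. -/
theorem exists_intNbhd (hreg : RegularScheme X) (V : X.Etale) (z : V.left) :
    ∃ W : V.left.Opens, z ∈ W ∧ IsIntegral (openSub V W).left :=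
  haveI := regular_etale hreg V z
  haveI := Groth.Agent.RegLocal.isDomain (V.left.presheaf.stalk z)
  AffLim.exists_isIntegral_nhd z

theorem isIntegral_openSub (U : X.Etale) [IsIntegral U.left] {W : U.left.Opens} {z : U.left} (hz : z ∈ W) :
    IsIntegral (openSub U W).left :=
  haveI : Nonempty (openSub U W).left := ⟨(⟨z, hz⟩ : W.toScheme)⟩
  isIntegral_of_isOpenImmersion W.ι

variable [IsIntegral X]

/-- Sections of `j_* G_m`. -/
abbrev RSect (V : X.Etale) : Type (u + 1) :=
  EtCoh.sect ((EtCoh.push (jη X)).obj (EtCoh.Gm (Spec (X.presheaf.stalk (genericPoint X))))) V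

/-- Restriction of sections of `j_* G_m`. -/
abbrev rRes {V V' : X.Etale} (g : V' ⟶ V) (s : RSect V) : RSect V' :=
  ((EtCoh.push (jη X)).obj (EtCoh.Gm (Spec (X.presheaf.stalk (genericPoint X))))).obj.map g.op s

/-- The order of a section of `j_* G_m` at a point. -/
def ordAt (hreg : RegularScheme X) (V : X.Etale) (s : RSect V) (z : V.left) : ℤ :=
  haveI := (exists_intNbhd hreg V z).choose_spec.2
  Scheme.ord (X := (openSub V (exists_intNbhd hreg V z).choose).left)
    (ρval (openSub V (exists_intNbhd hreg V z).choose) (rRes (openIncl V _) s))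
    ⟨z, (exists_intNbhd hreg V z).choose_spec.1⟩

theorem rRes_comp {V V' V'' : X.Etale} (g : V' ⟶ V) (g' : V'' ⟶ V') (s : RSect V) :
    rRes (g' ≫ g) s = rRes g' (rRes g s) := by
  show _ = ((EtCoh.push (jη X)).obj _).obj.map g'.op (((EtCoh.push (jη X)).obj _).obj.map g.op s)
  rw [← Functor.map_comp_apply, ← op_comp]

theorem ord_ρval_map (hreg : RegularScheme X) {U U' : X.Etale} [IsIntegral U.left] [IsIntegral U'.left] (g : U' ⟶ U)
    (t : RSect U) {a : U'.left} (ha : Order.coheight a = 1) :
    Scheme.ord (ρval U' (rRes g t)) a = Scheme.ord (ρval U t) (g.left a) := by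
  haveI := etale_left g
  rw [rRes, ρval_map U g t]
  exact ord_ffEt (normal_etale hreg U') (normal_etale hreg U) g.left ha (ρval_ne_zero U t)

/-- The order may be computed on any integral étale scheme over `V`. -/
theorem ordAt_eq (hreg : RegularScheme X) {V U : X.Etale} [IsIntegral U.left] (g : U ⟶ V) (s : RSect V)
    {a : U.left} (ha : Order.coheight a = 1) :
    ordAt hreg V s (g.left a) = Scheme.ord (ρval U (rRes g s)) a := by
  haveI := (exists_intNbhd hreg V (g.left a)).choose_spec.2
  set W := (exists_intNbhd hreg V (g.left a)).choose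
  have hW : g.left a ∈ W := (exists_intNbhd hreg V (g.left a)).choose_spec.1
  haveI : IsIntegral (openSub U (g.left ⁻¹ᵁ W)).left := isIntegral_openSub U (z := a) hW
  have hr : Set.range ((g.left ⁻¹ᵁ W).ι ≫ g.left) ⊆ Set.range W.ι := by
    rintro _ ⟨w, rfl⟩
    rw [Scheme.Opens.range_ι]
    exact w.2
  let l : (openSub U (g.left ⁻¹ᵁ W)).left ⟶ (openSub V W).left :=
    IsOpenImmersion.lift W.ι ((g.left ⁻¹ᵁ W).ι ≫ g.left) hr
  have hl : l ≫ W.ι = (g.left ⁻¹ᵁ W).ι ≫ g.left := IsOpenImmersion.lift_fac _ _ hr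
  let g' : openSub U (g.left ⁻¹ᵁ W) ⟶ openSub V W := MorphismProperty.Over.homMk l (by
    show l ≫ W.ι ≫ V.hom = (g.left ⁻¹ᵁ W).ι ≫ U.hom
    rw [← Category.assoc, hl, Category.assoc]
    exact congrArg (_ ≫ ·) (Over.w g.hom))
  have hsq : g' ≫ openIncl V W = openIncl U (g.left ⁻¹ᵁ W) ≫ g := MorphismProperty.Over.Hom.ext hl
  let a' : (openSub U (g.left ⁻¹ᵁ W)).left := ⟨a, hW⟩
  haveI := etale_left g'
  have ha' : Order.coheight a' = 1 := by
    rw [coheight_str] at ha ⊢
    exact ha
  have hga : g'.left a' = (⟨g.left a, hW⟩ : W.toScheme) := by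
    apply Subtype.ext
    exact congrArg (fun m : (openSub U (g.left ⁻¹ᵁ W)).left ⟶ V.left => m a') hl
  show Scheme.ord (X := (openSub V W).left) (ρval (openSub V W) (rRes (openIncl V W) s)) ⟨g.left a, hW⟩ = _
  rw [← hga, ← ord_ρval_map hreg g' _ ha', ← rRes_comp, hsq, rRes_comp,
    ord_ρval_map hreg (openIncl U (g.left ⁻¹ᵁ W)) _ ha']
  rfl

theorem ordAt_add (hreg : RegularScheme X) (V : X.Etale) (s t : RSect V) (z : V.left) :
    ordAt hreg V (s + t) z = ordAt hreg V s z + ordAt hreg V t z := by
  haveI := (exists_intNbhd hreg V z).choose_spec.2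
  unfold ordAt
  rw [rRes, map_add, ρval_add]
  exact Scheme.ord_mul (ρval_ne_zero _ _) (ρval_ne_zero _ _)

theorem ordAt_map (hreg : RegularScheme X) {V V' : X.Etale} (g : V' ⟶ V) (s : RSect V) {z : V'.left}
    (hz : ringKrullDim (X.presheaf.stalk (str V' z)) = 1) :
    ordAt hreg V' (rRes g s) z = ordAt hreg V s (g.left z) := by
  obtain ⟨W, hzW, hW⟩ := exists_intNbhd hreg V' z
  haveI := hW
  let a : (openSub V' W).left := ⟨z, hzW⟩
  have ha : Order.coheight a = 1 := coheight_str.2 hz
  have h1 := ordAt_eq hreg (openIncl V' W) (rRes g s) ha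
  have h2 := ordAt_eq hreg (openIncl V' W ≫ g) s ha
  exact h1.trans ((congrArg (fun t => Scheme.ord (ρval (openSub V' W) t) a)
    (rRes_comp g (openIncl V' W) s).symm).trans h2.symm)

/-- The order of a section of `G_m` is zero. -/
theorem ordAt_GmPush (hreg : RegularScheme X) (V : X.Etale) (b : EtCoh.sect (EtCoh.Gm X) V) {z : V.left}
    (hz : ringKrullDim (X.presheaf.stalk (str V z)) = 1) :
    ordAt hreg V ((EtLim.GmPush (jη X)).hom.app (op V) b) z = 0 := by
  obtain ⟨W, hzW, hW⟩ := exists_intNbhd hreg V z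
  haveI := hW
  let a : (openSub V W).left := ⟨z, hzW⟩
  have ha : Order.coheight a = 1 := coheight_str.2 hz
  refine (ordAt_eq hreg (openIncl V W) _ ha).trans ?_
  rw [rRes, ← NatTrans.naturality_apply, ρval_GmPush,
    ← toK_germ (U := (⊤ : (openSub V W).left.Opens)) a trivial]
  exact scheme_ord_toK_unit ha ((gmVal _ _).isUnit.map _)

/-- Locally only finitely many codimension one points have nonzero order. -/
theorem exists_finite_nbhd (hreg : RegularScheme X) (V : X.Etale) (s : RSect V) (z : V.left) :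
    ∃ W : V.left.Opens, z ∈ W ∧
      {w : V.left | w ∈ W ∧ Order.coheight w = 1 ∧ ordAt hreg V s w ≠ 0}.Finite := by
  obtain ⟨W, hzW, hW⟩ := exists_intNbhd hreg V z
  haveI := hW
  let N := (openSub V W).left
  let f := ρval (openSub V W) (rRes (openIncl V W) s)
  obtain ⟨O, hO, b, hb⟩ := N.presheaf.exists_germ_eq f
  let O' : N.Opens := N.basicOpen b
  have hgO' : genericPoint N ∈ O' := by
    rw [Scheme.mem_basicOpen N b _ hO]
    rw [hb]
    exact IsUnit.mk0 (show N.functionField from f) (ρval_ne_zero _ _)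
  obtain ⟨_, ⟨A, hA, rfl⟩, hzA, -⟩ :=
    N.isBasis_affineOpens.exists_subset_of_mem_open (Set.mem_univ (⟨z, hzW⟩ : N)) isOpen_univ
  have hfin : {y : N | Order.coheight y = 1 ∧ y ∈ A ∧ Scheme.ord (show N.functionField from f) y ≠ 0}.Finite := by
    refine (finite_codim_one_compl O' hgO' hA).subset fun y hy => ⟨hy.1, hy.2.1, fun hyO => hy.2.2 ?_⟩
    have hyO' : y ∈ O := N.basicOpen_le b hyO
    rw [Scheme.mem_basicOpen N b _ hyO'] at hyO
    rw [← hb, ← toK_germ y hyO']
    exact scheme_ord_toK_unit hy.1 hyO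
  refine ⟨W.ι ''ᵁ A, ⟨⟨z, hzW⟩, hzA, rfl⟩, (hfin.image W.ι).subset ?_⟩
  rintro _ ⟨⟨y, hyA, rfl⟩, hy1, hy2⟩
  have hy1' : Order.coheight y = 1 := by
    rw [coheight_str] at hy1
    exact (coheight_str (V := openSub V W) (z := y)).2 hy1
  refine ⟨y, ⟨hy1', hyA, ?_⟩, rfl⟩
  rw [ne_eq, ← ordAt_eq hreg (openIncl V W) s hy1']
  exact hy2

end Groth.Agent.EtTraceLib
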