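import Groth.Agent.FEtLib.Split
import Groth.Agent.EtFibCard.Basic
import Groth.Agent.EtPtsLib.Conditions

/-!
# Finite étale morphisms of constant degree are split by a finite étale surjective base change
-/

set_option autoImplicit false
set_option backward.isDefEq.respectTransparency false
set_option backward.isDefEq.respectTransparency.types false
set_option linter.style.haveILetI false
set_option maxHeartbeats 1000000

universe u

open CategoryTheory CategoryTheory.Limits AlgebraicGeometry Opposite

noncomputable section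

namespace Groth.Agent.EtTraceLib

variable {X' X : Scheme.{u}} (π : X' ⟶ X) [IsFinite π] [AlgebraicGeometry.Etale π]

/-- All geometric fibres have `d` points. -/
def HasDegree (d : ℕ) : Prop :=
  ∀ (Ω : Type u) [Field Ω] [IsAlgClosed Ω] (ξ : Spec (CommRingCat.of Ω) ⟶ X), Nat.card ↥(pullback π ξ) = d

theorem hasDegree_of_finrank (d : ℕ) (hd : ∀ x : X, π.finrank x = d) : HasDegree π d := fun Ω _ _ ξ => by
  have h := EtFibCard.card_points_eq_finrank (pullback.snd π ξ) (IsLocalRing.closedPoint Ω)
  rw [Scheme.Hom.finrank_pullback_snd, hd] at h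
  exact (congrArg ENat.toNat h).trans rfl

/-- The cover as an object. -/
abbrev cover : FEt.Cat X := MorphismProperty.Over.mk ⊤ π ⟨inferInstance, inferInstance⟩

theorem card_fib {d : ℕ} (h : HasDegree π d) (Ω : Type u) [Field Ω] [IsAlgClosed Ω]
    (ξ : Spec (CommRingCat.of Ω) ⟶ X) : Nat.card (FEtLib.Fib ξ (cover π)) = d := by
  let P := pullback π ξ
  let q : P ⟶ Spec (CommRingCat.of Ω) := pullback.snd π ξ
  haveI : DiscreteTopology P := by
    haveI : LocallyQuasiFinite q := EtFibCard.locallyQuasiFinite_of_etale q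
    have h := q.isDiscrete_preimage_singleton default
    rw [show ⇑q ⁻¹' {default} = Set.univ from Set.eq_univ_of_forall fun y => Subsingleton.elim _ _] at h
    haveI := h.to_subtype
    exact (Homeomorph.Set.univ P).discreteTopology
  let e₁ : FEtLib.Fib ξ (cover π) ≃ {p : Spec (CommRingCat.of Ω) ⟶ P // p ≫ q = 𝟙 _} :=
    { toFun := fun a => ⟨pullback.lift a.left (𝟙 _) ((FEtLib.fib_w a).trans (Category.id_comp _).symm),
        pullback.lift_snd _ _ _⟩
      invFun := fun p => FEtLib.fibMk (p.1 ≫ pullback.fst π ξ) (by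
        show (p.1 ≫ pullback.fst π ξ) ≫ π = ξ
        rw [Category.assoc, pullback.condition, ← Category.assoc, p.2, Category.id_comp])
      left_inv := fun a => FEtLib.fib_ext (pullback.lift_fst _ _ _)
      right_inv := fun p => Subtype.ext (pullback.hom_ext (pullback.lift_fst _ _ _)
        ((pullback.lift_snd _ _ _).trans p.2.symm)) }
  have e₂ : closedPoints P ≃ P := Equiv.subtypeUnivEquiv fun x => isClosed_discrete {x}
  rw [Nat.card_congr (e₁.trans ((pointEquivClosedPoint q).trans e₂))]
  exact h Ω ξ

theorem mem_stratum {d : ℕ} (h : HasDegree π d) (x : X) : x ∈ FEtLib.stratum (cover π) d := by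
  obtain ⟨K, _, _, ξ, hξ⟩ := FEtLib.exists_base_point x
  exact hξ ▸ FEtLib.mem_stratum_iff.2 (card_fib π h K ξ)

/-- Splitting data over an étale scheme: `d` disjoint sections covering the inverse image. -/
structure Splitting (d : ℕ) (V : X.Etale) where
  σ : Fin d → (V.left ⟶ ((EtCoh.bc π).obj V).left)
  σ_fst : ∀ i, σ i ≫ pullback.fst V.hom π = 𝟙 _
  disj : ∀ (i j : Fin d) (a b : V.left), σ i a = σ j b → i = j
  cov : ∀ y, ∃ i a, σ i a = y

theorem exists_splitting {d : ℕ} (h : HasDegree π d) (V : X.Etale) :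
    ∃ (V' : X.Etale) (g : V' ⟶ V), Function.Surjective g.left ∧ Nonempty (Splitting π d V') := by
  let Z := cover π
  let T := FEtLib.enum Z d
  haveI : AlgebraicGeometry.Etale T.hom := T.prop.2
  haveI : Surjective T.hom := FEtLib.surjective_enum Z d (mem_stratum π h)
  haveI := FEtLib.isIso_splitMap Z d
  haveI : AlgebraicGeometry.Etale V.hom := V.prop
  let V' : X.Etale := Scheme.Etale.mk (pullback.fst V.hom T.hom ≫ V.hom)
  let g : V' ⟶ V := MorphismProperty.Over.homMk (pullback.fst V.hom T.hom) rfl
  refine ⟨V', g, Surjective.surj (f := pullback.fst V.hom T.hom), ?_⟩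
  let r : V'.left ⟶ T.left := pullback.snd V.hom T.hom
  have hr : r ≫ T.hom = V'.hom := pullback.condition.symm
  let s : Fin d → (T.left ⟶ pullback π T.hom) :=
    fun i => Sigma.ι (fun _ : Fin d => T.left) i ≫ FEtLib.splitMap Z d
  have hsnd : ∀ i, s i ≫ pullback.snd π T.hom = 𝟙 _ := fun i =>
    (Category.assoc _ _ _).trans (FEtLib.ι_splitMap_snd Z d i)
  let σ : Fin d → (V'.left ⟶ ((EtCoh.bc π).obj V').left) := fun i =>
    pullback.lift (𝟙 V'.left) (r ≫ s i ≫ pullback.fst π T.hom) (by
      rw [Category.id_comp]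
      have h1 : (r ≫ s i ≫ pullback.fst π T.hom) ≫ π = r ≫ (s i ≫ pullback.snd π T.hom) ≫ T.hom := by
        simp only [Category.assoc, pullback.condition]
      rw [h1, hsnd i, Category.id_comp, hr])
  let cmp : ((EtCoh.bc π).obj V').left ⟶ pullback π T.hom :=
    pullback.lift (pullback.snd V'.hom π) (pullback.fst V'.hom π ≫ r) (by
      rw [Category.assoc, hr]; exact pullback.condition.symm)
  have hcmp : ∀ i, σ i ≫ cmp = r ≫ s i := fun i => by
    refine pullback.hom_ext ?_ ?_
    · rw [Category.assoc, Category.assoc]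
      refine (congrArg (σ i ≫ ·) (pullback.lift_fst _ _ _)).trans ?_
      exact pullback.lift_snd _ _ _
    · rw [Category.assoc, Category.assoc]
      refine (congrArg (σ i ≫ ·) (pullback.lift_snd _ _ _)).trans ?_
      rw [← Category.assoc, pullback.lift_fst, Category.id_comp]
      exact ((congrArg (r ≫ ·) (FEtLib.ι_splitMap_snd Z d i)).trans (Category.comp_id _)).symm.trans
        (congrArg (r ≫ ·) (Category.assoc _ _ _).symm)
  refine ⟨{ σ := σ, σ_fst := fun i => pullback.lift_fst _ _ _, disj := fun i j a b e => ?_, cov := fun y => ?_ }⟩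
  · have e' : Sigma.ι (fun _ : Fin d => T.left) i (r a) = Sigma.ι (fun _ : Fin d => T.left) j (r b) := by
      apply (FEtLib.splitMap Z d).homeomorph.injective
      have := congrArg cmp e
      rw [← Scheme.Hom.comp_apply, ← Scheme.Hom.comp_apply, hcmp, hcmp] at this
      exact this
    by_contra hij
    exact Set.disjoint_left.1 (TopologicalSpace.Opens.coe_disjoint.2
      (disjoint_opensRange_sigmaι (fun _ : Fin d => T.left) i j hij)) ⟨r a, rfl⟩ ⟨r b, e'.symm⟩
  · obtain ⟨i, t, ht⟩ := (sigmaOpenCover fun _ : Fin d => T.left).exists_eq (inv (FEtLib.splitMap Z d) (cmp y))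
    haveI : IsOpenImmersion (s i) := by
      show IsOpenImmersion (Sigma.ι (fun _ : Fin d => T.left) i ≫ FEtLib.splitMap Z d)
      infer_instance
    have hy : cmp y = s i t := by
      refine Eq.trans ?_ (congrArg (FEtLib.splitMap Z d) ht).symm
      rw [← Scheme.Hom.comp_apply, IsIso.inv_hom_id]
      rfl
    let U : Scheme.Opens ((EtCoh.bc π).obj V').left := cmp ⁻¹ᵁ (s i).opensRange
    let j : U.toScheme ⟶ T.left := IsOpenImmersion.lift (s i) (U.ι ≫ cmp) (by rintro _ ⟨z, rfl⟩; exact z.2)
    have hj : j ≫ s i = U.ι ≫ cmp := IsOpenImmersion.lift_fac _ _ _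
    have hj2 : j = U.ι ≫ pullback.fst V'.hom π ≫ r := by
      have := congrArg (· ≫ pullback.snd π T.hom) hj
      simp only [Category.assoc, cmp, pullback.lift_snd] at this
      refine Eq.trans ?_ this
      exact ((Category.comp_id j).symm.trans (congrArg (j ≫ ·) (FEtLib.ι_splitMap_snd Z d i).symm)).trans
        (congrArg (j ≫ ·) (Category.assoc _ _ _).symm)
    have hU : (U.ι ≫ pullback.fst V'.hom π) ≫ σ i = U.ι := by
      refine pullback.hom_ext ?_ ?_
      · rw [Category.assoc, show σ i ≫ pullback.fst V'.hom π = 𝟙 _ from pullback.lift_fst _ _ _]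
        exact Category.comp_id _
      · rw [Category.assoc, show σ i ≫ pullback.snd V'.hom π = r ≫ s i ≫ pullback.fst π T.hom from pullback.lift_snd _ _ _]
        have := congrArg (· ≫ pullback.fst π T.hom) hj
        simp only [Category.assoc, cmp, pullback.lift_fst, hj2] at this
        simpa only [Category.assoc] using this
    refine ⟨i, pullback.fst V'.hom π y, ?_⟩
    exact congrArg (fun m => m (⟨y, t, hy.symm⟩ : U)) hU

end Groth.Agent.EtTraceLib
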